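import Cfsg.Agent.Lib.Dickson.Main
import Cfsg.Agent.Lib.LinearGroup.SmallPSL

/-!
Transport of `PSL₂` and `PGL₂` along field isomorphisms; small models of finite fields.
-/

set_option autoImplicit false

namespace Cfsg.Agent.Dickson

universe u v w

variable {n : Type w} [DecidableEq n] [Fintype n] {R : Type u} {S : Type v} [CommRing R] [CommRing S]

/-- `PGL n` of isomorphic rings. -/
noncomputable def pglCongr (e : R ≃+* S) :
    Matrix.ProjGenLinGroup n R ≃* Matrix.ProjGenLinGroup n S :=
  MonoidHom.toMulEquiv (Matrix.ProjGenLinGroup.map (n := n) (e : R →+* S))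
    (Matrix.ProjGenLinGroup.map (n := n) (e.symm : S →+* R))
    (by rw [← Matrix.ProjGenLinGroup.map_comp, RingEquiv.symm_comp,
      Matrix.ProjGenLinGroup.map_id])
    (by rw [← Matrix.ProjGenLinGroup.map_comp, RingEquiv.comp_symm,
      Matrix.ProjGenLinGroup.map_id])

theorem exists_field_type0 (T : Type u) [Field T] [Finite T] :
    ∃ (K : Type) (_ : Field K) (_ : Fintype K), Nonempty (T ≃+* K) := by
  let e : Shrink.{0} T ≃ T := (equivShrink.{0} T).symm
  letI := e.field
  haveI : Fintype T := Fintype.ofFinite T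
  exact ⟨Shrink.{0} T, inferInstance, Fintype.ofEquiv T e.symm, ⟨e.ringEquiv.symm⟩⟩

end Cfsg.Agent.Dickson
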