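import Cfsg.Agent.Lib.Dickson.Solvable

/-!
Groups generated by two opposite transvections.
-/

set_option autoImplicit false
set_option linter.unusedSectionVars false

namespace Cfsg.Agent.Dickson

open Matrix MulAction OnePoint
open scoped MatrixGroups

attribute [local instance] Cfsg.Agent.PLocalB.lineAction pslLine

variable {F : Type*} [Field F] [Fintype F]

/-- Elements of a conjugated subfield group have their squared trace in the subfield. -/
theorem sq_trace_mem {D : ProjGenLinGroup (Fin 2) F} {T : Subfield F} {A : SL(2, F)}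
    (h : (QuotientGroup.mk A : PSL2 F) ∈ pullBack D (pglImage T)) : str A ^ 2 ∈ T := by
  obtain ⟨g, hg⟩ := mem_pullBack.mp h
  obtain ⟨M, rfl⟩ := ProjGenLinGroup.mk_surjective g
  obtain ⟨P, rfl⟩ := ProjGenLinGroup.mk_surjective D
  have hg' : ProjGenLinGroup.mk (GeneralLinearGroup.map (n := Fin 2) T.subtype M) =
      ProjGenLinGroup.mk (P⁻¹ * Matrix.SpecialLinearGroup.toGL A * P) := by
    rw [map_mul, map_mul, map_inv, ← ProjGenLinGroup.map_mk]
    exact hg
  obtain ⟨u, hu⟩ := ProjGenLinGroup.mk_eq_mk_iff.mp hg'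
  have hv := congrArg (fun X : GL (Fin 2) F => (X : Matrix (Fin 2) (Fin 2) F)) hu
  simp only [Units.val_mul] at hv
  have htr := congrArg Matrix.trace hv
  have hdt := congrArg Matrix.det hv
  rw [trace_mul_cycle, Units.mul_inv, Matrix.one_mul] at htr
  have hdP : ((P⁻¹ : GL (Fin 2) F) : Matrix (Fin 2) (Fin 2) F).det *
      (P : Matrix (Fin 2) (Fin 2) F).det = 1 := by
    rw [← det_mul, Units.inv_mul, det_one]
  rw [det_mul, det_mul, det_mul] at hdt
  have hA1 : ((Matrix.SpecialLinearGroup.toGL A : GL (Fin 2) F) : Matrix (Fin 2) (Fin 2) F).det = 1 := A.2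
  rw [hA1, mul_one, hdP] at hdt
  have e1 : (u : F) * ((M : Matrix (Fin 2) (Fin 2) T).trace : F) = str A := by
    refine Eq.trans ?_ htr
    simp [trace_fin_two, GeneralLinearGroup.coe_scalar, GeneralLinearGroup.map]
    ring
  have e2 : (u : F) ^ 2 * ((M : Matrix (Fin 2) (Fin 2) T).det : F) = 1 := by
    rw [← hdt]
    simp [det_fin_two, GeneralLinearGroup.coe_scalar, GeneralLinearGroup.map]
    ring
  obtain ⟨uF, huF⟩ : ∃ uF, uF = ((M : Matrix (Fin 2) (Fin 2) T).det : F) := ⟨_, rfl⟩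
  rw [← huF] at e2
  have hne : uF ≠ 0 := fun e => by rw [e, mul_zero] at e2; exact zero_ne_one e2
  have : str A ^ 2 = ((M : Matrix (Fin 2) (Fin 2) T).trace : F) ^ 2 * uF⁻¹ := by
    rw [eq_mul_inv_iff_mul_eq₀ hne, ← e1]
    linear_combination ((M : Matrix (Fin 2) (Fin 2) T).trace : F) ^ 2 * e2
  rw [this, huF]
  exact mul_mem (pow_mem (SetLike.coe_mem _) 2) (inv_mem (SetLike.coe_mem _))

theorem orderOf_eq_four [CharP F 3] {A : SL(2, F)} (h : str A ^ 2 = -1) :
    orderOf (QuotientGroup.mk A : PSL2 F) = 4 := by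
  haveI : Fact (Nat.Prime 2) := ⟨Nat.prime_two⟩
  have h3 : (3 : F) = 0 := by exact_mod_cast CharP.cast_eq_zero F 3
  have h0 : str (A * A) = 0 := by rw [str_sq, h]; linear_combination -h3
  refine orderOf_eq_prime_pow (p := 2) (n := 1) ?_ ?_
  · rw [pow_one, ← QuotientGroup.mk_pow, pow_two A]
    intro e
    rcases eq_or_eq_neg_of_isScalar ((SL2Tor.psl_mk_eq_one_iff _).mp e) with e | e <;>
      rw [e] at h0 <;> simp [str, trace_fin_two] at h0 <;>
      exact one_ne_zero (α := F) (by linear_combination h3 - h0)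
  · rw [show (2 : ℕ) ^ (1 + 1) = 2 * 2 from rfl, pow_mul, ← QuotientGroup.mk_pow, pow_two A]
    refine SL2Tor.psl_pow_eq_one_of_eq_smul (A * A) 2 (-1) ?_
    rw [pow_two, sl_sq, h0]; module

theorem not_orderOf_four_A5 {K : Subgroup (PSL2 F)} (h : Nonempty (K ≃* alternatingGroup (Fin 5)))
    {g : PSL2 F} (hg : g ∈ K) : orderOf g ≠ 4 := fun e => by
  have := orderOf_A5 h hg
  rw [e] at this
  norm_num at this

variable (L U : SL(2, F)) (lam : F)

theorem str_products (hL : (L : Matrix (Fin 2) (Fin 2) F) = !![1, 0; 1, 1])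
    (hU : (U : Matrix (Fin 2) (Fin 2) F) = !![1, lam; 0, 1]) :
    str L = 2 ∧ str U = 2 ∧ str (L * U) = 2 + lam ∧ str (L * L * U) = 2 + 2 * lam := by
  refine ⟨?_, ?_, ?_, ?_⟩ <;>
    simp [str, trace_fin_two, hL, hU] <;> ring

theorem pow_char_L (p : ℕ) [CharP F p] (hL : (L : Matrix (Fin 2) (Fin 2) F) = !![1, 0; 1, 1]) :
    L ^ p = 1 := by
  have h : ∀ n : ℕ, ((L ^ n : SL(2, F)) : Matrix (Fin 2) (Fin 2) F) = !![1, 0; (n : F), 1] := by
    intro n
    induction n with
    | zero => ext i j; fin_cases i <;> fin_cases j <;> simp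
    | succ n ih =>
      rw [pow_succ, Matrix.SpecialLinearGroup.coe_mul, ih, hL]
      ext i j; fin_cases i <;> fin_cases j <;> simp [Matrix.mul_apply, Fin.sum_univ_two]
  apply Subtype.ext
  rw [h, CharP.cast_eq_zero F p]
  ext i j; fin_cases i <;> fin_cases j <;> simp

/-- In the exceptional case the two transvections lie in an `A₅`. -/
theorem le_A5 [CharP F 3] (hq : Fintype.card F = 9)
    (hL : (L : Matrix (Fin 2) (Fin 2) F) = !![1, 0; 1, 1])
    (hU : (U : Matrix (Fin 2) (Fin 2) F) = !![1, lam; 0, 1]) (hlam : lam ^ 2 = -1) :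
    ∃ K : Subgroup (PSL2 F), Nat.card K = 60 ∧ (QuotientGroup.mk L : PSL2 F) ∈ K ∧
      (QuotientGroup.mk U : PSL2 F) ∈ K := by
  have h3 : (3 : F) = 0 := by exact_mod_cast CharP.cast_eq_zero F 3
  obtain ⟨H, hH⟩ := exists_A5_of_dvd (F := F) (by rw [hq]; norm_num)
  obtain ⟨a₀, b₀, ha₀, hb₀, hab₀⟩ : ∃ a b : alternatingGroup (Fin 5),
      (a ^ 3 = 1 ∧ a ≠ 1) ∧ (b ^ 3 = 1 ∧ b ≠ 1) ∧ (a * b) ^ 5 = 1 ∧ a * b ≠ 1 :=
    ⟨⟨Equiv.swap 0 1 * Equiv.swap 1 2, Equiv.Perm.mem_alternatingGroup.mpr (by decide +kernel)⟩,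
      ⟨Equiv.swap 2 3 * Equiv.swap 3 4, Equiv.Perm.mem_alternatingGroup.mpr (by decide +kernel)⟩,
      by decide +kernel⟩
  haveI : Fact (Nat.Prime 3) := ⟨Nat.prime_three⟩
  haveI : Fact (Nat.Prime 5) := ⟨Nat.prime_five⟩
  obtain ⟨e⟩ := id hH
  have ha : orderOf ((e.symm a₀ : H) : PSL2 F) = 3 := by
    rw [Subgroup.orderOf_coe, MulEquiv.orderOf_eq, orderOf_eq_prime ha₀.1 ha₀.2]
  have hb : orderOf ((e.symm b₀ : H) : PSL2 F) = 3 := by
    rw [Subgroup.orderOf_coe, MulEquiv.orderOf_eq, orderOf_eq_prime hb₀.1 hb₀.2]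
  have hab : orderOf (((e.symm a₀ : H) : PSL2 F) * ((e.symm b₀ : H) : PSL2 F)) = 5 := by
    rw [← Subgroup.coe_mul, ← map_mul, Subgroup.orderOf_coe, MulEquiv.orderOf_eq,
      orderOf_eq_prime hab₀.1 hab₀.2]
  obtain ⟨x, hx, hx1⟩ := lift_three ha
  obtain ⟨y, hy, hy1⟩ := lift_three hb
  obtain ⟨w, hw, hw1⟩ := lift_five hab
  have hxyK : ∀ z : SL(2, F), z ∈ ({x, y, y⁻¹} : Set SL(2, F)) →
      (QuotientGroup.mk z : PSL2 F) ∈ H := by
    rintro z (rfl | rfl | rfl)
    · rw [hx]; exact SetLike.coe_mem _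
    · rw [hy]; exact SetLike.coe_mem _
    · rw [QuotientGroup.mk_inv, hy]; exact inv_mem (SetLike.coe_mem _)
  have hinv : str (x * y⁻¹) = 1 - str (x * y) := by
    rw [str, Matrix.SpecialLinearGroup.coe_mul, sl_inv, Matrix.mul_sub, Matrix.mul_smul, Matrix.mul_one,
      trace_sub, trace_smul, hy1, ← Matrix.SpecialLinearGroup.coe_mul]
    show (-1 : F) • str x - str (x * y) = _
    rw [hx1, smul_eq_mul]; ring
  have hu : str (x * y) ^ 2 = str (x * y) + 1 := by
    have e' : (QuotientGroup.mk (x * y) : PSL2 F) = QuotientGroup.mk w := by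
      rw [QuotientGroup.mk_mul, hx, hy, hw]
    rcases mk_eq_mk_iff.mp e' with e'' | e''
    · rw [e'']; exact hw1
    · exfalso
      refine not_orderOf_four_A5 hH (g := (QuotientGroup.mk (x * y⁻¹) : PSL2 F)) ?_ (orderOf_eq_four ?_)
      · rw [QuotientGroup.mk_mul]
        exact mul_mem (hxyK x (Or.inl rfl)) (hxyK _ (Or.inr (Or.inr rfl)))
      · rw [hinv, e'', str_neg]
        linear_combination hw1 + h3 * (str w + 1)
  obtain ⟨sL, sU, sLU, -⟩ := str_products L U lam hL hU
  obtain ⟨y', hy'K, hy'1, hy'x⟩ : ∃ y' : SL(2, F), (QuotientGroup.mk y' : PSL2 F) ∈ H ∧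
      str y' = -1 ∧ str (x * y') = 2 + lam := by
    have h0 : (str (x * y) - (2 + lam)) * (str (x * y) + (2 + lam) - 1) = 0 := by
      linear_combination hu - hlam - (1 + lam) * h3 + h3
    rcases mul_eq_zero.mp h0 with h | h
    · exact ⟨y, hxyK y (Or.inr (Or.inl rfl)), hy1, sub_eq_zero.mp h⟩
    · exact ⟨y⁻¹, hxyK _ (Or.inr (Or.inr rfl)), by rw [str_inv, hy1], by
        rw [hinv]; linear_combination -h⟩
  obtain ⟨D, h1, h1'⟩ := conj_into_gen (H.map (toP F)) L U one_ne_zero
    (Matrix.SpecialLinearGroup.toGL x) (Matrix.SpecialLinearGroup.toGL y')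
    ⟨_, hxyK x (Or.inl rfl), rfl⟩ ⟨_, hy'K, rfl⟩
    (by show str x = 1 * str L; rw [hx1, sL]; linear_combination -h3)
    (by show (x : Matrix (Fin 2) (Fin 2) F).det = 1 ^ 2; rw [x.2, one_pow])
    (by show str y' = str U; rw [hy'1, sU]; linear_combination -h3)
    y'.2
    (by
      show ((x : Matrix (Fin 2) (Fin 2) F) * (y' : Matrix (Fin 2) (Fin 2) F)).trace = 1 * str (L * U)
      rw [← Matrix.SpecialLinearGroup.coe_mul, one_mul, sLU]; exact hy'x)
    (by
      show str (L * U) ^ 2 - str L * str U * str (L * U) + str L ^ 2 + str U ^ 2 ≠ 4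
      rw [sL, sU, sLU]
      intro e
      exact one_ne_zero (α := F) (by linear_combination hlam - e))
  refine ⟨_, ?_, h1, h1'⟩
  obtain ⟨e'⟩ := exists_pullBack_equiv D (S := H.map (toP F)) (Subgroup.map_le_range _ _)
  rw [Nat.card_congr e'.toEquiv, Subgroup.card_map_of_injective toP_injective,
    Nat.card_congr e.toEquiv, card_A5]

/-- The classification of the image in `PSL₂`. -/
theorem transvection_image (h2 : (2 : F) ≠ 0) (hlam : lam ≠ 0)
    (hgen : Subfield.closure ({lam} : Set F) = ⊤)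
    (hL : (L : Matrix (Fin 2) (Fin 2) F) = !![1, 0; 1, 1])
    (hU : (U : Matrix (Fin 2) (Fin 2) F) = !![1, lam; 0, 1])
    (K : Subgroup (PSL2 F)) (hLK : (QuotientGroup.mk L : PSL2 F) ∈ K)
    (hUK : (QuotientGroup.mk U : PSL2 F) ∈ K) :
    K = ⊤ ∨ (Fintype.card F = 9 ∧ lam ^ 2 = -1 ∧ Nat.card K = 60) := by
  classical
  obtain ⟨p, hp⟩ := CharP.exists F
  obtain ⟨⟨n, hn0⟩, hpp, hqn⟩ := FiniteField.card F p
  replace hqn : Fintype.card F = p ^ n := hqn
  haveI := Fact.mk hpp
  have hp2 : p ≠ 2 := fun e => h2 (by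
    have := CharP.cast_eq_zero F p
    rw [e] at this
    exact_mod_cast this)
  obtain ⟨-, -, sLU, sLLU⟩ := str_products L U lam hL hU
  have hdet : (U : Matrix (Fin 2) (Fin 2) F) 1 0 = 0 := by rw [hU]; rfl
  have hordL : orderOf (QuotientGroup.mk L : PSL2 F) = p := by
    refine orderOf_eq_prime (by rw [← QuotientGroup.mk_pow, pow_char_L L p hL, QuotientGroup.mk_one]) ?_
    intro e
    have := ((SL2Tor.psl_mk_eq_one_iff L).mp e).2.1
    simp [hL] at this
  have hGc := card_psl_eq (F := F)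
  have hq2 : Fintype.card F % 2 = 1 := by
    rw [hqn, Nat.pow_mod, hpp.eq_two_or_odd.resolve_left hp2]; simp
  have hd : Nat.gcd 2 (Fintype.card F - 1) = 2 := by
    rcases d_even_or_odd (F := F) with ⟨-, h⟩ | ⟨h, -⟩
    · omega
    · exact h
  rw [hd] at hGc
  -- squared traces generate the field
  have full : ∀ (D : ProjGenLinGroup (Fin 2) F) (T : Subfield F), K ≤ pullBack D (pglImage T) →
      Nat.card T = Fintype.card F := by
    intro D T hle
    have h1 := sq_trace_mem (hle (mul_mem hLK hUK : (QuotientGroup.mk (L * U) : PSL2 F) ∈ K))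
    have h1' := sq_trace_mem (hle (mul_mem (mul_mem hLK hLK) hUK :
      (QuotientGroup.mk (L * L * U) : PSL2 F) ∈ K))
    rw [sLU] at h1
    rw [sLLU] at h1'
    have h8 : (8 : F) * lam ∈ T := by
      have h12 : (12 : F) ∈ T := by
        rw [show (12 : F) = ((12 : ℕ) : F) by norm_num]; exact natCast_mem T 12
      have h4 : (4 : F) ∈ T := by
        rw [show (4 : F) = ((4 : ℕ) : F) by norm_num]; exact natCast_mem T 4
      have := sub_mem (sub_mem (mul_mem h4 h1) h1') h12
      convert this using 1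
      ring
    have h80 : (8 : F) ≠ 0 := by
      rw [show (8 : F) = 2 ^ 3 by norm_num]; exact pow_ne_zero _ h2
    have hlT : lam ∈ T := by
      have h8T : (8 : F) ∈ T := by
        rw [show (8 : F) = ((8 : ℕ) : F) by norm_num]; exact natCast_mem T 8
      have := mul_mem (inv_mem h8T) h8
      rwa [inv_mul_cancel_left₀ h80] at this
    have hT : T = ⊤ := top_le_iff.mp (hgen ▸ Subfield.closure_le.mpr (by simpa using hlT))
    rw [hT, ← Nat.card_eq_fintype_card (α := F)]
    exact Nat.card_congr Subfield.topEquiv.toEquiv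
  rcases subgroup_cases p K with ⟨w, hw⟩ | ⟨N, k, hN, hle⟩ | hA4 | hS4 | hA5 | ⟨T, hT⟩
  · exfalso
    have hUu : IsUni (∞ : OnePoint F) (QuotientGroup.mk U : PSL2 F) :=
      (isUni_infty_iff hdet).mpr (by rw [hU]; simp)
    have hU1 : (QuotientGroup.mk U : PSL2 F) ≠ 1 := fun e => by
      have := ((SL2Tor.psl_mk_eq_one_iff U).mp e).1
      simp [hU] at this
      exact hlam this
    have hwi : w = ∞ := (hUu.resolve_left hU1 w).mp (hw hUK)
    have := (PLocalB.smul_infty_iff L).mp (show L • (∞ : OnePoint F) = ∞ from by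
      rw [← mk_smul, ← hwi]; exact hw hLK)
    simp [hL] at this
  · exfalso
    obtain ⟨hk2, ⟨e⟩, -, hk⟩ := hN
    rw [hd] at hk
    have hpk : p ∣ k := by
      have ho : orderOf (e ⟨_, hle hLK⟩) = p := by
        rw [MulEquiv.orderOf_eq, Subgroup.orderOf_mk, hordL]
      haveI : NeZero k := ⟨by omega⟩
      rcases hx : e ⟨_, hle hLK⟩ with i | i <;> rw [hx] at ho
      · rw [← ho, DihedralGroup.orderOf_r]; exact Nat.div_dvd_of_dvd (Nat.gcd_dvd_left _ _)
      · rw [DihedralGroup.orderOf_sr] at ho; exact absurd ho.symm hp2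
    have hpq : p ∣ Fintype.card F := hqn ▸ dvd_pow_self p hn0.ne'
    have h1 : p ∣ 1 := by
      rcases hk with hk | hk
      · have := Nat.dvd_sub hpq (hpk.trans (Dvd.intro_left 2 hk))
        have hq1 := Fintype.one_lt_card (α := F)
        rwa [Nat.sub_sub_self hq1.le] at this
      · exact (Nat.dvd_add_right hpq).mp (hpk.trans (Dvd.intro_left 2 hk))
    exact hpp.not_dvd_one h1
  · have hp3 : p = 3 := by
      rcases orderOf_A4 hA4 hLK with h | h <;> rw [hordL] at h
      · exact absurd ((Nat.prime_dvd_prime_iff_eq hpp Nat.prime_two).mp h) hp2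
      · exact (Nat.prime_dvd_prime_iff_eq hpp Nat.prime_three).mp h
    obtain ⟨T, hT⟩ := exists_subfield_dvd (F := F) hqn (one_dvd n) le_rfl
    obtain ⟨D, hle⟩ := A4_conj_into h2 K hA4 T
    have hc := full D T hle
    rw [hT, pow_one, hp3] at hc
    left
    rw [← hc] at hGc
    norm_num [-Nat.card_eq_fintype_card] at hGc
    exact Subgroup.eq_top_of_card_eq K (show Nat.card K = Nat.card (PSL2 F) by
      rw [Nat.card_congr hA4.some.toEquiv, card_A4]; omega)
  · exfalso
    have hp3 : p = 3 := by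
      rcases orderOf_S4 hS4 hLK with h | h <;> rw [hordL] at h
      · exact (Nat.prime_dvd_prime_iff_eq hpp Nat.prime_three).mp h
      · exact absurd ((Nat.prime_dvd_prime_iff_eq hpp Nat.prime_two).mp
          (hpp.dvd_of_dvd_pow (m := 2) (n := 2) h)) hp2
    obtain ⟨T, hT⟩ := exists_subfield_dvd (F := F) hqn (one_dvd n) le_rfl
    obtain ⟨D, hle⟩ := S4_conj_into h2 K hS4 T
    have hc := full D T hle
    rw [hT, pow_one, hp3] at hc
    rw [← hc] at hGc
    have := Nat.le_of_dvd Nat.card_pos (Subgroup.card_subgroup_dvd_card K)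
    rw [Nat.card_congr hS4.some.toEquiv, card_S4] at this
    omega
  · have hp35 : p = 3 ∨ p = 5 := by
      rcases orderOf_A5 hA5 hLK with h | h | h <;> rw [hordL] at h
      · exact absurd ((Nat.prime_dvd_prime_iff_eq hpp Nat.prime_two).mp h) hp2
      · exact Or.inl ((Nat.prime_dvd_prime_iff_eq hpp Nat.prime_three).mp h)
      · exact Or.inr ((Nat.prime_dvd_prime_iff_eq hpp Nat.prime_five).mp h)
    have hcK : Nat.card K = 60 := by rw [Nat.card_congr hA5.some.toEquiv, card_A5]
    rcases hp35 with rfl | rfl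
    · have hev : Even n := by
        rcases Nat.even_or_odd n with h | ⟨j, rfl⟩
        · exact h
        · exfalso
          have h5d := five_dvd_of_A5 K hA5
          rw [hqn, ← pow_mul] at h5d
          rcases Nat.prime_five.dvd_mul.mp h5d with h | h
          · exact absurd (Nat.prime_five.dvd_of_dvd_pow h) (by norm_num)
          · have h1 : 3 ^ ((2 * j + 1) * 2) % 5 = 4 := by
              rw [show (2 * j + 1) * 2 = 4 * j + 2 by ring, pow_add, pow_mul, Nat.mul_mod, Nat.pow_mod]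
              norm_num
            have := Nat.one_le_pow ((2 * j + 1) * 2) 3 (by norm_num)
            omega
      obtain ⟨T, hT⟩ := exists_subfield_dvd (F := F) hqn (even_iff_two_dvd.mp hev) (by norm_num)
      obtain ⟨s, hs, hs2⟩ := exists_root (T := T) (by rw [hT]; norm_num)
      obtain ⟨D, hle⟩ := A5_conj_into h2 K hA5 T hs hs2
      have hc := full D T hle
      rw [hT] at hc
      norm_num at hc
      refine Or.inr ⟨hc.symm, ?_, hcK⟩
      by_contra hne
      -- `lam` is a primitive element with `lam ^ 4 = -1`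
      have h8 : lam ^ 8 = 1 := by
        have := FiniteField.pow_card_sub_one_eq_one lam hlam
        rwa [← hc] at this
      have hl2 : lam ^ 2 - 1 ≠ 0 := by
        intro e
        obtain ⟨T₁, hT₁⟩ := exists_subfield_dvd (F := F) hqn (one_dvd n) le_rfl
        have hmem : lam ∈ T₁ := by
          rw [mem_subfield_iff, hT₁, pow_one]
          linear_combination lam * e
        have htop : T₁ = ⊤ := top_le_iff.mp (hgen ▸ Subfield.closure_le.mpr (by simpa using hmem))
        rw [htop, Nat.card_congr Subfield.topEquiv.toEquiv, Nat.card_eq_fintype_card, ← hc] at hT₁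
        norm_num at hT₁
      have h3 : (3 : F) = 0 := by exact_mod_cast CharP.cast_eq_zero F 3
      have hf : (lam ^ 2 - 1) * ((lam ^ 2 + 1) * ((lam ^ 2 + lam - 1) * (lam ^ 2 - lam - 1))) = 0 := by
        linear_combination h8 - (lam ^ 6 - lam ^ 2) * h3
      rcases mul_eq_zero.mp hf with e | e
      · exact hl2 e
      rcases mul_eq_zero.mp e with e | e
      · exact hne (by linear_combination e)
      rcases mul_eq_zero.mp e with e | e
      · refine not_orderOf_four_A5 hA5 (mul_mem hLK hUK : (QuotientGroup.mk (L * U) : PSL2 F) ∈ K)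
          (orderOf_eq_four ?_)
        rw [sLU]; linear_combination e + (lam + 2) * h3
      · refine not_orderOf_four_A5 hA5 (mul_mem (mul_mem hLK hLK) hUK :
          (QuotientGroup.mk (L * L * U) : PSL2 F) ∈ K) (orderOf_eq_four ?_)
        rw [sLLU]; linear_combination e + (lam ^ 2 + 3 * lam + 2) * h3
    · obtain ⟨T, hT⟩ := exists_subfield_dvd (F := F) hqn (one_dvd n) le_rfl
      obtain ⟨s, hs, hs2⟩ := exists_root (T := T) (by rw [hT]; norm_num)
      obtain ⟨D, hle⟩ := A5_conj_into h2 K hA5 T hs hs2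
      have hc := full D T hle
      rw [hT, pow_one] at hc
      left
      rw [← hc] at hGc
      norm_num [-Nat.card_eq_fintype_card] at hGc
      exact Subgroup.eq_top_of_card_eq K (show Nat.card K = Nat.card (PSL2 F) by omega)
  · left
    by_contra hne
    obtain ⟨m, -, -, hsq⟩ := big_proper hT hne
    obtain ⟨D, hle⟩ := le_pullBack_of_big hT
    rw [full D T hle] at hsq
    have hq1 := Fintype.one_lt_card (α := F)
    nlinarith

end Cfsg.Agent.Dickson
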