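import Cfsg.Agent.Lib.Dickson.Action
import Cfsg.Agent.S0206

/-!
Sharp actions of the shape of `PSL₂(q)` or `PGL₂(q)` on the line: pairs of fixed points and the
dihedral normalisers of tori.
-/

set_option autoImplicit false
set_option linter.unusedSectionVars false

namespace Cfsg.Agent.Dickson

open MulAction

variable {G X : Type*} [Group G] [MulAction G X] [Finite G]

theorem mul_le_st_of_inf (hA : Sharp G X) {w : X} {g : G} (hg : g • w = w)
    (hgu : ∀ i : ℕ, IsUni w (g ^ i) → g ^ i = 1) : orderOf g * uc hA w ≤ st G w := by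
  rw [← Nat.card_zpowers, uc, st, ← Nat.card_prod]
  refine Nat.card_le_card_of_injective (fun x : Subgroup.zpowers g × uni hA w =>
    (⟨(x.1 : G) * (x.2 : G), mul_mem ((Subgroup.zpowers_le.mpr hg) x.1.2) (uni_le hA w x.2.2)⟩ :
      stabilizer G w)) ?_
  intro x y h
  have h' : (x.1 : G) * (x.2 : G) = (y.1 : G) * (y.2 : G) := congrArg Subtype.val h
  have e : (y.1 : G)⁻¹ * (x.1 : G) = (y.2 : G) * (x.2 : G)⁻¹ := by
    rw [eq_mul_inv_iff_mul_eq, mul_assoc, h', inv_mul_cancel_left]
  have hz : (y.1 : G)⁻¹ * (x.1 : G) ∈ Subgroup.zpowers g := mul_mem (inv_mem y.1.2) x.1.2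
  obtain ⟨i, hi⟩ := (Submonoid.mem_powers_iff _ _).mp (mem_powers_iff_mem_zpowers.mpr hz)
  have h1 : (y.1 : G)⁻¹ * (x.1 : G) = 1 := by
    rw [← hi]
    exact hgu i (by rw [hi, e]; exact (mul_mem y.2.2 (inv_mem x.2.2) : _ ∈ uni hA w))
  refine Prod.ext (Subtype.ext (inv_mul_eq_one.mp h1).symm) (Subtype.ext ?_)
  rw [h1, eq_comm, mul_inv_eq_one] at e
  exact e.symm

/-- In the case of an orbit of length `uc + 1`, no element has order above `uc + 1`. -/
theorem orderOf_le_of_orbit (hA : Sharp G X) {w : X} (hu : 3 ≤ uc hA w)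
    (horb : orb G w = uc hA w + 1) (hst : st G w ≤ uc hA w * (uc hA w - 1)) (g : G) :
    orderOf g ≤ uc hA w + 1 := by
  classical
  by_cases hg1 : g = 1
  · rw [hg1, orderOf_one]; omega
  obtain ⟨a, b, hab⟩ := hA.fix_two g hg1
  have hga : g • a = a := (hab a).mpr (Or.inl rfl)
  by_cases ha : a ∈ orbit G w
  · obtain ⟨h, rfl⟩ := ha
    have hu' : uc hA (h • w) = uc hA w := uc_smul hA h w
    have hs' : st G (h • w) = st G w := st_smul h w
    by_cases hgu : ∀ i : ℕ, IsUni (h • w) (g ^ i) → g ^ i = 1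
    · have := mul_le_st_of_inf hA hga hgu
      rw [hu', hs'] at this
      have h2 : orderOf g * uc hA w ≤ (uc hA w + 1) * uc hA w :=
        this.trans (hst.trans (by rw [mul_comm]; exact Nat.mul_le_mul_right _ (by omega)))
      exact Nat.le_of_mul_le_mul_right h2 (by omega)
    · push Not at hgu
      obtain ⟨i, hi, hi1⟩ := hgu
      have hU : IsUni (h • w) g :=
        uni_of_comm hA hga hi hi1 (by rw [← pow_succ', ← pow_succ])
      have : orderOf g ≤ uc hA (h • w) :=
        Nat.le_of_dvd Nat.card_pos (Subgroup.orderOf_dvd_natCard _ (hU : g ∈ uni hA (h • w)))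
      omega
  · have hwsp : w ∈ special G X := by
      haveI : Nontrivial (uni hA w) := Finite.one_lt_card_iff_nontrivial.mp (by rw [← uc]; omega)
      obtain ⟨u, hu'⟩ := exists_ne (1 : uni hA w)
      exact ⟨u, fun e => hu' (Subtype.ext e), uni_le hA w u.2⟩
    have hasp : a ∈ special G X := ⟨g, hg1, hga⟩
    have hle := (sum_orbits_le hA ⊤ (R := ({w, a} : Finset X))
      (by intro v hv; simp at hv; rcases hv with rfl | rfl <;> assumption)
      (by
        rw [Distinct, Finset.coe_pair, Set.pairwise_pair]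
        exact fun _ => ⟨ha, fun h => ha (by rw [← orbit_eq_iff, orbit_eq_iff.mpr h])⟩)).1
    rw [Finset.sum_pair (show w ≠ a from fun e => ha (e ▸ mem_orbit_self w)), wt_top, wt_top, Subgroup.card_top] at hle
    have hn : orderOf g ≤ st G a :=
      Nat.le_of_dvd Nat.card_pos (Subgroup.orderOf_dvd_natCard _ hga)
    have h1 := orb_mul_st (G := G) w
    have h2 := orb_mul_st (G := G) a
    have h3 := st_pos (G := G) a
    have h4 := st_pos (G := G) w
    have h5 := uc_pos hA a
    obtain ⟨t, ht⟩ : ∃ t, uc hA w = t + 1 := ⟨uc hA w - 1, by omega⟩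
    obtain ⟨s, hs⟩ : ∃ s, st G w = s + 1 := ⟨st G w - 1, by omega⟩
    obtain ⟨r, hr⟩ : ∃ r, st G a = r + 1 := ⟨st G a - 1, by omega⟩
    rw [horb, ht, hs, hr, Nat.add_sub_cancel, Nat.add_sub_cancel, Nat.add_sub_cancel] at hle
    rw [horb, ht, hs] at h1
    rw [hr] at h2
    rw [ht, Nat.add_sub_cancel, hs] at hst
    rw [hr] at hn
    rw [ht]
    have hle' : (t + 1 + 1) * (s + t) + orb G a * r + 2 ≤ 2 * Nat.card G := by
      have hpos : 0 < Nat.card G := Nat.card_pos
      have : orb G a * r ≤ orb G a * (r + (uc hA a - 1)) := Nat.mul_le_mul_left _ (by omega)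
      omega
    nlinarith

/-- A group with a cyclic subgroup of index two and only involutions outside it. -/
theorem dihedral_of_index_two {N : Type*} [Group N] [Finite N] (t : N) {n : ℕ} (hn : orderOf t = n)
    (h2n : 2 ≤ n) (hcard : Nat.card N = 2 * n) (hout : ∀ g : N, g ∉ Subgroup.zpowers t → orderOf g = 2) :
    Nonempty (N ≃* DihedralGroup n) := by
  have hidx : (Subgroup.zpowers t).index = 2 := by
    have h := Subgroup.card_mul_index (Subgroup.zpowers t)
    rw [Nat.card_zpowers, hn, hcard, mul_comm 2 n] at h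
    exact Nat.eq_of_mul_eq_mul_left (by omega) h
  obtain ⟨s, hs⟩ : ∃ s, s ∉ Subgroup.zpowers t := by
    by_contra h
    push Not at h
    rw [(Subgroup.eq_top_iff' _).mpr h, Subgroup.index_top] at hidx
    omega
  have ht : t ∈ Subgroup.zpowers t := Subgroup.mem_zpowers t
  have hst : s * t ∉ Subgroup.zpowers t := fun h => hs ((mul_mem_cancel_right ht).mp h)
  have hne : s ≠ s * t := fun h => by
    rw [mul_eq_left.mp h.symm, orderOf_one] at hn; omega
  obtain ⟨e⟩ := S0206.result s (s * t) (hout s hs) (hout _ hst) hne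
  have hss : s * s = 1 := by rw [← pow_two, ← hout s hs, pow_orderOf_eq_one]
  have horder : orderOf (s * (s * t)) = n := by rw [← mul_assoc, hss, one_mul, hn]
  have htop : Subgroup.closure ({s, s * t} : Set N) = ⊤ := by
    have hsc : s ∈ Subgroup.closure ({s, s * t} : Set N) := Subgroup.subset_closure (by simp)
    have htc : t ∈ Subgroup.closure ({s, s * t} : Set N) := by
      have h1 : s * t ∈ Subgroup.closure ({s, s * t} : Set N) := Subgroup.subset_closure (by simp)
      have h2 := mul_mem (inv_mem hsc) h1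
      rwa [inv_mul_cancel_left] at h2
    rw [eq_top_iff]
    intro g _
    by_cases hg : g ∈ Subgroup.zpowers t
    · exact (Subgroup.zpowers_le.mpr htc) hg
    · exact (Subgroup.mul_mem_cancel_left _ hsc).mp ((Subgroup.zpowers_le.mpr htc)
        ((Subgroup.mul_mem_iff_of_index_two hidx).mpr (iff_of_false hs hg)))
  rw [htop, horder] at e
  exact ⟨Subgroup.topEquiv.symm.trans e⟩

/-- The hypotheses shared by `PSL₂(q)` (`d = gcd(2, q - 1)`) and `PGL₂(q)` (`d = 1`). -/
structure Ovoid (hA : Sharp G X) (P : Set X) (q d : ℕ) : Prop where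
  two_le : 2 ≤ q
  d_pos : 1 ≤ d
  d_le : d ≤ 2
  card_pts : P.ncard = q + 1
  inv : ∀ g : G, ∀ w ∈ P, g • w ∈ P
  uc_eq : ∀ w ∈ P, uc hA w = q
  uni_out : ∀ w, w ∉ P → uc hA w = 1
  card_eq : d * Nat.card G = (q + 1) * (q * (q - 1))
  exists_ns : ∃ g : G, q + 1 = d * orderOf g

/-- The stabiliser of an unordered pair of points. -/
def pairNorm (G : Type*) [Group G] [MulAction G X] (a b : X) : Subgroup G where
  carrier := {h | (h • a = a ∧ h • b = b) ∨ (h • a = b ∧ h • b = a)}
  one_mem' := Or.inl ⟨one_smul _ _, one_smul _ _⟩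
  mul_mem' := by
    rintro g h (⟨g1, g2⟩ | ⟨g1, g2⟩) (⟨h1, h2⟩ | ⟨h1, h2⟩)
    · exact Or.inl ⟨by rw [mul_smul, h1, g1], by rw [mul_smul, h2, g2]⟩
    · exact Or.inr ⟨by rw [mul_smul, h1, g2], by rw [mul_smul, h2, g1]⟩
    · exact Or.inr ⟨by rw [mul_smul, h1, g1], by rw [mul_smul, h2, g2]⟩
    · exact Or.inl ⟨by rw [mul_smul, h1, g2], by rw [mul_smul, h2, g1]⟩
  inv_mem' := by
    rintro g (⟨g1, g2⟩ | ⟨g1, g2⟩)
    · exact Or.inl ⟨by rw [inv_smul_eq_iff, g1], by rw [inv_smul_eq_iff, g2]⟩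
    · exact Or.inr ⟨by rw [inv_smul_eq_iff, g2], by rw [inv_smul_eq_iff, g1]⟩

theorem pow_smul_self {g : G} {x : X} (h : g • x = x) (i : ℕ) : (g ^ i) • x = x :=
  pow_mem (show g ∈ stabilizer G x from h) i

namespace Ovoid

variable {hA : Sharp G X} {P : Set X} {q d : ℕ}

theorem finite_pts (hP : Ovoid hA P q d) : P.Finite :=
  Set.finite_of_ncard_pos (by rw [hP.card_pts]; omega)

theorem card_pts_ne (hP : Ovoid hA P q d) {x : X} (hx : x ∈ P) :
    Nat.card {v : P // (v : X) ≠ x} = q := by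
  rw [Nat.card_congr (show {v : P // (v : X) ≠ x} ≃ ↥(P \ {x}) from
      ⟨fun v => ⟨v.1.1, v.1.2, v.2⟩, fun v => ⟨⟨v.1, v.2.1⟩, v.2.2⟩, fun _ => rfl, fun _ => rfl⟩),
    Nat.card_coe_set_eq, Set.ncard_sdiff_singleton_of_mem hx, hP.card_pts, Nat.add_sub_cancel]

/-- The fixed-point unique elements at `a` are transitive on the other points. -/
theorem exists_uni_smul (hP : Ovoid hA P q d) {a x y : X} (ha : a ∈ P) (hx : x ∈ P) (hy : y ∈ P)
    (hxa : x ≠ a) (hya : y ≠ a) : ∃ u : G, IsUni a u ∧ u • x = y := by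
  haveI : Finite P := hP.finite_pts.to_subtype
  let f : uni hA a → {v : P // (v : X) ≠ a} := fun u =>
    ⟨⟨(u : G) • x, hP.inv _ x hx⟩, fun e => hxa (MulAction.injective (u : G)
      (e.trans (u.2 : IsUni a (u : G)).smul_eq.symm))⟩
  have hf : Function.Injective f := by
    intro u v h
    have h' : (u : G) • x = (v : G) • x := congrArg (fun z : {v : P // (v : X) ≠ a} => ((z : P) : X)) h
    rcases ((v⁻¹ * u : uni hA a).2 : IsUni a _) with e | e
    · exact (inv_mul_eq_one.mp (Subtype.ext e)).symm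
    · exfalso
      refine hxa ((e x).mp ?_)
      show ((v : G)⁻¹ * (u : G)) • x = x
      rw [mul_smul, h', inv_smul_smul]
  have hcard : Nat.card {v : P // (v : X) ≠ a} = Nat.card (uni hA a) := by
    rw [← uc, hP.uc_eq a ha, hP.card_pts_ne ha]
  obtain ⟨u, hu⟩ := ((Nat.bijective_iff_injective_and_card f).mpr ⟨hf, hcard.symm⟩).2 ⟨⟨y, hy⟩, hya⟩
  exact ⟨u, u.2, congrArg (fun z : {v : P // (v : X) ≠ a} => ((z : P) : X)) hu⟩

theorem exists_smul (hP : Ovoid hA P q d) {a b : X} (ha : a ∈ P) (hb : b ∈ P) :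
    ∃ g : G, g • a = b := by
  obtain ⟨c, hc, hca, hcb⟩ : ∃ c ∈ P, c ≠ a ∧ c ≠ b := by
    by_contra h
    push Not at h
    have hsub : P ⊆ {a, b} := fun c hc => by
      by_cases hca : c = a
      · exact Or.inl hca
      · exact Or.inr (h c hc hca)
    have h1 := Set.ncard_le_ncard hsub ((Set.finite_singleton b).insert a)
    have h2 : ({a, b} : Set X).ncard ≤ 2 :=
      (Set.ncard_insert_le a {b}).trans (by rw [Set.ncard_singleton])
    have := hP.two_le; have := hP.card_pts
    omega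
  obtain ⟨u, -, hu⟩ := hP.exists_uni_smul hc ha hb hca.symm hcb.symm
  exact ⟨u, hu⟩

theorem orb_eq (hP : Ovoid hA P q d) {a : X} (ha : a ∈ P) : orb G a = q + 1 := by
  rw [orb, Nat.card_coe_set_eq, ← hP.card_pts]
  congr 1
  ext v
  exact ⟨fun ⟨g, hg⟩ => hg ▸ hP.inv g a ha, fun hv => hP.exists_smul ha hv⟩

theorem d_mul_st (hP : Ovoid hA P q d) {a : X} (ha : a ∈ P) : d * st G a = q * (q - 1) := by
  have h := hP.card_eq
  rw [← orb_mul_st a, hP.orb_eq ha, mul_left_comm] at h
  exact Nat.eq_of_mul_eq_mul_left (Nat.succ_pos q) h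

theorem mem_special (hP : Ovoid hA P q d) {a : X} (ha : a ∈ P) : a ∈ special G X := by
  haveI : Nontrivial (uni hA a) := Finite.one_lt_card_iff_nontrivial.mp (by
    rw [← uc, hP.uc_eq a ha]; exact hP.two_le)
  obtain ⟨u, hu⟩ := exists_ne (1 : uni hA a)
  exact ⟨u, fun e => hu (Subtype.ext e), uni_le hA a u.2⟩

theorem cover (hP : Ovoid hA P q d) : ∃ z : X, z ∈ special G X ∧ z ∉ P ∧ d * st G z = q + 1 ∧
    ∀ v ∈ special G X, v ∈ P ∨ v ∈ orbit G z := by
  classical
  obtain ⟨g, hg⟩ := hP.exists_ns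
  have hq := hP.two_le
  have hd := hP.d_le
  have hg1 : g ≠ 1 := fun e => by rw [e, orderOf_one] at hg; omega
  obtain ⟨z, b, hab⟩ := hA.fix_two g hg1
  have hgz : g • z = z := (hab z).mpr (Or.inl rfl)
  have hdvd : orderOf g ∣ st G z := Subgroup.orderOf_dvd_natCard _ hgz
  have hzP : z ∉ P := by
    intro hz
    have h1 : q + 1 ∣ q * (q - 1) := by
      rw [← hP.d_mul_st hz, hg]; exact Nat.mul_dvd_mul_left d hdvd
    have h2 : q + 1 ∣ 2 := by
      have h3 : q * (q - 1) + (2 * (q + 1)) = (q + 1) * q + 2 := by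
        obtain ⟨r, rfl⟩ : ∃ r, q = r + 1 := ⟨q - 1, by omega⟩
        rw [Nat.add_sub_cancel]; ring
      have h4 : q + 1 ∣ (q + 1) * q + 2 := h3 ▸ dvd_add h1 (dvd_mul_left _ _)
      exact (Nat.dvd_add_right (dvd_mul_right _ _)).mp h4
    exact absurd (Nat.le_of_dvd two_pos h2) (by omega)
  obtain ⟨w, hw⟩ : P.Nonempty := Set.nonempty_of_ncard_ne_zero (by rw [hP.card_pts]; omega)
  have hzs : z ∈ special G X := ⟨g, hg1, hgz⟩
  have hzw : z ∉ orbit G w := fun ⟨h, hh⟩ => hzP (hh ▸ hP.inv h w hw)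
  have hle := (sum_orbits_le hA ⊤ (R := ({w, z} : Finset X))
      (by intro v hv; simp at hv; rcases hv with rfl | rfl; exacts [hP.mem_special hw, hzs])
      (by
        rw [Distinct, Finset.coe_pair, Set.pairwise_pair]
        exact fun _ => ⟨hzw, fun h => hzw (by rw [← orbit_eq_iff, orbit_eq_iff.mpr h])⟩)).1
  rw [Finset.sum_pair (show w ≠ z from fun e => hzP (e ▸ hw)), wt_top, wt_top, Subgroup.card_top, hP.orb_eq hw,
    hP.uc_eq w hw, hP.uni_out z hzP] at hle
  have h1 := orb_mul_st (G := G) w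
  have h2 := orb_mul_st (G := G) z
  have h3 := hP.d_mul_st hw
  have h4 := hP.card_eq
  have hpos : 0 < Nat.card G := Nat.card_pos
  have hz1 : 1 ≤ st G z := st_pos z
  rw [hP.orb_eq hw] at h1
  obtain ⟨s, hs⟩ : ∃ s, st G w = s + 1 := ⟨st G w - 1, by have := st_pos (G := G) w; omega⟩
  obtain ⟨r, hr⟩ : ∃ r, st G z = r + 1 := ⟨st G z - 1, by omega⟩
  obtain ⟨c, hc⟩ : ∃ c, q = c + 2 := ⟨q - 2, by omega⟩
  have hzle : q * (q - 1) ≤ orb G z := by
    rw [hs, hr, hc] at hle
    rw [hs, hc] at h1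
    rw [hr] at h2
    rw [hc, show c + 2 - 1 = c + 1 by omega]
    rw [show s + 1 - 1 + (c + 2 - 1) = s + (c + 1) by omega,
      show r + 1 - 1 + (1 - 1) = r by omega] at hle
    have hle' : (c + 2 + 1) * (s + (c + 1)) + orb G z * r + 2 ≤ 2 * Nat.card G := by omega
    nlinarith
  have hde : d * st G z = q + 1 := by
    have hge : q + 1 ≤ d * st G z := by
      rw [hg]; exact Nat.mul_le_mul_left d (Nat.le_of_dvd hz1 hdvd)
    refine le_antisymm ?_ hge
    have h5 : (d * st G z) * (q * (q - 1)) ≤ (q + 1) * (q * (q - 1)) := by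
      calc (d * st G z) * (q * (q - 1)) ≤ (d * st G z) * orb G z := Nat.mul_le_mul_left _ hzle
        _ = d * Nat.card G := by rw [← h2]; ring
        _ = _ := h4
    exact Nat.le_of_mul_le_mul_right h5 (Nat.mul_pos (by omega) (by omega))
  refine ⟨z, hzs, hzP, hde, fun v hv => ?_⟩
  by_contra hcon
  push Not at hcon
  obtain ⟨hvP, hvz⟩ := hcon
  have hvw : v ∉ orbit G w := fun ⟨h, hh⟩ => hvP (hh ▸ hP.inv h w hw)
  have hle3 := (sum_orbits_le hA ⊤ (R := ({w, z, v} : Finset X))
      (by intro u hu; simp at hu; rcases hu with rfl | rfl | rfl; exacts [hP.mem_special hw, hzs, hv])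
      (by
        intro x hx y hy hxy
        simp only [Finset.coe_insert, Finset.coe_singleton, Set.mem_insert_iff, Set.mem_singleton_iff]
          at hx hy
        have sym : ∀ {i j : X}, j ∉ orbit G i → i ∉ orbit G j := fun hij h =>
          hij (by rw [← orbit_eq_iff, orbit_eq_iff.mpr h])
        rcases hx with rfl | rfl | rfl <;> rcases hy with rfl | rfl | rfl
        all_goals first
          | exact absurd rfl hxy
          | exact hzw
          | exact hvw
          | exact hvz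
          | exact sym hzw
          | exact sym hvw
          | exact sym hvz)).1
  rw [Finset.sum_insert (by
      simp only [Finset.mem_insert, Finset.mem_singleton]
      rintro (e | e)
      · exact hzP (e ▸ hw)
      · exact hvP (e ▸ hw)),
    Finset.sum_pair (show z ≠ v from fun e => hvz (e ▸ mem_orbit_self z)), wt_top, wt_top, wt_top, Subgroup.card_top,
    hP.orb_eq hw, hP.uc_eq w hw, hP.uni_out z hzP, hP.uni_out v hvP] at hle3
  have h6 := orb_mul_st (G := G) v
  have h7 := two_le_st hv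
  have hoz : orb G z = q * (q - 1) := by
    have : d * Nat.card G = (d * st G z) * orb G z := by rw [← h2]; ring
    rw [h4, hde] at this
    exact (Nat.eq_of_mul_eq_mul_left (Nat.succ_pos q) this).symm
  obtain ⟨m, hm⟩ : ∃ m, st G v = m + 2 := ⟨st G v - 2, by omega⟩
  rw [hs, hr, hc, hm] at hle3
  rw [hs, hc] at h1
  rw [hr] at h2
  rw [hm] at h6
  rw [hc, show c + 2 - 1 = c + 1 by omega] at hoz
  rw [show s + 1 - 1 + (c + 2 - 1) = s + (c + 1) by omega, show r + 1 - 1 + (1 - 1) = r by omega,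
    show m + 2 - 1 + (1 - 1) = m + 1 by omega] at hle3
  have hle' : (c + 2 + 1) * (s + (c + 1)) + (orb G z * r + orb G v * (m + 1)) + 2 ≤ 2 * Nat.card G := by
    omega
  have := orb_pos (G := G) v
  nlinarith

/-- The pointwise stabiliser of the pair fixed by a semisimple element. -/
theorem pair_data (hP : Ovoid hA P q d) {g : G} (hg : g ≠ 1) (hs : ¬ ∃ v : X, IsUni v g) :
    ∃ a b : X, a ≠ b ∧ (∀ v, g • v = v ↔ v = a ∨ v = b) ∧
      (∃ h : G, h • a = b ∧ h • b = a) ∧
      ((a ∈ P ∧ b ∈ P ∧ d * Nat.card (stabilizer G a ⊓ stabilizer G b : Subgroup G) = q - 1) ∨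
       (a ∉ P ∧ b ∉ P ∧ d * Nat.card (stabilizer G a ⊓ stabilizer G b : Subgroup G) = q + 1)) := by
  obtain ⟨a, b, hab⟩ := hA.fix_two g hg
  have hne : a ≠ b := fun e => hs ⟨a, Or.inr fun v => by simpa [← e] using hab v⟩
  have hga : g • a = a := (hab a).mpr (Or.inl rfl)
  have hgb : g • b = b := (hab b).mpr (Or.inr rfl)
  have hpow : ∀ i : ℕ, g ^ i ≠ 1 → ∀ v, (g ^ i) • v = v ↔ v = a ∨ v = b := by
    intro i hi
    obtain ⟨a', b', hab'⟩ := hA.fix_two _ hi
    have ha' := (hab' a).mp (pow_smul_self hga i)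
    have hb' := (hab' b).mp (pow_smul_self hgb i)
    intro v
    rw [hab' v]
    rcases ha' with rfl | rfl <;> rcases hb' with rfl | rfl
    · exact absurd rfl hne
    · rfl
    · exact or_comm
    · exact absurd rfl hne
  obtain ⟨z, -, hzP, hzst, hcov⟩ := hP.cover
  have hboth : ∀ x y : X, x ≠ y → g • x = x → g • y = y → x ∈ P → y ∈ P := by
    intro x y hxy hx hy hxP
    by_contra hyP
    -- `g` acts freely on the other points of the orbit `P`
    have hn : orderOf g ∣ q := by
      haveI : Finite P := hP.finite_pts.to_subtype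
      let Y := {v : P // (v : X) ≠ x}
      let act : MulAction (Subgroup.zpowers g) Y :=
        { smul := fun h v => ⟨⟨(h : G) • ((v : P) : X), hP.inv _ _ (v : P).2⟩, fun e => v.2
            (MulAction.injective (h : G) (e.trans
              ((Subgroup.zpowers_le (H := stabilizer G x)).mpr hx h.2).symm))⟩
          one_smul := fun v => Subtype.ext (Subtype.ext (one_smul G _))
          mul_smul := fun h k v => Subtype.ext (Subtype.ext (mul_smul (h : G) (k : G) _)) }
      letI := act
      have h := card_dvd_of_stabilizer (H := Subgroup.zpowers g) (Y := Y) 1 (fun v => by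
        rw [Subgroup.card_eq_one, Subgroup.eq_bot_iff_forall]
        intro h hh
        have hv : (h : G) • ((v : P) : X) = ((v : P) : X) :=
          congrArg (fun z : Y => ((z : P) : X)) hh
        obtain ⟨i, hi⟩ := (Submonoid.mem_powers_iff _ _).mp (mem_powers_iff_mem_zpowers.mpr h.2)
        by_contra h1
        have hi1 : g ^ i ≠ 1 := fun e => h1 (Subtype.ext (hi ▸ e))
        rw [← hi, hpow i hi1, ← hab] at hv
        rcases (hab x).mp hx with rfl | rfl <;> rcases (hab y).mp hy with rfl | rfl <;>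
          rcases (hab ((v : P) : X)).mp hv with e | e <;>
          first
            | exact hxy rfl
            | exact v.2 e
            | exact hyP (e ▸ (v : P).2))
      rw [one_mul, Nat.card_zpowers] at h
      have hY : Nat.card Y = q := hP.card_pts_ne hxP
      rwa [hY] at h
    have hn' : orderOf g ∣ q + 1 := by
      obtain ⟨k, hk⟩ := (hcov y ⟨g, hg, hy⟩).resolve_left hyP
      rw [← hzst, ← st_smul k z, show k • z = y from hk]
      exact dvd_mul_of_dvd_right (Subgroup.orderOf_dvd_natCard _ hy) d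
    exact hg (orderOf_eq_one_iff.mp (Nat.dvd_one.mp ((Nat.dvd_add_right hn).mp hn')))
  refine ⟨a, b, hne, hab, ?_⟩
  by_cases ha : a ∈ P
  · have hb := hboth a b hne hga hgb ha
    refine ⟨?_, Or.inl ⟨ha, hb, ?_⟩⟩
    · obtain ⟨h, hh⟩ := hP.exists_smul ha hb
      have hc : h • b ≠ b := fun e => hne (MulAction.injective h (hh.trans e.symm))
      obtain ⟨u, hu, hu'⟩ := hP.exists_uni_smul hb (hP.inv h b hb) ha hc hne
      exact ⟨u * h, by rw [mul_smul, hh, hu.smul_eq], by rw [mul_smul, hu']⟩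
    · let A := stabilizer G a
      have hidx : Nat.card (stabilizer A b) * q = st G a := by
        rw [st, ← Subgroup.card_mul_index (stabilizer A b), index_stabilizer]
        congr 1
        rw [← hP.uc_eq a ha]
        have : orbit A b = P \ {a} := by
          ext v
          constructor
          · rintro ⟨k, rfl⟩
            exact ⟨hP.inv _ b hb, fun e => hne.symm (MulAction.injective (k : G) (e.trans k.2.symm))⟩
          · rintro ⟨hv, hva⟩
            obtain ⟨u, hu, hu'⟩ := hP.exists_uni_smul ha hb hv hne.symm hva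
            exact ⟨⟨u, hu.smul_eq⟩, hu'⟩
        rw [this, Set.ncard_sdiff_singleton_of_mem ha, hP.card_pts, hP.uc_eq a ha, Nat.add_sub_cancel]
      have hcard : Nat.card (stabilizer A b) = Nat.card (stabilizer G a ⊓ stabilizer G b : Subgroup G) :=
        Nat.card_congr
          { toFun := fun k => ⟨((k : A) : G), (k : A).2, k.2⟩
            invFun := fun k => ⟨⟨(k : G), k.2.1⟩, k.2.2⟩
            left_inv := fun _ => rfl
            right_inv := fun _ => rfl }
      have h3 := hP.d_mul_st ha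
      rw [← hidx, hcard, ← mul_assoc, mul_comm q (q - 1)] at h3
      exact Nat.eq_of_mul_eq_mul_right (by have := hP.two_le; omega) h3
  · have hb : b ∉ P := fun hb => ha (hboth b a hne.symm hgb hga hb)
    obtain ⟨i, hi⟩ := (hcov a ⟨g, hg, hga⟩).resolve_left ha
    obtain ⟨j, hj⟩ := (hcov b ⟨g, hg, hgb⟩).resolve_left hb
    simp only at hi hj
    have hle : stabilizer G a ≤ stabilizer G b := by
      have hcard : Nat.card (uni hA a) = 1 := hP.uni_out a ha
      obtain ⟨t, ht, hgen⟩ := hA.cyc a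
      have hall : ∀ k ∈ stabilizer G a, k * g = g * k := by
        intro k hk
        obtain ⟨m, hm⟩ := hgen k hk
        obtain ⟨n, hn⟩ := hgen g hga
        have h1 : ∀ x : G, IsUni a x → x = 1 := fun x hx => by
          have := Subgroup.card_eq_one.mp hcard
          exact (Subgroup.mem_bot).mp (this ▸ (hx : x ∈ uni hA a))
        rw [← inv_mul_eq_one.mp (h1 _ hm), ← inv_mul_eq_one.mp (h1 _ hn)]
        exact (Commute.pow_pow_self t m n).eq
      intro k hk
      have h1 : g • (k • b) = k • b := by rw [← mul_smul, ← hall k hk, mul_smul, hgb]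
      rcases (hab _).mp h1 with e | e
      · exact absurd (MulAction.injective k ((mem_stabilizer_iff.mp hk).trans e.symm)) hne
      · exact e
    have hsa : st G a = st G z := by rw [← hi, st_smul]
    have hsb : st G b = st G z := by rw [← hj, st_smul]
    have heq : stabilizer G a = stabilizer G b :=
      Subgroup.eq_of_le_of_card_ge hle (by rw [← st, ← st, hsa, hsb])
    refine ⟨?_, Or.inr ⟨ha, hb, ?_⟩⟩
    · refine ⟨j * i⁻¹, ?_, ?_⟩
      · rw [mul_smul, ← hi, inv_smul_smul, hj]
      · have hh : (j * i⁻¹) • a = b := by rw [mul_smul, ← hi, inv_smul_smul, hj]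
        have hg' : (j * i⁻¹) * g * (j * i⁻¹)⁻¹ ∈ stabilizer G b := by
          rw [← hh, stabilizer_smul_eq_map]
          exact Subgroup.mem_map.mpr ⟨g, hga, rfl⟩
        rw [← heq] at hg'
        have hfix : g • ((j * i⁻¹)⁻¹ • a) = (j * i⁻¹)⁻¹ • a := by
          have := hg'
          rw [mem_stabilizer_iff, mul_smul, mul_smul, ← eq_inv_smul_iff] at this
          exact this
        rcases (hab _).mp hfix with e | e
        · rw [inv_smul_eq_iff, hh] at e
          exact absurd e hne
        · rw [inv_smul_eq_iff] at e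
          exact e.symm
    · rw [inf_eq_left.mpr hle]
      show d * st G a = q + 1
      rw [hsa, hzst]

/-- **Normalisers of tori.** A semisimple element lies in a dihedral subgroup of order
`2(q ± 1)/d` containing the normaliser of the subgroup it generates. -/
theorem exists_torus (hP : Ovoid hA P q d) {g : G} (hg : g ≠ 1) (hs : ¬ ∃ v : X, IsUni v g) :
    ∃ (N : Subgroup G) (n : ℕ), 2 ≤ n ∧ Nonempty (N ≃* DihedralGroup n) ∧ g ∈ N ∧
      (∀ h : G, h * g * h⁻¹ ∈ Subgroup.zpowers g → h ∈ N) ∧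
      (∀ v : X, ∃ h ∈ N, h • v ≠ v) ∧ orderOf g ∣ n ∧
      ((d * n = q - 1 ∧ ∃ v ∈ P, g • v = v) ∨ (d * n = q + 1 ∧ ∀ v ∈ P, g • v ≠ v)) := by
  obtain ⟨a, b, hne, hab, ⟨s, hsa, hsb⟩, hcases⟩ := hP.pair_data hg hs
  set C := stabilizer G a ⊓ stabilizer G b with hC
  have hgC : g ∈ C := ⟨(hab a).mpr (Or.inl rfl), (hab b).mpr (Or.inr rfl)⟩
  have hcyc : IsCyclic C := by
    let A := stabilizer G a
    let U := (uni hA a).subgroupOf A
    haveI : U.Normal := ⟨fun x hx k => by
      have := isUni_conj (g := (k : G)) (show IsUni a (x : G) from hx)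
      rw [show (k : G) • a = a from k.2] at this
      exact this⟩
    obtain ⟨t, ht, hgen⟩ := hA.cyc a
    haveI : IsCyclic (A ⧸ U) := ⟨⟨QuotientGroup.mk ⟨t, ht⟩, fun x => by
      obtain ⟨k, rfl⟩ := QuotientGroup.mk_surjective x
      obtain ⟨i, hi⟩ := hgen k k.2
      refine ⟨i, ?_⟩
      show (QuotientGroup.mk (⟨t, ht⟩ : A) : A ⧸ U) ^ (i : ℤ) = QuotientGroup.mk k
      rw [zpow_natCast, ← QuotientGroup.mk_pow, QuotientGroup.eq]
      exact hi⟩⟩
    refine isCyclic_of_injective ((QuotientGroup.mk' U).comp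
      (Subgroup.inclusion (inf_le_left : C ≤ A))) ?_
    rw [injective_iff_map_eq_one]
    intro x hx
    have hU : IsUni a (x : G) := (QuotientGroup.eq_one_iff _).mp hx
    rcases hU with h | h
    · exact Subtype.ext h
    · exact absurd ((h b).mp x.2.2).symm hne
  have hout : ∀ h ∈ pairNorm G a b, h ∉ C → h • a = b ∧ h • b = a := fun h hh hn =>
    hh.resolve_left hn
  have hCle : C ≤ pairNorm G a b := fun h hh => Or.inl ⟨hh.1, hh.2⟩
  have hsC : s ∉ C := fun h => hne (h.1.symm.trans hsa)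
  have hsN : s ∈ pairNorm G a b := Or.inr ⟨hsa, hsb⟩
  have hinvol : ∀ h ∈ pairNorm G a b, h ∉ C → orderOf h = 2 := by
    intro h hh hn
    obtain ⟨h1, h2⟩ := hout h hh hn
    have hh1 : h ≠ 1 := fun e => hn (e ▸ one_mem _)
    rw [orderOf_eq_prime_iff]
    refine ⟨?_, hh1⟩
    by_contra hsq
    obtain ⟨a', b', hab'⟩ := hA.fix_two h hh1
    obtain ⟨a'', b'', hab''⟩ := hA.fix_two _ hsq
    have hv : h • a' = a' := (hab' a').mpr (Or.inl rfl)
    have hva : a' ≠ a := fun e => hne (by rw [e] at hv; exact hv.symm.trans h1)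
    have hvb : a' ≠ b := fun e => hne (by rw [e] at hv; exact (hv.symm.trans h2).symm)
    have e1 := (hab'' a).mp (by rw [pow_two, mul_smul, h1, h2])
    have e2 := (hab'' b).mp (by rw [pow_two, mul_smul, h2, h1])
    have e3 := (hab'' a').mp (by rw [pow_two, mul_smul, hv, hv])
    rcases e1 with rfl | rfl <;> rcases e2 with rfl | rfl <;> rcases e3 with rfl | rfl <;>
      first
        | exact hne rfl
        | exact hva rfl
        | exact hvb rfl
  have hNcard : Nat.card (pairNorm G a b) = 2 * Nat.card C := by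
    rw [two_mul, ← Nat.card_sum]
    refine (Nat.card_congr (Equiv.ofBijective (Sum.elim (fun c : C => (⟨c, hCle c.2⟩ : pairNorm G a b))
      (fun c : C => ⟨s * c, mul_mem hsN (hCle c.2)⟩)) ⟨?_, ?_⟩)).symm
    · rintro (x | x) (y | y) e <;> have e' := congrArg Subtype.val e <;> simp at e'
      · rw [e']
      · exact absurd (by rw [← e']; exact x.2 : s * (y : G) ∈ C) (fun h =>
          hsC ((mul_mem_cancel_right y.2).mp h))
      · exact absurd (by rw [e']; exact y.2 : s * (x : G) ∈ C) (fun h =>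
          hsC ((mul_mem_cancel_right x.2).mp h))
      · rw [e']
    · rintro ⟨h, hh⟩
      by_cases hn : h ∈ C
      · exact ⟨Sum.inl ⟨h, hn⟩, rfl⟩
      · obtain ⟨h1, h2⟩ := hout h hh hn
        refine ⟨Sum.inr ⟨s⁻¹ * h, ?_, ?_⟩, Subtype.ext (mul_inv_cancel_left s h)⟩
        · show (s⁻¹ * h) • a = a
          rw [mul_smul, h1, inv_smul_eq_iff, hsa]
        · show (s⁻¹ * h) • b = b
          rw [mul_smul, h2, inv_smul_eq_iff, hsb]
  obtain ⟨⟨c, hc⟩, hcgen⟩ := hcyc.exists_generator
  have hcord : orderOf c = Nat.card C := by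
    rw [← Subgroup.orderOf_mk c hc, orderOf_eq_card_of_forall_mem_zpowers hcgen]
  have hCc : C = Subgroup.zpowers c := by
    refine le_antisymm (fun x hx => ?_) (Subgroup.zpowers_le.mpr hc)
    obtain ⟨i, hi⟩ := hcgen ⟨x, hx⟩
    exact ⟨i, congrArg Subtype.val hi⟩
  have hn2 : 2 ≤ Nat.card C := (Finite.one_lt_card_iff_nontrivial (α := C)).mpr
    ⟨⟨g, hgC⟩, 1, fun e => hg (congrArg Subtype.val e)⟩
  refine ⟨pairNorm G a b, Nat.card C, hn2, ?_, hCle hgC, ?_, ?_,
    Subgroup.orderOf_dvd_natCard C hgC, ?_⟩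
  · refine dihedral_of_index_two (⟨c, hCle hc⟩ : pairNorm G a b)
      (by rw [Subgroup.orderOf_mk, hcord]) hn2 hNcard fun h hh => ?_
    rw [← Subgroup.orderOf_coe]
    refine hinvol h h.2 fun hC' => hh ?_
    rw [hCc] at hC'
    obtain ⟨i, hi⟩ := hC'
    exact ⟨i, Subtype.ext (by simpa using hi)⟩
  · intro h hh
    obtain ⟨i, hi⟩ := hh
    simp only at hi
    have hi1 : g ^ i ≠ 1 := fun e => hg (conj_eq_one_iff.mp (hi.symm.trans e))
    obtain ⟨a', b', hab'⟩ := hA.fix_two _ hi1
    have key : ∀ v : X, g • v = v → (h • v = a ∨ h • v = b) := by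
      intro v hv
      have h1 : (g ^ i) • (h • v) = h • v := by
        rw [hi, mul_smul, mul_smul, inv_smul_smul, hv]
      have h2 : ∀ w : X, g • w = w → (g ^ i) • w = w := fun w hw =>
        (Subgroup.zpowers_le (H := stabilizer G w)).mpr hw ⟨i, rfl⟩
      have ea := (hab' a).mp (h2 a hgC.1)
      have eb := (hab' b).mp (h2 b hgC.2)
      rcases ea with rfl | rfl <;> rcases eb with rfl | rfl <;>
        rcases (hab' _).mp h1 with e | e <;>
        first
          | exact absurd rfl hne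
          | exact Or.inl e
          | exact Or.inr e
    rcases key a hgC.1 with e1 | e1 <;> rcases key b hgC.2 with e2 | e2
    · exact absurd (MulAction.injective h (e1.trans e2.symm)) hne
    · exact Or.inl ⟨e1, e2⟩
    · exact Or.inr ⟨e1, e2⟩
    · exact absurd (MulAction.injective h (e1.trans e2.symm)) hne
  · intro v
    by_cases hv : g • v = v
    · refine ⟨s, hsN, fun e => ?_⟩
      rcases (hab v).mp hv with rfl | rfl
      · exact hne (e.symm.trans hsa)
      · exact hne (e.symm.trans hsb).symm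
    · exact ⟨g, hCle hgC, hv⟩
  · rcases hcases with ⟨ha, -, h⟩ | ⟨ha, hb, h⟩
    · exact Or.inl ⟨h, a, ha, hgC.1⟩
    · refine Or.inr ⟨h, fun v hv e => ?_⟩
      rcases (hab v).mp e with rfl | rfl
      exacts [ha hv, hb hv]

end Ovoid

end Cfsg.Agent.Dickson
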