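import Cfsg.Agent.Lib.Dickson.Rational
import Cfsg.Agent.Lib.LinearGroup.Generation
import Cfsg.Agent.S0265

/-!
The subgroups with a translation group `A` and an orbit `A ∪ {∞}` on the line: subfield subgroups.
-/

set_option autoImplicit false
set_option linter.unusedSectionVars false

namespace Cfsg.Agent.Dickson

open Matrix MulAction OnePoint
open scoped MatrixGroups Classical
open Cfsg.Agent.PLocalB (upper lower)

attribute [local instance] Cfsg.Agent.PLocalB.lineAction pslLine

variable {F : Type*} [Field F] [Fintype F]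

/-- The Hua identity: an additive subgroup closed under `a ↦ λ / a` is closed under `a²b/λ`. -/
theorem hua_mem (A : AddSubgroup F) {l : F} (hl : l ≠ 0) (hA : ∀ a ∈ A, a ≠ 0 → l / a ∈ A)
    {a b : F} (ha : a ∈ A) (hb : b ∈ A) : a ^ 2 * b / l ∈ A := by
  by_cases ha0 : a = 0
  · rw [ha0]; simp [A.zero_mem]
  by_cases hb0 : b = 0
  · rw [hb0]; simp [A.zero_mem]
  by_cases hab : a * b = l
  · rw [show a ^ 2 * b / l = a by rw [← hab]; field_simp]
    exact ha
  have h1 : l / b - a ≠ 0 := fun h => hab (by field_simp at h; linear_combination -h)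
  have h2 : l / a + l / (l / b - a) ≠ 0 := by
    intro h
    rw [div_add_div _ _ ha0 h1, div_eq_zero_iff] at h
    rcases h with h | h
    · field_simp at h
      have : l ^ 2 = 0 := by linear_combination h
      exact hl (pow_eq_zero_iff two_ne_zero |>.mp this)
    · exact mul_ne_zero ha0 h1 h
  have hmem : a - l / (l / a + l / (l / b - a)) ∈ A :=
    sub_mem ha (hA _ (add_mem (hA a ha ha0) (hA _ (sub_mem (hA b hb hb0) ha) h1)) h2)
  have h3 : l - b * a ≠ 0 := fun h => hab (by linear_combination -h)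
  have e : a - l / (l / a + l / (l / b - a)) = a ^ 2 * b / l := by
    have e1 : l / a + l / (l / b - a) = l ^ 2 / (a * (l - b * a)) := by
      rw [eq_div_iff (mul_ne_zero ha0 h3)]
      field_simp
      ring
    rw [e1]
    field_simp
    ring
  rwa [e] at hmem

/-- The multiplier ring of an additive subgroup, a subfield as `F` is finite. -/
def multiplier (A : AddSubgroup F) : Subfield F :=
  let R : Subring F :=
    { carrier := {x | ∀ a ∈ A, x * a ∈ A}
      one_mem' := fun a ha => by rwa [one_mul]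
      mul_mem' := fun {x y} hx hy a ha => by rw [mul_assoc]; exact hx _ (hy a ha)
      zero_mem' := fun a _ => by rw [zero_mul]; exact A.zero_mem
      add_mem' := fun {x y} hx hy a ha => by rw [add_mul]; exact add_mem (hx a ha) (hy a ha)
      neg_mem' := fun {x} hx a ha => by rw [neg_mul]; exact neg_mem (hx a ha) }
  { R with
    inv_mem' := fun x hx => by
      rcases eq_or_ne x 0 with rfl | h0
      · simpa using R.zero_mem
      · have h : x ^ (Fintype.card F - 2) = x⁻¹ := by
          have hq := Fintype.one_lt_card (α := F)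
          apply eq_inv_of_mul_eq_one_left
          rw [← pow_succ, show Fintype.card F - 2 + 1 = Fintype.card F - 1 by omega,
            FiniteField.pow_card_sub_one_eq_one x h0]
        rw [← h]
        exact R.pow_mem hx _ }

theorem mem_multiplier {A : AddSubgroup F} {x : F} :
    x ∈ multiplier A ↔ ∀ a ∈ A, x * a ∈ A := Iff.rfl

/-- The translation part is a scalar multiple of a subfield. -/
theorem eq_smul_subfield (A : AddSubgroup F) {l : F} (hl : l ≠ 0)
    (hA : ∀ a ∈ A, a ≠ 0 → l / a ∈ A) {a₀ : F} (ha₀ : a₀ ∈ A) (h0 : a₀ ≠ 0) :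
    (∀ a : F, a ∈ A ↔ a / a₀ ∈ multiplier A) ∧ a₀ ^ 2 / l ∈ multiplier A := by
  have hsq : ∀ a ∈ A, a ^ 2 / l ∈ multiplier A := fun a ha b hb => by
    rw [div_mul_eq_mul_div]; exact hua_mem A hl hA ha hb
  refine ⟨fun a => ⟨fun ha => ?_, fun ha => ?_⟩, hsq a₀ ha₀⟩
  · set r := a / a₀ with hr
    have hr2 : ∀ b ∈ A, (b / a₀) ^ 2 ∈ multiplier A := by
      intro b hb
      have := (multiplier A).div_mem (hsq b hb) (hsq a₀ ha₀)
      rwa [show b ^ 2 / l / (a₀ ^ 2 / l) = (b / a₀) ^ 2 by field_simp] at this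
    by_cases h2 : (2 : F) = 0
    · haveI : CharP F 2 := CharTwo.of_one_ne_zero_of_two_eq_zero one_ne_zero h2
      haveI : Finite (multiplier A) := inferInstance
      have hinj : Function.Injective (fun x : multiplier A => x * x) := by
        intro x y h
        have h' : (x : F) * x = (y : F) * y := congrArg Subtype.val h
        apply Subtype.ext
        have : ((x : F) - y) * ((x : F) - y) = 0 := by linear_combination h' + ((y : F) ^ 2 - (x : F) * y) * h2
        exact sub_eq_zero.mp (mul_self_eq_zero.mp this)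
      obtain ⟨s, hs⟩ := Finite.surjective_of_injective hinj ⟨_, hr2 a ha⟩
      have hs' : (s : F) * s = r ^ 2 := congrArg Subtype.val hs
      have : ((s : F) - r) * ((s : F) - r) = 0 := by linear_combination hs' + (r ^ 2 - (s : F) * r) * h2
      rw [← sub_eq_zero.mp (mul_self_eq_zero.mp this)]
      exact s.2
    · have h1 : (r + 1) ^ 2 ∈ multiplier A := by
        have := hr2 _ (add_mem ha ha₀)
        rwa [show (a + a₀) / a₀ = r + 1 by rw [hr]; field_simp] at this
      have h2m : (2 : F) ∈ multiplier A := by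
        rw [← one_add_one_eq_two]; exact add_mem (one_mem _) (one_mem _)
      have := (multiplier A).div_mem (sub_mem (sub_mem h1 (hr2 a ha)) (one_mem _)) h2m
      rwa [show ((r + 1) ^ 2 - (a / a₀) ^ 2 - 1) / 2 = r by rw [← hr]; field_simp; ring] at this
  · have := ha a₀ ha₀
    rwa [div_mul_cancel₀ _ h0] at this

theorem map_pgl_injective {T : Subfield F} :
    Function.Injective (Matrix.ProjGenLinGroup.map (n := Fin 2) T.subtype) := by
  rw [injective_iff_map_eq_one]
  intro g hg
  obtain ⟨M, rfl⟩ := Matrix.ProjGenLinGroup.mk_surjective g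
  rw [Matrix.ProjGenLinGroup.map_mk, Matrix.ProjGenLinGroup.mk_eq_one,
    Matrix.GeneralLinearGroup.center_eq_range_scalar] at hg
  obtain ⟨u, hu⟩ := hg
  have hm : ∀ i j, (T.subtype ((M : Matrix (Fin 2) (Fin 2) T) i j))
      = Matrix.diagonal (fun _ => (u : F)) i j := fun i j => by
    have h := congrArg (fun z : GL (Fin 2) F => (z : Matrix (Fin 2) (Fin 2) F) i j) hu
    simpa [Matrix.GeneralLinearGroup.coe_scalar] using h.symm
  have hu0 : (u : F) ∈ T := by
    have := hm 0 0
    simp at this
    rw [← this]; exact SetLike.coe_mem _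
  rw [Matrix.ProjGenLinGroup.mk_eq_one, Matrix.GeneralLinearGroup.center_eq_range_scalar]
  refine ⟨Units.mk0 (⟨(u : F), hu0⟩ : T) (fun e => u.ne_zero (congrArg Subtype.val e)),
    Units.ext (Matrix.ext fun i j => Subtype.ext ?_)⟩
  have := hm i j
  fin_cases i <;> fin_cases j <;> simp [Matrix.GeneralLinearGroup.coe_scalar] at this ⊢ <;>
    first
      | exact this.symm
      | exact congrArg Subtype.val this.symm
      | simp [this]

/-- A matrix all of whose entries, up to a common scalar, lie in the subfield `T`. -/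
def ScalarOver (T : Subfield F) (a b c d : F) : Prop :=
  ∃ s : F, s ≠ 0 ∧ a / s ∈ T ∧ b / s ∈ T ∧ c / s ∈ T ∧ d / s ∈ T

theorem scalarOver_of_three (T : Subfield F) {a b c d : F} (hdet : a * d - b * c ≠ 0)
    (hinf : c ≠ 0 → a / c ∈ T) (h0 : d ≠ 0 → b / d ∈ T) (h1 : c + d ≠ 0 → (a + b) / (c + d) ∈ T) :
    ScalarOver T a b c d := by
  by_cases hc : c = 0
  · subst hc
    have hd : d ≠ 0 := by rintro rfl; simp at hdet
    refine ⟨d, hd, ?_, h0 hd, by simp [T.zero_mem], by simp [hd, T.one_mem]⟩
    have e := h1 (by simpa using hd)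
    rw [zero_add] at e
    have := T.sub_mem e (h0 hd)
    rwa [← sub_div, add_sub_cancel_right] at this
  refine ⟨c, hc, hinf hc, ?_, by simp [hc, T.one_mem], ?_⟩
  · by_cases hd : d = 0
    · subst hd
      have e := h1 (by simpa using hc)
      rw [add_zero] at e
      have := T.sub_mem e (hinf hc)
      rwa [← sub_div, add_sub_cancel_left] at this
    have hdc : d / c ∈ T := by
      by_cases hs : c + d = 0
      · rw [eq_neg_of_add_eq_zero_right hs, neg_div, div_self hc]
        exact T.neg_mem T.one_mem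
      have key : d / c * (b / d - (a + b) / (c + d)) = (a + b) / (c + d) - a / c := by
        field_simp; ring
      have hne : b / d - (a + b) / (c + d) ≠ 0 := by
        intro h
        field_simp at h
        exact hdet (by linear_combination -h)
      rw [eq_div_iff hne |>.mpr key]
      exact T.div_mem (T.sub_mem (h1 hs) (hinf hc)) (T.sub_mem (h0 hd) (h1 hs))
    have := T.mul_mem (h0 hd) hdc
    rwa [show b / d * (d / c) = b / c by field_simp] at this
  · by_cases hd : d = 0
    · subst hd; simp [T.zero_mem]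
    by_cases hs : c + d = 0
    · rw [eq_neg_of_add_eq_zero_right hs, neg_div, div_self hc]
      exact T.neg_mem T.one_mem
    have key : d / c * (b / d - (a + b) / (c + d)) = (a + b) / (c + d) - a / c := by
      field_simp; ring
    have hne : b / d - (a + b) / (c + d) ≠ 0 := by
      intro h
      field_simp at h
      exact hdet (by linear_combination -h)
    rw [eq_div_iff hne |>.mpr key]
    exact T.div_mem (T.sub_mem (h1 hs) (hinf hc)) (T.sub_mem (h0 hd) (h1 hs))

/-- The diagonal matrix `diag(a, 1)`. -/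
noncomputable def diagD (a : F) (ha : a ≠ 0) : GL (Fin 2) F :=
  Matrix.GeneralLinearGroup.mkOfDetNeZero !![a, 0; 0, 1] (by simp [Matrix.det_fin_two, ha])

theorem diagD_conj (a : F) (ha : a ≠ 0) (M : GL (Fin 2) F) :
    (((diagD a ha)⁻¹ * M * diagD a ha : GL (Fin 2) F) : Matrix (Fin 2) (Fin 2) F)
      = !![M 0 0, M 0 1 / a; M 1 0 * a, M 1 1] := by
  have h : ((diagD a ha)⁻¹ * M * diagD a ha : GL (Fin 2) F)
      = Matrix.GeneralLinearGroup.mkOfDetNeZero !![M 0 0, M 0 1 / a; M 1 0 * a, M 1 1] (by
        have hd : (M : Matrix (Fin 2) (Fin 2) F).det ≠ 0 :=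
          ((Matrix.isUnit_iff_isUnit_det _).mp M.isUnit).ne_zero
        rw [Matrix.det_fin_two] at hd ⊢
        simp only [Matrix.of_apply, Matrix.cons_val', Matrix.cons_val_zero, Matrix.cons_val_one,
          Matrix.empty_val', Matrix.cons_val_fin_one]
        field_simp
        exact hd) := by
    rw [mul_assoc, inv_mul_eq_iff_eq_mul]
    ext i j
    fin_cases i <;> fin_cases j <;>
      simp [diagD, Matrix.mul_apply, Fin.sum_univ_two, Matrix.GeneralLinearGroup.mkOfDetNeZero] <;>
      field_simp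
  rw [h]; rfl

/-- **The subfield case.** -/
theorem subfield_case (H : Subgroup (PSL2 F)) (A : AddSubgroup F)
    (hA : ∀ b : F, b ∈ A ↔ uppHom F (Multiplicative.ofAdd b) ∈ H)
    (hcA : 3 ≤ Nat.card A)
    (horbit : ∀ v : OnePoint F, (∃ h ∈ H, h • (∞ : OnePoint F) = v) ↔
      v = ∞ ∨ ∃ a ∈ A, v = (a : OnePoint F))
    (hcard : Nat.card H = (Nat.card A + 1) * (Nat.card A * (Nat.card A - 1)) ∨
      2 * Nat.card H = (Nat.card A + 1) * (Nat.card A * (Nat.card A - 1))) :
    ∃ T : Subfield F, Nat.card T = Nat.card A ∧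
      (Nonempty (H ≃* Matrix.ProjectiveSpecialLinearGroup (Fin 2) T) ∨
        Nonempty (H ≃* Matrix.ProjGenLinGroup (Fin 2) T)) ∧
      ∃ D : Matrix.ProjGenLinGroup (Fin 2) F, ∀ g ∈ H,
        D⁻¹ * Matrix.ProjectiveSpecialLinearGroup.toPGL g * D ∈
          (Matrix.ProjGenLinGroup.map (n := Fin 2) T.subtype).range := by
  obtain ⟨h, hh, hh0⟩ := (horbit ((0 : F) : OnePoint F)).mpr (Or.inr ⟨0, A.zero_mem, rfl⟩)
  obtain ⟨M, rfl⟩ := QuotientGroup.mk_surjective h
  rw [mk_smul] at hh0
  have hc : M 1 0 ≠ 0 := fun h => by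
    rw [(PLocalB.smul_infty_iff M).mpr h] at hh0; exact OnePoint.infty_ne_coe _ hh0
  have hM00 : M 0 0 = 0 := by
    rw [PLocalB.smul_infty_of_ne M hc, OnePoint.coe_eq_coe, div_eq_zero_iff] at hh0
    exact hh0.resolve_right hc
  have hdetM := PLocalB.det_entries M
  rw [hM00, zero_mul, zero_sub] at hdetM
  set l : F := -1 / (M 1 0) ^ 2 with hl
  have hl0 : l ≠ 0 := div_ne_zero (neg_ne_zero.mpr one_ne_zero) (pow_ne_zero _ hc)
  have hlow : ∀ a ∈ A, (QuotientGroup.mk (lower (a / l)) : PSL2 F) ∈ H := by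
    intro a ha
    have e : M * upper a * M⁻¹ = lower (a / l) := by
      apply mul_inv_eq_iff_eq_mul.mpr
      ext i j
      fin_cases i <;> fin_cases j <;>
        simp [Matrix.mul_apply, Fin.sum_univ_two, hM00, hl] <;>
        field_simp <;> linear_combination (-a) * hdetM
    rw [← e, QuotientGroup.mk_mul, QuotientGroup.mk_mul, QuotientGroup.mk_inv]
    exact mul_mem (mul_mem hh ((hA a).mp ha)) (inv_mem hh)
  have hinv : ∀ a ∈ A, a ≠ 0 → l / a ∈ A := by
    intro a ha ha0
    have e : (QuotientGroup.mk (lower (a / l)) : PSL2 F) • (∞ : OnePoint F) = ((l / a : F) : OnePoint F) := by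
      rw [mk_smul, PLocalB.smul_infty_of_ne _ (by simp [lower, ha0, hl0])]
      simp [lower]
    rcases (horbit _).mp ⟨_, hlow a ha, e⟩ with h' | ⟨b, hb, h'⟩
    · exact absurd h' (OnePoint.coe_ne_infty _)
    · rw [OnePoint.coe_eq_coe.mp h']; exact hb
  obtain ⟨a₀, ha₀, h0⟩ : ∃ a ∈ A, a ≠ 0 := by
    haveI : Nontrivial A := Finite.one_lt_card_iff_nontrivial.mp (by omega)
    obtain ⟨a, ha⟩ := exists_ne (0 : A)
    exact ⟨a, a.2, fun e => ha (Subtype.ext e)⟩
  obtain ⟨hAT, hr⟩ := eq_smul_subfield A hl0 hinv ha₀ h0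
  set T := multiplier A with hT
  have hcT : Nat.card T = Nat.card A := Nat.card_congr
    { toFun := fun t => ⟨(t : F) * a₀, (hAT _).mpr (by rw [mul_div_cancel_right₀ _ h0]; exact t.2)⟩
      invFun := fun a => ⟨(a : F) / a₀, (hAT _).mp a.2⟩
      left_inv := fun t => Subtype.ext (mul_div_cancel_right₀ _ h0)
      right_inv := fun a => Subtype.ext (div_mul_cancel₀ _ h0) }
  refine ⟨T, hcT, ?_⟩
  let J : PSL2 F →* Matrix.ProjGenLinGroup (Fin 2) F := Matrix.ProjectiveSpecialLinearGroup.toPGL
  let D := Matrix.ProjGenLinGroup.mk (diagD a₀ h0)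
  let φ : H →* Matrix.ProjGenLinGroup (Fin 2) F :=
    (MulAut.conj D⁻¹).toMonoidHom.comp (J.comp H.subtype)
  have hφ : Function.Injective φ := (MulAut.conj D⁻¹).injective.comp
    (Matrix.ProjectiveSpecialLinearGroup.toPGL_injective.comp Subtype.val_injective)
  have hφmk : ∀ (N : SL(2, F)) (hN : (QuotientGroup.mk N : PSL2 F) ∈ H),
      φ ⟨_, hN⟩ = Matrix.ProjGenLinGroup.mk
        ((diagD a₀ h0)⁻¹ * Matrix.SpecialLinearGroup.toGL N * diagD a₀ h0) := by
    intro N hN
    show D⁻¹ * J (QuotientGroup.mk N) * D⁻¹⁻¹ = _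
    rw [map_mul, map_mul, map_inv, inv_inv]
    rfl
  set ρ := Matrix.ProjGenLinGroup.map (n := Fin 2) T.subtype with hρ
  have hrange : φ.range ≤ ρ.range := by
    rintro _ ⟨⟨g, hg⟩, rfl⟩
    obtain ⟨N, rfl⟩ := QuotientGroup.mk_surjective g
    rw [hφmk]
    have hpres : ∀ v : OnePoint F, (v = ∞ ∨ ∃ a ∈ A, v = (a : OnePoint F)) →
        (N • v = ∞ ∨ ∃ a ∈ A, N • v = (a : OnePoint F)) := by
      intro v hv
      obtain ⟨x, hx, rfl⟩ := (horbit v).mpr hv
      exact (horbit _).mp ⟨_, mul_mem hg hx, by rw [mul_smul, mk_smul]⟩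
    have key : ∀ z : F, ((z = 0 ∨ z = a₀) → N 1 0 * z + N 1 1 ≠ 0 →
        (N 0 0 * z + N 0 1) / (N 1 0 * z + N 1 1) / a₀ ∈ T) := by
      intro z hz hne
      have hzA : z ∈ A := by rcases hz with rfl | rfl; exacts [A.zero_mem, ha₀]
      rcases hpres _ (Or.inr ⟨z, hzA, rfl⟩) with h' | ⟨b, hb, h'⟩
      · rw [PLocalB.smul_coe_eq, if_neg hne] at h'
        exact absurd h' (OnePoint.coe_ne_infty _)
      · rw [PLocalB.smul_coe_eq, if_neg hne, OnePoint.coe_eq_coe] at h'
        rw [h']; exact (hAT b).mp hb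
    obtain ⟨s, hs, t1, t2, t3, t4⟩ := scalarOver_of_three T
      (a := N 0 0) (b := N 0 1 / a₀) (c := N 1 0 * a₀) (d := N 1 1) (by
        have hd := PLocalB.det_entries N
        rw [show N 0 0 * N 1 1 - N 0 1 / a₀ * (N 1 0 * a₀) = 1 by field_simp; linear_combination hd]
        exact one_ne_zero)
      (fun hc' => by
        have hc'' : N 1 0 ≠ 0 := left_ne_zero_of_mul hc'
        rcases hpres ∞ (Or.inl rfl) with h' | ⟨b, hb, h'⟩
        · exact absurd ((PLocalB.smul_infty_iff N).mp h') hc''
        · rw [PLocalB.smul_infty_of_ne N hc'', OnePoint.coe_eq_coe] at h'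
          rw [show N 0 0 / (N 1 0 * a₀) = N 0 0 / N 1 0 / a₀ by field_simp, h']
          exact (hAT b).mp hb)
      (fun hd' => by
        have := key 0 (Or.inl rfl) (by simpa using hd')
        simp only [mul_zero, zero_add] at this
        rwa [div_div, mul_comm, ← div_div] at this)
      (fun hs' => by
        have := key a₀ (Or.inr rfl) (by exact hs')
        rwa [show (N 0 0 * a₀ + N 0 1) / (N 1 0 * a₀ + N 1 1) / a₀
          = (N 0 0 + N 0 1 / a₀) / (N 1 0 * a₀ + N 1 1) by field_simp] at this)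
    let m : Matrix (Fin 2) (Fin 2) T :=
      !![⟨_, t1⟩, ⟨_, t2⟩; ⟨_, t3⟩, ⟨_, t4⟩]
    have hm : m.det ≠ 0 := by
      intro e
      have e' := congrArg (Subfield.subtype T) e
      simp [m, Matrix.det_fin_two] at e'
      have hd := PLocalB.det_entries N
      field_simp at e'
      exact one_ne_zero (α := F) (by linear_combination e' - hd)
    refine ⟨Matrix.ProjGenLinGroup.mk (Matrix.GeneralLinearGroup.mkOfDetNeZero m hm), ?_⟩
    rw [hρ, Matrix.ProjGenLinGroup.map_mk, Matrix.ProjGenLinGroup.mk_eq_mk_iff]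
    refine ⟨Units.mk0 s hs, Units.ext ?_⟩
    rw [diagD_conj]
    ext i j
    fin_cases i <;> fin_cases j <;>
      simp [m, Matrix.GeneralLinearGroup.mkOfDetNeZero, Matrix.mul_apply, Fin.sum_univ_two,
        Matrix.GeneralLinearGroup.coe_scalar, Matrix.SpecialLinearGroup.toGL, hs]
  refine ⟨?_, D, fun g hg => by
    have := hrange ⟨⟨g, hg⟩, rfl⟩
    show D⁻¹ * J g * D ∈ ρ.range
    simpa [φ] using this⟩
  let e : H →* Matrix.ProjGenLinGroup (Fin 2) T :=
    (MonoidHom.ofInjective map_pgl_injective).symm.toMonoidHom.comp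
      ((Subgroup.inclusion hrange).comp φ.rangeRestrict)
  have hρe : ∀ x, ρ (e x) = φ x := fun x =>
    congrArg Subtype.val (MulEquiv.apply_symm_apply (MonoidHom.ofInjective map_pgl_injective) _)
  have hinj : Function.Injective e := fun x y hxy => hφ (by rw [← hρe, ← hρe, hxy])
  let J' : Matrix.ProjectiveSpecialLinearGroup (Fin 2) T →* Matrix.ProjGenLinGroup (Fin 2) T :=
    Matrix.ProjectiveSpecialLinearGroup.toPGL
  have hJle : J'.range ≤ e.range := by
    have hle : (⊤ : Subgroup (Matrix.SpecialLinearGroup (Fin 2) T)) ≤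
        e.range.comap Matrix.SpecialLinearGroup.toPGL := by
      rw [top_le_iff]
      refine LinearGroup.eq_top_of_transvection_mem fun i j hij c => ?_
      rw [Subgroup.mem_comap]
      have hij' : (i = 0 ∧ j = 1) ∨ (i = 1 ∧ j = 0) := by
        rcases Fin.exists_fin_two.mp ⟨i, rfl⟩ with h | h <;>
          rcases Fin.exists_fin_two.mp ⟨j, rfl⟩ with h' | h' <;> subst h h' <;> simp at hij ⊢
      have hmem : ∀ x : H, φ x = ρ (Matrix.SpecialLinearGroup.toPGL
          (Matrix.SpecialLinearGroup.transvection hij c)) →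
          Matrix.SpecialLinearGroup.toPGL (Matrix.SpecialLinearGroup.transvection hij c) ∈ e.range :=
        fun x hx => ⟨x, map_pgl_injective (by rw [hρe, hx])⟩
      rcases hij' with ⟨rfl, rfl⟩ | ⟨rfl, rfl⟩
      · have hin : (QuotientGroup.mk (upper ((c : F) * a₀)) : PSL2 F) ∈ H :=
          (hA _).mp ((hAT _).mpr (by
            show (c : F) * a₀ / a₀ ∈ T
            rw [mul_div_cancel_right₀ _ h0]; exact c.2))
        refine hmem ⟨_, hin⟩ ?_
        rw [hφmk, hρ]
        show _ = Matrix.ProjGenLinGroup.mk _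
        congr 1
        apply Units.ext
        rw [diagD_conj]
        ext i j
        fin_cases i <;> fin_cases j <;>
          simp [upper, Matrix.SpecialLinearGroup.toGL, Matrix.SpecialLinearGroup.transvection,
            Matrix.transvection, Matrix.single, h0]
      · have hin : (QuotientGroup.mk (lower ((c : F) / a₀)) : PSL2 F) ∈ H := by
          have h' := hlow ((c : F) * l / a₀) ((hAT _).mpr (by
            have := T.div_mem c.2 hr
            rwa [show (c : F) / (a₀ ^ 2 / l) = (c : F) * l / a₀ / a₀ by field_simp] at this))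
          rwa [show (c : F) * l / a₀ / l = (c : F) / a₀ by field_simp] at h'
        refine hmem ⟨_, hin⟩ ?_
        rw [hφmk, hρ]
        show _ = Matrix.ProjGenLinGroup.mk _
        congr 1
        apply Units.ext
        rw [diagD_conj]
        ext i j
        fin_cases i <;> fin_cases j <;>
          simp [lower, Matrix.SpecialLinearGroup.toGL, Matrix.SpecialLinearGroup.transvection,
            Matrix.transvection, Matrix.single, h0]
    rintro _ ⟨x, rfl⟩
    obtain ⟨N, rfl⟩ := QuotientGroup.mk_surjective x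
    exact hle (Subgroup.mem_top N)
  have hq : 2 ≤ Nat.card T := by omega
  have hcP : Nat.card (Matrix.ProjGenLinGroup (Fin 2) T)
      = (Nat.card A + 1) * (Nat.card A * (Nat.card A - 1)) := by
    haveI : Fintype T := Fintype.ofFinite T
    rw [S0265.result, LinearGroup.card_SL_two, hcT]
    obtain ⟨r, hr'⟩ : ∃ r, Nat.card A = r + 1 := ⟨Nat.card A - 1, by omega⟩
    rw [hr', Nat.add_sub_cancel]
    have : (r + 1) ^ 2 - 1 = (r + 2) * r := by
      rw [show (r + 1) ^ 2 = (r + 2) * r + 1 by ring]; omega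
    rw [this]; ring
  haveI : Finite (Matrix.ProjGenLinGroup (Fin 2) T) :=
    Finite.of_surjective _ Matrix.ProjGenLinGroup.mk_surjective
  rcases hcard with hH | hH
  · exact Or.inr ⟨MulEquiv.ofBijective e
      ((Nat.bijective_iff_injective_and_card e).mpr ⟨hinj, by rw [hH, hcP]⟩)⟩
  · left
    have hcJ : Nat.card (Matrix.ProjectiveSpecialLinearGroup (Fin 2) T) = Nat.card J'.range :=
      Nat.card_congr (MonoidHom.ofInjective Matrix.ProjectiveSpecialLinearGroup.toPGL_injective).toEquiv
    have hce : Nat.card e.range = Nat.card H :=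
      (Nat.card_congr (MonoidHom.ofInjective hinj).toEquiv).symm
    have h1 := LinearGroup.gcd_mul_card_PSL_two (F := T)
    have h2 : Nat.card T * (Nat.card T ^ 2 - 1) = 2 * Nat.card H := by
      haveI : Fintype T := Fintype.ofFinite T
      rw [hH, ← hcP, S0265.result, LinearGroup.card_SL_two]
    rw [h2] at h1
    have hg : Nat.gcd 2 (Nat.card T - 1) ≤ 2 := Nat.le_of_dvd two_pos (Nat.gcd_dvd_left _ _)
    have hle' : Nat.card J'.range ≤ Nat.card e.range := Nat.le_of_dvd Nat.card_pos (Subgroup.card_dvd_of_le hJle)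
    have hge : Nat.card e.range ≤ Nat.card J'.range := by
      rw [← hcJ, hce]
      have : 2 * Nat.card H ≤ 2 * Nat.card (Matrix.ProjectiveSpecialLinearGroup (Fin 2) T) :=
        h1 ▸ Nat.mul_le_mul_right _ hg
      omega
    have heq : J'.range = e.range := Subgroup.eq_of_le_of_card_ge hJle hge
    exact ⟨(MonoidHom.ofInjective hinj).trans ((MulEquiv.subgroupCongr heq.symm).trans
      (MonoidHom.ofInjective Matrix.ProjectiveSpecialLinearGroup.toPGL_injective).symm)⟩

end Cfsg.Agent.Dickson
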