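import Cfsg.Agent.Lib.Dickson.Classify
import Cfsg.Agent.Lib.Dickson.Subfield
import Cfsg.Agent.Lib.Dickson.Pairs
import Cfsg.Agent.SL2Tor.PSLOrders

/-!
Dickson's list of the subgroups of `PSL₂(F)`, `F` finite.
-/

set_option autoImplicit false
set_option linter.unusedSectionVars false

namespace Cfsg.Agent.Dickson

open Matrix MulAction OnePoint
open scoped MatrixGroups Classical

attribute [local instance] Cfsg.Agent.PLocalB.lineAction pslLine

variable {F : Type*} [Field F] [Fintype F]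

theorem upper_tri_pow {k : Type*} [Field k] (A : SL(2, k)) (h : A 1 0 = 0) (n : ℕ) :
    (A ^ n) 1 0 = 0 ∧ (A ^ n) 0 0 = A 0 0 ^ n := by
  induction n with
  | zero => simp
  | succ n ih =>
    obtain ⟨h1, h2⟩ := ih
    simp only [pow_succ, Matrix.SpecialLinearGroup.coe_mul, Matrix.mul_apply, Fin.sum_univ_two]
    simp [h, h1, h2]

theorem exists_isUni_of_pow_char {k : Type*} [Field k] [IsAlgClosed k] (p : ℕ) [Fact p.Prime]
    [CharP k p] {x : PSL2 k} (hx : x ^ p = 1) : ∃ w : OnePoint k, IsUni w x := by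
  by_cases h1 : x = 1
  · exact ⟨∞, Or.inl h1⟩
  obtain ⟨a, b, hab⟩ := fix_two_psl x h1
  obtain ⟨t, ht⟩ := exists_smul_infty a
  refine ⟨a, ?_⟩
  have hfix : (t * x * t⁻¹) • (∞ : OnePoint k) = ∞ := by
    rw [← ht, mul_smul, mul_smul, inv_smul_smul, (hab a).mpr (Or.inl rfl)]
  obtain ⟨A, hA, h10⟩ := exists_upper_rep hfix
  rw [← isUni_conj_iff (g := t), ht, ← hA, isUni_infty_iff h10]
  have hp : (QuotientGroup.mk (A ^ p) : PSL2 k) = 1 := by
    rw [QuotientGroup.mk_pow, hA, conj_pow, hx, mul_one, mul_inv_cancel]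
  obtain ⟨hp10, hp00⟩ := upper_tri_pow A h10 p
  have hsq : ((A ^ p) 0 0) ^ 2 = 1 := by
    rcases eq_or_eq_neg_of_isScalar ((SL2Tor.psl_mk_eq_one_iff _).mp hp) with e | e <;>
      rw [e] <;> simp
  rw [hp00, ← pow_mul, mul_comm, pow_mul] at hsq
  have h0 : (A 0 0 ^ 2 - 1) ^ p = 0 := by rw [sub_pow_char, hsq, one_pow, sub_self]
  exact sub_eq_zero.mp (pow_eq_zero_iff (Fact.out : p.Prime).ne_zero |>.mp h0)

/-- Dickson's list. -/
def Kind (H : Subgroup (PSL2 F)) : Prop :=
  (∃ k : ℕ, (k ∣ (Fintype.card F + 1) / Nat.gcd 2 (Fintype.card F - 1) ∨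
      k ∣ (Fintype.card F - 1) / Nat.gcd 2 (Fintype.card F - 1)) ∧ IsCyclic H ∧ Nat.card H = k) ∨
  (∃ t : PSL2 F, ∀ g ∈ H, (t * g * t⁻¹) • (∞ : OnePoint F) = ∞) ∨
  (∃ n : ℕ, 2 ≤ n ∧ (n ∣ (Fintype.card F + 1) / Nat.gcd 2 (Fintype.card F - 1) ∨
      n ∣ (Fintype.card F - 1) / Nat.gcd 2 (Fintype.card F - 1)) ∧
      Nonempty (H ≃* DihedralGroup n)) ∨
  Nonempty (H ≃* alternatingGroup (Fin 4)) ∨ Nonempty (H ≃* Equiv.Perm (Fin 4)) ∨
  Nonempty (H ≃* alternatingGroup (Fin 5)) ∨
  (∃ T : Subfield F, 3 ≤ Nat.card T ∧ (∃ m, 1 ≤ m ∧ Nat.card T ^ m = Fintype.card F) ∧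
    (Nonempty (H ≃* Matrix.ProjectiveSpecialLinearGroup (Fin 2) T) ∨
      Nonempty (H ≃* Matrix.ProjGenLinGroup (Fin 2) T)))

theorem exists_pow_card (T : Subfield F) : ∃ m, 1 ≤ m ∧ Nat.card T ^ m = Fintype.card F := by
  refine ⟨Module.finrank T F, Module.finrank_pos, ?_⟩
  rw [← Module.natCard_eq_pow_finrank, Nat.card_eq_fintype_card]

/-- A subgroup of subfield type, with its conjugate inside `PGL₂(T)`. -/
def Big (H : Subgroup (PSL2 F)) (T : Subfield F) : Prop :=
  3 ≤ Nat.card T ∧ (∃ m, 1 ≤ m ∧ Nat.card T ^ m = Fintype.card F) ∧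
    (Nonempty (H ≃* Matrix.ProjectiveSpecialLinearGroup (Fin 2) T) ∨
      Nonempty (H ≃* Matrix.ProjGenLinGroup (Fin 2) T)) ∧
    (∀ g ∈ H, orderOf g ≤ Nat.card T + 1) ∧
    ∃ D : Matrix.ProjGenLinGroup (Fin 2) F, ∀ g ∈ H,
      D⁻¹ * Matrix.ProjectiveSpecialLinearGroup.toPGL g * D ∈
        (Matrix.ProjGenLinGroup.map (n := Fin 2) T.subtype).range

/-- Dickson's list, with more detail in the subfield case. -/
def Kind' (H : Subgroup (PSL2 F)) : Prop :=
  (∃ k : ℕ, (k ∣ (Fintype.card F + 1) / Nat.gcd 2 (Fintype.card F - 1) ∨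
      k ∣ (Fintype.card F - 1) / Nat.gcd 2 (Fintype.card F - 1)) ∧ IsCyclic H ∧ Nat.card H = k) ∨
  (∃ t : PSL2 F, ∀ g ∈ H, (t * g * t⁻¹) • (∞ : OnePoint F) = ∞) ∨
  (∃ n : ℕ, 2 ≤ n ∧ (n ∣ (Fintype.card F + 1) / Nat.gcd 2 (Fintype.card F - 1) ∨
      n ∣ (Fintype.card F - 1) / Nat.gcd 2 (Fintype.card F - 1)) ∧
      Nonempty (H ≃* DihedralGroup n)) ∨
  Nonempty (H ≃* alternatingGroup (Fin 4)) ∨ Nonempty (H ≃* Equiv.Perm (Fin 4)) ∨
  Nonempty (H ≃* alternatingGroup (Fin 5)) ∨
  (∃ T : Subfield F, Big H T)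

theorem kind' (p : ℕ) [Fact p.Prime] [CharP F p] (H : Subgroup (PSL2 F)) : Kind' H := by
  let k := AlgebraicClosure F
  haveI : CharP k p := charP_of_injective_algebraMap (algebraMap F k).injective p
  set f : F →+* k := algebraMap F k
  let ι : H →* PSL2 k := (extend f).comp H.subtype
  have hι : Function.Injective ι := (extend_injective f).comp Subtype.val_injective
  letI : MulAction H (OnePoint k) := MulAction.compHom (OnePoint k) ι
  have hA : Sharp H (OnePoint k) := sharp_of_injective ι hι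
  have hsmul : ∀ (g : H) (v : OnePoint k), g • v = extend f (g : PSL2 F) • v := fun _ _ => rfl
  have hU : ∀ (w : OnePoint k) (g : H), IsUni w g ↔ IsUni w (extend f (g : PSL2 F)) := fun w g => by
    simp only [IsUni, hsmul]
    rw [show (g = 1 ↔ extend f (g : PSL2 F) = 1) from (map_eq_one_iff ι hι).symm]
  have hdvd : ∀ x : H, x ≠ 1 → (¬ ∃ v : OnePoint k, IsUni v x) →
      orderOf x ∣ (Fintype.card F + 1) / Nat.gcd 2 (Fintype.card F - 1) ∨
      orderOf x ∣ (Fintype.card F - 1) / Nat.gcd 2 (Fintype.card F - 1) := by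
    intro x _ hnu
    rw [← Subgroup.orderOf_coe]
    rcases SL2Tor.psl_orderOf_dvd p (x : PSL2 F) with h | h | h
    · exfalso
      have hxp : extend f (x : PSL2 F) ^ p = 1 := by
        rw [← map_pow, orderOf_dvd_iff_pow_eq_one.mp h, map_one]
      obtain ⟨w, hw⟩ := exists_isUni_of_pow_char p hxp
      exact hnu ⟨w, (hU w x).mpr hw⟩
    · exact Or.inr h
    · exact Or.inl h
  have hrat : ∀ w : OnePoint k, 1 < uc hA w → ∃ w₀ : OnePoint F, pointMap f w₀ = w := by
    intro w hw
    haveI : Nontrivial (uni hA w) := Finite.one_lt_card_iff_nontrivial.mp hw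
    obtain ⟨u, hu⟩ := exists_ne (1 : uni hA w)
    refine exists_rational_of_isUni f (g := ((u : H) : PSL2 F)) (fun e => hu ?_)
      ((hU w u).mp u.2)
    exact Subtype.ext (Subtype.ext e)
  rcases classify hA with ⟨hcyc, hnu⟩ | ⟨w, hfix, hu⟩ | ⟨n, hn, hiso, x, hx, hnu⟩ | h | h | h |
      ⟨w, hq, horb, hst⟩
  · left
    refine ⟨Nat.card H, ?_, hcyc, rfl⟩
    obtain ⟨x, hx⟩ := IsCyclic.exists_ofOrder_eq_natCard (α := H)
    by_cases hx1 : x = 1
    · rw [hx1, orderOf_one] at hx
      rw [← hx]; exact Or.inl (one_dvd _)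
    · rw [← hx]; exact hdvd x hx1 (hnu x hx1)
  · right; left
    obtain ⟨w₀, rfl⟩ := hrat w hu
    obtain ⟨t, ht⟩ := exists_smul_infty w₀
    refine ⟨t, fun g hg => ?_⟩
    have : g • w₀ = w₀ := by
      apply pointMap_injective f
      rw [← extend_smul]
      exact hfix ⟨g, hg⟩
    rw [← ht, mul_smul, mul_smul, inv_smul_smul, this]
  · right; right; left
    refine ⟨n, hn, ?_, hiso⟩
    rw [← hx]
    exact hdvd x (fun e => by rw [e, orderOf_one] at hx; omega) hnu
  · exact Or.inr (Or.inr (Or.inr (Or.inl h)))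
  · exact Or.inr (Or.inr (Or.inr (Or.inr (Or.inl h))))
  · exact Or.inr (Or.inr (Or.inr (Or.inr (Or.inr (Or.inl h)))))
  · obtain ⟨w₀, rfl⟩ := hrat w (by omega)
    obtain ⟨t₁, ht₁⟩ := exists_smul_infty w₀
    obtain ⟨v, hv, hvne⟩ : ∃ v ∈ orbit H (pointMap f w₀), v ≠ pointMap f w₀ := by
      by_contra hcon
      push Not at hcon
      have hsub : orbit H (pointMap f w₀) ⊆ {pointMap f w₀} := hcon
      have := Set.ncard_le_ncard hsub (Set.finite_singleton _)
      rw [Set.ncard_singleton, ← Nat.card_coe_set_eq] at this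
      change orb H (pointMap f w₀) ≤ 1 at this
      omega
    obtain ⟨g₀, rfl⟩ := hv
    obtain ⟨z, hz⟩ : ∃ z : F, t₁ • ((g₀ : PSL2 F) • w₀) = (z : OnePoint F) := by
      rcases hcase : t₁ • ((g₀ : PSL2 F) • w₀) with _ | z
      · exfalso
        apply hvne
        have := smul_left_cancel t₁ (hcase.trans ht₁.symm)
        show g₀ • pointMap f w₀ = _
        rw [hsmul, extend_smul, this]
      · exact ⟨z, rfl⟩
    set t := uppHom F (Multiplicative.ofAdd (-z)) * t₁ with ht
    have hupp : ∀ b x : F, uppHom F (Multiplicative.ofAdd b) • ((x : F) : OnePoint F)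
        = ((x + b : F) : OnePoint F) := fun b x => by
      show (PLocalB.upper b) • ((x : F) : OnePoint F) = _
      rw [PLocalB.upper_smul_coe]
    have hupp' : ∀ b : F, uppHom F (Multiplicative.ofAdd b) • (∞ : OnePoint F) = ∞ :=
      fun b => PLocalB.upper_smul_infty b
    have htw : t • w₀ = ∞ := by rw [ht, mul_smul, ht₁, hupp']
    have htv : t • ((g₀ : PSL2 F) • w₀) = ((0 : F) : OnePoint F) := by
      rw [ht, mul_smul, hz, hupp, add_neg_cancel]
    set H' := H.map (MulAut.conj t).toMonoidHom with hH'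
    have hmem : ∀ x, x ∈ H' ↔ t⁻¹ * x * t ∈ H := fun x => by
      rw [hH', Subgroup.mem_map_equiv, MulAut.conj_symm_apply]
    let A : AddSubgroup F :=
      { carrier := {b | uppHom F (Multiplicative.ofAdd b) ∈ H'}
        zero_mem' := by simp [one_mem]
        add_mem' := fun {a b} ha hb => by
          show uppHom F (Multiplicative.ofAdd (a + b)) ∈ H'
          rw [ofAdd_add, map_mul]; exact mul_mem ha hb
        neg_mem' := fun {a} ha => by
          show uppHom F (Multiplicative.ofAdd (-a)) ∈ H'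
          rw [ofAdd_neg, map_inv]; exact inv_mem ha }
    have hAmem : ∀ b, b ∈ A ↔ uppHom F (Multiplicative.ofAdd b) ∈ H' := fun _ => Iff.rfl
    have hUA : ∀ b : F, IsUni (pointMap f w₀)
        (extend f (t⁻¹ * uppHom F (Multiplicative.ofAdd b) * t)) := fun b => by
      rw [isUni_extend_iff, ← isUni_conj_iff (g := t), htw]
      rw [show t * (t⁻¹ * uppHom F (Multiplicative.ofAdd b) * t) * t⁻¹
        = uppHom F (Multiplicative.ofAdd b) by group]
      exact isUni_infty_iff_upp.mpr ⟨b, rfl⟩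
    let toUni : A → uni hA (pointMap f w₀) := fun b =>
      ⟨⟨t⁻¹ * uppHom F (Multiplicative.ofAdd (b : F)) * t, (hmem _).mp b.2⟩,
        (hU _ _).mpr (hUA b)⟩
    have hbij : Function.Bijective toUni := by
      constructor
      · intro a b e
        have e' : t⁻¹ * uppHom F (Multiplicative.ofAdd (a : F)) * t
            = t⁻¹ * uppHom F (Multiplicative.ofAdd (b : F)) * t :=
          congrArg (fun u : uni hA (pointMap f w₀) => ((u : H) : PSL2 F)) e
        exact Subtype.ext (Multiplicative.ofAdd.injective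
          (uppHom_injective (mul_left_cancel (mul_right_cancel e'))))
      · intro u
        have hu := (hU _ _).mp u.2
        rw [isUni_extend_iff, ← isUni_conj_iff (g := t), htw, isUni_infty_iff_upp] at hu
        obtain ⟨b, hb⟩ := hu
        have hbA : b ∈ A := by
          rw [hAmem, ← hb, hmem]
          simp [mul_assoc]
        refine ⟨⟨b, hbA⟩, Subtype.ext (Subtype.ext ?_)⟩
        show t⁻¹ * uppHom F (Multiplicative.ofAdd b) * t = ((u : H) : PSL2 F)
        rw [← hb]; group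
    have hcA : Nat.card A = uc hA (pointMap f w₀) := Nat.card_congr (Equiv.ofBijective _ hbij)
    set S := {v : OnePoint F | ∃ h ∈ H', h • (∞ : OnePoint F) = v} with hS
    have hScard : S.ncard = Nat.card A + 1 := by
      rw [hcA, ← horb, orb, Nat.card_coe_set_eq]
      have hinj : Function.Injective fun v : OnePoint F => pointMap f (t⁻¹ • v) :=
        (pointMap_injective f).comp (MulAction.injective _)
      rw [← Set.ncard_image_of_injective S hinj]
      congr 1
      ext y
      simp only [Set.mem_image, hS, Set.mem_setOf_eq]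
      constructor
      · rintro ⟨v, ⟨h, hh, rfl⟩, rfl⟩
        refine ⟨⟨_, (hmem h).mp hh⟩, ?_⟩
        show extend f (t⁻¹ * h * t) • pointMap f w₀ = _
        rw [extend_smul, mul_smul, htw, mul_smul]
      · rintro ⟨g, rfl⟩
        refine ⟨t • ((g : PSL2 F) • w₀), ⟨t * g * t⁻¹, ?_, ?_⟩, ?_⟩
        · rw [hmem]; simp [mul_assoc]
        · rw [← htw, mul_smul, mul_smul, inv_smul_smul]
        · show _ = g • pointMap f w₀
          rw [inv_smul_smul, hsmul, extend_smul]
    have hsub : (insert (∞ : OnePoint F) ((fun a : F => (a : OnePoint F)) '' (A : Set F))) ⊆ S := by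
      intro v hv
      rcases Set.mem_insert_iff.mp hv with rfl | ⟨a, ha, rfl⟩
      · exact ⟨1, one_mem _, one_smul _ _⟩
      · have h0 : t * (g₀ : PSL2 F) * t⁻¹ ∈ H' := by rw [hmem]; simp [mul_assoc]
        refine ⟨uppHom F (Multiplicative.ofAdd a) * (t * (g₀ : PSL2 F) * t⁻¹),
          mul_mem ha h0, ?_⟩
        conv_lhs => rw [← htw]
        rw [mul_smul, mul_smul, mul_smul, inv_smul_smul, htv, hupp, zero_add]
    have hins : (insert (∞ : OnePoint F) ((fun a : F => (a : OnePoint F)) '' (A : Set F))).ncard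
        = Nat.card A + 1 := by
      rw [Set.ncard_insert_of_notMem (by simp) (Set.toFinite _),
        Set.ncard_image_of_injective _ (fun a b h => OnePoint.coe_eq_coe.mp h),
        ← Nat.card_coe_set_eq]
      rfl
    have hSeq := Set.eq_of_subset_of_ncard_le hsub (by rw [hins, hScard]) (Set.toFinite _)
    have hcard : Nat.card H' = (Nat.card A + 1) * (Nat.card A * (Nat.card A - 1)) ∨
        2 * Nat.card H' = (Nat.card A + 1) * (Nat.card A * (Nat.card A - 1)) := by
      rw [hH', Subgroup.card_map_of_injective (MulAut.conj t).injective,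
        ← orb_mul_st (G := H) (pointMap f w₀), horb, hcA]
      rcases hst with h | h
      · left; rw [h]
      · right; rw [← h]; ring
    obtain ⟨T, hT, hiso, D, hD⟩ := subfield_case H' A hAmem (by omega) (fun v => by
      show v ∈ S ↔ _
      rw [← hSeq]
      simp [eq_comm]) hcard
    let e : H ≃* H' := H.equivMapOfInjective _ (MulAut.conj t).injective
    refine Or.inr (Or.inr (Or.inr (Or.inr (Or.inr (Or.inr
      ⟨T, by omega, exists_pow_card T, ?_, fun g hg => ?_,
        (Matrix.ProjectiveSpecialLinearGroup.toPGL t)⁻¹ * D, fun g hg => ?_⟩)))))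
    · rcases hiso with h | h
      · exact Or.inl (h.map e.trans)
      · exact Or.inr (h.map e.trans)
    · rw [hT, hcA, show orderOf g = orderOf (⟨g, hg⟩ : H) from (Subgroup.orderOf_mk g hg).symm]
      refine orderOf_le_of_orbit hA hq horb ?_ _
      rcases hst with h | h <;> omega
    · have := hD (t * g * t⁻¹) (by rw [hmem]; simpa [mul_assoc] using hg)
      simpa [map_mul, map_inv, mul_assoc] using this

/-- **Dickson's theorem.** -/
theorem kind (p : ℕ) [Fact p.Prime] [CharP F p] (H : Subgroup (PSL2 F)) : Kind H := by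
  rcases kind' p H with h | h | h | h | h | h | ⟨T, h1, h2, h3, -⟩
  · exact Or.inl h
  · exact Or.inr (Or.inl h)
  · exact Or.inr (Or.inr (Or.inl h))
  · exact Or.inr (Or.inr (Or.inr (Or.inl h)))
  · exact Or.inr (Or.inr (Or.inr (Or.inr (Or.inl h))))
  · exact Or.inr (Or.inr (Or.inr (Or.inr (Or.inr (Or.inl h)))))
  · exact Or.inr (Or.inr (Or.inr (Or.inr (Or.inr (Or.inr ⟨T, h1, h2, h3⟩)))))

end Cfsg.Agent.Dickson
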