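import Cfsg.Agent.Lib.Dickson.Main

/-!
Tori of `PSL₂(q)` and the containments in Dickson's list.
-/

set_option autoImplicit false
set_option linter.unusedSectionVars false

namespace Cfsg.Agent.Dickson

open Matrix MulAction OnePoint
open scoped MatrixGroups

attribute [local instance] Cfsg.Agent.PLocalB.lineAction pslLine

variable {F : Type*} [Field F] [Fintype F]

/-- The action on the line over the algebraic closure. -/
@[reducible] noncomputable def pslBar (F : Type*) [Field F] :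
    MulAction (PSL2 F) (OnePoint (AlgebraicClosure F)) :=
  MulAction.compHom _ (extend (algebraMap F (AlgebraicClosure F)))

attribute [local instance] pslBar

theorem sharp_bar : Sharp (PSL2 F) (OnePoint (AlgebraicClosure F)) :=
  sharp_of_injective _ (extend_injective _)

theorem bar_smul (g : PSL2 F) (w : OnePoint F) :
    g • pointMap (algebraMap F (AlgebraicClosure F)) w
      = pointMap (algebraMap F (AlgebraicClosure F)) (g • w) :=
  extend_smul _ g w

theorem isUni_bar_iff (v : OnePoint (AlgebraicClosure F)) (g : PSL2 F) :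
    IsUni v g ↔ IsUni v (extend (algebraMap F (AlgebraicClosure F)) g) :=
  or_congr (map_eq_one_iff _ (extend_injective _)).symm Iff.rfl

theorem card_onePoint : Nat.card (OnePoint F) = Fintype.card F + 1 := by
  rw [show Nat.card (OnePoint F) = Nat.card (Option F) from rfl, Finite.card_option,
    Nat.card_eq_fintype_card]

theorem card_psl_eq : Nat.gcd 2 (Fintype.card F - 1) * Nat.card (PSL2 F) =
    (Fintype.card F + 1) * (Fintype.card F * (Fintype.card F - 1)) := by
  have h := LinearGroup.gcd_mul_card_PSL_two (F := F)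
  rw [Nat.card_eq_fintype_card (α := F)] at h
  rw [h, show Fintype.card F ^ 2 - 1 = (Fintype.card F + 1) * (Fintype.card F - 1) by
    rw [← Nat.sq_sub_sq, one_pow]]
  ring

theorem gcd_dvd_succ (n : ℕ) (hn : 1 ≤ n) : Nat.gcd 2 (n - 1) ∣ n + 1 := by
  have h1 := Nat.gcd_dvd_left 2 (n - 1)
  have h2 := Nat.gcd_dvd_right 2 (n - 1)
  have := dvd_add h2 h1
  rwa [show n - 1 + 2 = n + 1 by omega] at this

theorem isUni_bar_pow (p : ℕ) [Fact p.Prime] [CharP F p] {g : PSL2 F}
    {v : OnePoint (AlgebraicClosure F)} (h : IsUni v g) : g ^ p = 1 := by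
  rcases eq_or_ne g 1 with rfl | hg
  · exact one_pow p
  rw [isUni_bar_iff] at h
  obtain ⟨w, rfl⟩ := exists_rational_of_isUni _ hg h
  rw [isUni_extend_iff] at h
  obtain ⟨t, ht⟩ := exists_smul_infty w
  rw [← isUni_conj_iff (g := t), ht, isUni_infty_iff_upp] at h
  obtain ⟨b, hb⟩ := h
  have : (t * g * t⁻¹) ^ p = 1 := by
    rw [hb, ← map_pow, ← ofAdd_nsmul, nsmul_eq_mul, CharP.cast_eq_zero, zero_mul, ofAdd_zero, map_one]
  rwa [conj_pow, conj_eq_one_iff] at this

/-- `PSL₂(q)` on the line over the algebraic closure. -/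
theorem ovoid_psl : Ovoid (sharp_bar (F := F))
    (Set.range (pointMap (algebraMap F (AlgebraicClosure F)))) (Fintype.card F)
    (Nat.gcd 2 (Fintype.card F - 1)) := by
  have hq := Fintype.one_lt_card (α := F)
  refine ⟨hq, Nat.gcd_pos_of_pos_left _ two_pos, Nat.le_of_dvd two_pos (Nat.gcd_dvd_left _ _), ?_,
    ?_, ?_, ?_, card_psl_eq, ?_⟩
  · rw [Set.ncard_range_of_injective (pointMap_injective _), card_onePoint]
  · rintro g _ ⟨w, rfl⟩
    exact ⟨g • w, (bar_smul g w).symm⟩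
  · rintro _ ⟨w, rfl⟩
    obtain ⟨t, ht⟩ := exists_smul_infty w
    have key : ∀ g : PSL2 F, IsUni (pointMap (algebraMap F (AlgebraicClosure F)) w) g ↔
        t * g * t⁻¹ ∈ (uppHom F).range := fun g => by
      rw [isUni_bar_iff, isUni_extend_iff, ← isUni_conj_iff (g := t), ht, isUni_infty_iff_upp]
      exact ⟨fun ⟨b, hb⟩ => ⟨_, hb.symm⟩, fun ⟨b, hb⟩ => ⟨b.toAdd, hb.symm⟩⟩
    have e : uni sharp_bar (pointMap (algebraMap F (AlgebraicClosure F)) w)
        = (uppHom F).range.comap (MulAut.conj t).toMonoidHom := Subgroup.ext key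
    rw [uc, e, Subgroup.comap_equiv_eq_map_symm' (MulAut.conj t) (uppHom F).range,
      Subgroup.card_map_of_injective (MulAut.conj t).symm.injective,
      ← Nat.card_congr (MonoidHom.ofInjective uppHom_injective).toEquiv,
      Nat.card_congr Multiplicative.toAdd, Nat.card_eq_fintype_card]
  · intro v hv
    rw [uc, Subgroup.card_eq_one, Subgroup.eq_bot_iff_forall]
    intro g hg
    by_contra hg1
    obtain ⟨w, hw⟩ := exists_rational_of_isUni _ hg1 ((isUni_bar_iff v g).mp hg)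
    exact hv ⟨w, hw⟩
  · obtain ⟨g, hg⟩ := SL2Tor.exists_psl_orderOf_div (F := F) (Or.inr rfl)
    exact ⟨g, by rw [hg, Nat.mul_div_cancel' (gcd_dvd_succ _ (by omega))]⟩

/-- A dihedral subgroup of order `2(q ± 1)/d`. -/
def IsTorusNorm (N : Subgroup (PSL2 F)) (n : ℕ) : Prop :=
  2 ≤ n ∧ Nonempty (N ≃* DihedralGroup n) ∧ (∀ w : OnePoint F, ∃ h ∈ N, h • w ≠ w) ∧
    (Nat.gcd 2 (Fintype.card F - 1) * n = Fintype.card F - 1 ∨
      Nat.gcd 2 (Fintype.card F - 1) * n = Fintype.card F + 1)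

theorem not_isUni_of_coprime (p : ℕ) [Fact p.Prime] [CharP F p] {g : PSL2 F} (hg : g ≠ 1)
    (h : Nat.Coprime (orderOf g) p) : ¬ ∃ v : OnePoint (AlgebraicClosure F), IsUni v g := by
  rintro ⟨v, hv⟩
  exact hg (orderOf_eq_one_iff.mp (h.eq_one_of_dvd (orderOf_dvd_of_pow_eq_one (isUni_bar_pow p hv))))

theorem coprime_char (p : ℕ) [Fact p.Prime] [CharP F p] {k : ℕ}
    (hk : k ∣ (Fintype.card F + 1) / Nat.gcd 2 (Fintype.card F - 1) ∨
      k ∣ (Fintype.card F - 1) / Nat.gcd 2 (Fintype.card F - 1)) : Nat.Coprime k p := by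
  rw [Nat.coprime_comm, (Fact.out : p.Prime).coprime_iff_not_dvd]
  intro h
  obtain ⟨n, -, hn⟩ := FiniteField.card F p
  have hq := Fintype.one_lt_card (α := F)
  have hp : p ∣ Fintype.card F := hn ▸ dvd_pow_self _ n.pos.ne'
  have h1 : Nat.gcd 2 (Fintype.card F - 1) ∣ Fintype.card F + 1 := gcd_dvd_succ _ (by omega)
  have h2 : Nat.gcd 2 (Fintype.card F - 1) ∣ Fintype.card F - 1 := Nat.gcd_dvd_right _ _
  have h3 : p ∣ 1 := by
    rcases hk with hk | hk
    · exact (Nat.dvd_add_right hp).mp ((h.trans hk).trans (Nat.div_dvd_of_dvd h1))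
    · have := Nat.dvd_sub hp ((h.trans hk).trans (Nat.div_dvd_of_dvd h2))
      rwa [Nat.sub_sub_self (by omega : 1 ≤ Fintype.card F)] at this
  exact (Fact.out : p.Prime).not_dvd_one h3

theorem torus_of (p : ℕ) [Fact p.Prime] [CharP F p] {g : PSL2 F} (hg : g ≠ 1)
    (hcop : Nat.Coprime (orderOf g) p) :
    ∃ (N : Subgroup (PSL2 F)) (n : ℕ), IsTorusNorm N n ∧ g ∈ N ∧ orderOf g ∣ n ∧
      (∀ h : PSL2 F, h * g * h⁻¹ ∈ Subgroup.zpowers g → h ∈ N) ∧
      ((Nat.gcd 2 (Fintype.card F - 1) * n = Fintype.card F - 1 ∧ ∃ w : OnePoint F, g • w = w) ∨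
        (Nat.gcd 2 (Fintype.card F - 1) * n = Fintype.card F + 1 ∧ ∀ w : OnePoint F, g • w ≠ w)) := by
  obtain ⟨N, n, hn, hiso, hgN, hnorm, hmove, hdvd, hkind⟩ :=
    ovoid_psl.exists_torus hg (not_isUni_of_coprime p hg hcop)
  refine ⟨N, n, ⟨hn, hiso, fun w => ?_, hkind.imp And.left And.left⟩, hgN, hdvd, hnorm, ?_⟩
  · obtain ⟨h, hh, hne⟩ := hmove (pointMap (algebraMap F (AlgebraicClosure F)) w)
    exact ⟨h, hh, fun e => hne (by rw [bar_smul, e])⟩
  · rcases hkind with ⟨h, _, ⟨w, rfl⟩, hw⟩ | ⟨h, hw⟩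
    · exact Or.inl ⟨h, w, pointMap_injective _ ((bar_smul g w).symm.trans hw)⟩
    · exact Or.inr ⟨h, fun w e => hw _ ⟨w, rfl⟩ (by rw [bar_smul, e])⟩

theorem d_mul_card_stabilizer (w : OnePoint F) :
    Nat.gcd 2 (Fintype.card F - 1) * Nat.card (stabilizer (PSL2 F) w) =
      Fintype.card F * (Fintype.card F - 1) := by
  have h := ovoid_psl.d_mul_st (⟨w, rfl⟩ :
    pointMap (algebraMap F (AlgebraicClosure F)) w ∈ Set.range (pointMap _))
  have e : stabilizer (PSL2 F) (pointMap (algebraMap F (AlgebraicClosure F)) w)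
      = stabilizer (PSL2 F) w := by
    ext g
    rw [mem_stabilizer_iff, mem_stabilizer_iff, bar_smul, (pointMap_injective _).eq_iff]
  rwa [st, e] at h

theorem index_stabilizer_point (w : OnePoint F) :
    (stabilizer (PSL2 F) w).index = Fintype.card F + 1 := by
  have h1 := d_mul_card_stabilizer w
  have h2 := card_psl_eq (F := F)
  have hq := Fintype.one_lt_card (α := F)
  rw [← Subgroup.card_mul_index (stabilizer (PSL2 F) w), ← mul_assoc, h1, mul_comm] at h2
  exact Nat.eq_of_mul_eq_mul_right (Nat.mul_pos (by omega) (by omega)) h2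

theorem stabilizer_point_ne_top (w : OnePoint F) : stabilizer (PSL2 F) w ≠ ⊤ := by
  intro h
  have := index_stabilizer_point w
  rw [h, Subgroup.index_top] at this
  have := Fintype.one_lt_card (α := F)
  omega

theorem exists_torus_plus :
    ∃ N : Subgroup (PSL2 F),
      IsTorusNorm N ((Fintype.card F + 1) / Nat.gcd 2 (Fintype.card F - 1)) := by
  obtain ⟨p, hp⟩ := CharP.exists F
  obtain ⟨f, hpp, -⟩ := FiniteField.card F p
  haveI := Fact.mk hpp
  have hq := Fintype.one_lt_card (α := F)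
  obtain ⟨g, hg⟩ := SL2Tor.exists_psl_orderOf_div (F := F) (Or.inr rfl)
  have hd : Nat.gcd 2 (Fintype.card F - 1) * orderOf g = Fintype.card F + 1 := by
    rw [hg, Nat.mul_div_cancel' (gcd_dvd_succ _ (by omega))]
  have hd2 := Nat.le_of_dvd two_pos (Nat.gcd_dvd_left 2 (Fintype.card F - 1))
  have hg1 : g ≠ 1 := fun e => by rw [e, orderOf_one] at hd; omega
  obtain ⟨N, n, hN, -, hdvd, -, hkind⟩ := torus_of p hg1 (coprime_char p (Or.inl (dvd_of_eq hg)))
  rcases hkind with ⟨hn, -⟩ | ⟨hn, -⟩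
  · exfalso
    have h1 : Fintype.card F + 1 ∣ Fintype.card F - 1 := by
      exact (dvd_of_eq hd.symm).trans ((Nat.mul_dvd_mul_left _ hdvd).trans (dvd_of_eq hn))
    have := Nat.le_of_dvd (by omega) h1
    omega
  · refine ⟨N, ?_⟩
    rwa [Nat.div_eq_of_eq_mul_right (Nat.gcd_pos_of_pos_left _ two_pos) hn.symm]

theorem exists_torus_minus (h2 : 2 ≤ (Fintype.card F - 1) / Nat.gcd 2 (Fintype.card F - 1)) :
    ∃ N : Subgroup (PSL2 F),
      IsTorusNorm N ((Fintype.card F - 1) / Nat.gcd 2 (Fintype.card F - 1)) := by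
  obtain ⟨p, hp⟩ := CharP.exists F
  obtain ⟨f, hpp, -⟩ := FiniteField.card F p
  haveI := Fact.mk hpp
  have hq := Fintype.one_lt_card (α := F)
  obtain ⟨g, hg⟩ := SL2Tor.exists_psl_orderOf_div (F := F) (Or.inl rfl)
  have hd : Nat.gcd 2 (Fintype.card F - 1) * orderOf g = Fintype.card F - 1 := by
    rw [hg, Nat.mul_div_cancel' (Nat.gcd_dvd_right _ _)]
  have hg1 : g ≠ 1 := fun e => by rw [e, orderOf_one] at hg; omega
  obtain ⟨N, n, hN, -, hdvd, -, hkind⟩ := torus_of p hg1 (coprime_char p (Or.inr (dvd_of_eq hg)))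
  rcases hkind with ⟨hn, -⟩ | ⟨hn, -⟩
  · refine ⟨N, ?_⟩
    rwa [Nat.div_eq_of_eq_mul_right (Nat.gcd_pos_of_pos_left _ two_pos) hn.symm]
  · exfalso
    have h1 : Fintype.card F - 1 ∣ Fintype.card F + 1 := by
      exact (dvd_of_eq hd.symm).trans ((Nat.mul_dvd_mul_left _ hdvd).trans (dvd_of_eq hn))
    have h3 := Nat.dvd_sub h1 (dvd_refl (Fintype.card F - 1))
    rw [show Fintype.card F + 1 - (Fintype.card F - 1) = 2 by omega] at h3
    have h4 := Nat.le_of_dvd two_pos h3
    have : Fintype.card F = 2 ∨ Fintype.card F = 3 := by omega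
    rcases this with e | e <;> rw [e] at h2 <;> simp at h2

/-- The containments in Dickson's list. -/
theorem subgroup_cases (p : ℕ) [Fact p.Prime] [CharP F p] (H : Subgroup (PSL2 F)) :
    (∃ w : OnePoint F, H ≤ stabilizer (PSL2 F) w) ∨
    (∃ (N : Subgroup (PSL2 F)) (n : ℕ), IsTorusNorm N n ∧ H ≤ N) ∨
    Nonempty (H ≃* alternatingGroup (Fin 4)) ∨ Nonempty (H ≃* Equiv.Perm (Fin 4)) ∨
    Nonempty (H ≃* alternatingGroup (Fin 5)) ∨ (∃ T : Subfield F, Big H T) := by
  rcases kind' p H with ⟨k, hk, hcyc, hcard⟩ | ⟨t, ht⟩ | ⟨n, hn, hnk, ⟨e⟩⟩ | h | h | h | h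
  · obtain ⟨⟨x, hx⟩, hgen⟩ := hcyc.exists_generator
    by_cases hx1 : x = 1
    · refine Or.inl ⟨∞, fun y hy => ?_⟩
      obtain ⟨i, hi⟩ := hgen ⟨y, hy⟩
      have : x ^ i = y := congrArg Subtype.val hi
      rw [mem_stabilizer_iff, ← this, hx1, _root_.one_zpow, one_smul]
    · have hox : orderOf x ∣ k := by
        rw [← hcard, ← Subgroup.orderOf_mk x hx]; exact orderOf_dvd_natCard _
      obtain ⟨N, n, hN, hxN, -⟩ := torus_of p hx1
        (coprime_char p (hk.imp hox.trans hox.trans))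
      refine Or.inr (Or.inl ⟨N, n, hN, fun y hy => ?_⟩)
      obtain ⟨i, hi⟩ := hgen ⟨y, hy⟩
      have : x ^ i = y := congrArg Subtype.val hi
      rw [← this]
      exact zpow_mem hxN i
  · refine Or.inl ⟨t⁻¹ • (∞ : OnePoint F), fun g hg => ?_⟩
    have := ht g hg
    rw [mul_smul, mul_smul, ← eq_inv_smul_iff] at this
    exact this
  · set x : PSL2 F := ((e.symm (DihedralGroup.r 1) : H) : PSL2 F) with hxdef
    have hox : orderOf x = n := by
      rw [hxdef, Subgroup.orderOf_coe, MulEquiv.orderOf_eq, DihedralGroup.orderOf_r_one]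
    have hx1 : x ≠ 1 := fun e' => by rw [e', orderOf_one] at hox; omega
    obtain ⟨N, m, hN, -, -, hnorm, -⟩ := torus_of p hx1 (hox.symm ▸ coprime_char p hnk)
    refine Or.inr (Or.inl ⟨N, m, hN, fun y hy => hnorm y ?_⟩)
    obtain ⟨z, hz⟩ := e.symm.surjective ⟨y, hy⟩
    have hconj : y * x * y⁻¹ = ((e.symm (z * DihedralGroup.r 1 * z⁻¹) : H) : PSL2 F) := by
      rw [map_mul, map_mul, map_inv, hz]; rfl
    rw [hconj]
    rcases z with i | i
    · rw [DihedralGroup.inv_r, DihedralGroup.r_mul_r, DihedralGroup.r_mul_r,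
        show i + 1 + -i = 1 by ring]
      exact Subgroup.mem_zpowers _
    · rw [DihedralGroup.inv_sr, DihedralGroup.sr_mul_r, DihedralGroup.sr_mul_sr,
        show i - (i + 1) = -(1 : ZMod n) by ring, ← DihedralGroup.inv_r, map_inv, Subgroup.coe_inv]
      exact inv_mem (Subgroup.mem_zpowers _)
  · exact Or.inr (Or.inr (Or.inl h))
  · exact Or.inr (Or.inr (Or.inr (Or.inl h)))
  · exact Or.inr (Or.inr (Or.inr (Or.inr (Or.inl h))))
  · exact Or.inr (Or.inr (Or.inr (Or.inr (Or.inr h))))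

end Cfsg.Agent.Dickson
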