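import Cfsg.Agent.Lib.Dickson.MaximalTypes

/-!
Involutions and four-groups of `PSL₂(F)` in odd characteristic.
-/

set_option autoImplicit false
set_option linter.unusedSectionVars false

namespace Cfsg.Agent.Dickson

open Matrix
open scoped MatrixGroups

section Klein

variable {G : Type*} [Group G]

/-- The subgroup of two commuting involutions. -/
def fourGroup (t s : G) (ht : t * t = 1) (hs : s * s = 1) (hc : Commute t s) : Subgroup G where
  carrier := {g | g = 1 ∨ g = t ∨ g = s ∨ g = t * s}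
  one_mem' := Or.inl rfl
  mul_mem' := by
    have e1 : ∀ x, t * (t * x) = x := fun x => by rw [← mul_assoc, ht, one_mul]
    have e2 : ∀ x, s * (s * x) = x := fun x => by rw [← mul_assoc, hs, one_mul]
    have e3 : s * t = t * s := hc.eq.symm
    have e4 : ∀ x, s * (t * x) = t * (s * x) := fun x => by rw [← mul_assoc, e3, mul_assoc]
    rintro a b (rfl | rfl | rfl | rfl) (rfl | rfl | rfl | rfl) <;>
      simp [mul_assoc, ht, hs, e1, e2, e3, e4]
  inv_mem' := by
    have e3 : s * t = t * s := hc.eq.symm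
    rintro a (rfl | rfl | rfl | rfl)
    · simp
    · exact Or.inr (Or.inl (inv_eq_of_mul_eq_one_right ht))
    · exact Or.inr (Or.inr (Or.inl (inv_eq_of_mul_eq_one_right hs)))
    · refine Or.inr (Or.inr (Or.inr ?_))
      rw [_root_.mul_inv_rev, inv_eq_of_mul_eq_one_right ht, inv_eq_of_mul_eq_one_right hs, e3]

theorem card_fourGroup {t s : G} (ht : t * t = 1) (hs : s * s = 1) (hc : Commute t s)
    (ht1 : t ≠ 1) (hs1 : s ≠ 1) (hts : t ≠ s) : Nat.card (fourGroup t s ht hs hc) = 4 := by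
  have h3 : t * s ≠ 1 := fun e => hts ((eq_inv_of_mul_eq_one_left e).trans (inv_eq_of_mul_eq_one_right hs))
  show Nat.card ({g | g = 1 ∨ g = t ∨ g = s ∨ g = t * s} : Set G) = 4
  rw [show {g | g = 1 ∨ g = t ∨ g = s ∨ g = t * s} = ({1, t, s, t * s} : Set G) from rfl,
    Nat.card_coe_set_eq, Set.ncard_insert_of_notMem (by simp [ht1.symm, hs1.symm, h3.symm]),
    Set.ncard_insert_of_notMem (by simp [hts, hs1]), Set.ncard_pair (by simp [ht1])]

theorem isKleinFour_fourGroup [Finite G] {t s : G} (ht : t * t = 1) (hs : s * s = 1) (hc : Commute t s)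
    (ht1 : t ≠ 1) (hs1 : s ≠ 1) (hts : t ≠ s) : IsKleinFour (fourGroup t s ht hs hc) := by
  refine ⟨card_fourGroup ht hs hc ht1 hs1 hts, ?_⟩
  have hd : Monoid.exponent (fourGroup t s ht hs hc) ∣ 2 := by
    refine Monoid.exponent_dvd_of_forall_pow_eq_one ?_
    rintro ⟨g, hg⟩
    apply Subtype.ext
    show g ^ 2 = 1
    rw [pow_two]
    have e3 : s * t = t * s := hc.eq.symm
    rcases hg with rfl | rfl | rfl | rfl
    · exact one_mul 1
    · exact ht
    · exact hs
    · rw [mul_assoc, ← mul_assoc s, e3, mul_assoc t, hs, mul_one, ht]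
  rcases (Nat.dvd_prime Nat.prime_two).mp hd with h | h
  · exfalso
    haveI : Subsingleton (fourGroup t s ht hs hc) := Monoid.exp_eq_one_iff.mp h
    have := Nat.card_unique (α := fourGroup t s ht hs hc)
    rw [card_fourGroup ht hs hc ht1 hs1 hts] at this
    omega
  · exact h

/-- The ordered pairs of distinct commuting involutions. -/
abbrev InvPairs (G : Type*) [Group G] : Type _ :=
  {p : G × G // orderOf p.1 = 2 ∧ orderOf p.2 = 2 ∧ Commute p.1 p.2 ∧ p.1 ≠ p.2}

theorem card_invPairs [Finite G] :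
    Nat.card (InvPairs G) = 6 * Nat.card {V : Subgroup G // IsKleinFour V} := by
  classical
  have sq : ∀ {g : G}, orderOf g = 2 → g * g = 1 := fun h => by
    rw [← pow_two]; exact orderOf_dvd_iff_pow_eq_one.mp (dvd_of_eq h)
  have ne1 : ∀ {g : G}, orderOf g = 2 → g ≠ 1 := fun h e => by rw [e, orderOf_one] at h; omega
  let f : (Σ V : {V : Subgroup G // IsKleinFour V},
      {p : V.1 × V.1 // p.1 ≠ 1 ∧ p.2 ≠ 1 ∧ p.1 ≠ p.2}) → InvPairs G := fun x =>
    ⟨((x.2.1.1 : G), (x.2.1.2 : G)), by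
      haveI := x.1.2
      refine ⟨?_, ?_, ?_, fun e => x.2.2.2.2 (Subtype.ext e)⟩
      · rw [Subgroup.orderOf_coe]
        exact orderOf_eq_prime (by rw [pow_two, IsKleinFour.mul_self]) x.2.2.1
      · rw [Subgroup.orderOf_coe]
        exact orderOf_eq_prime (by rw [pow_two, IsKleinFour.mul_self]) x.2.2.2.1
      · show (x.2.1.1 : G) * (x.2.1.2 : G) = (x.2.1.2 : G) * (x.2.1.1 : G)
        exact congrArg Subtype.val (mul_comm_of_exponent_two (IsKleinFour.exponent_two (G := x.1.1))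
          x.2.1.1 x.2.1.2)⟩
  have huniq : ∀ (V : Subgroup G), IsKleinFour V → ∀ t s : V, ∀ (ht : (t : G) * t = 1)
      (hs : (s : G) * s = 1) (hc : Commute (t : G) s), t ≠ 1 → s ≠ 1 → t ≠ s →
      fourGroup (t : G) s ht hs hc = V := by
    intro V hV t s ht hs hc ht1 hs1 hts
    refine Subgroup.eq_of_le_of_card_ge ?_ ?_
    · rintro g (rfl | rfl | rfl | rfl)
      · exact one_mem _
      · exact t.2
      · exact s.2
      · exact mul_mem t.2 s.2
    · rw [card_fourGroup ht hs hc (fun e => ht1 (Subtype.ext e)) (fun e => hs1 (Subtype.ext e))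
        (fun e => hts (Subtype.ext e)), hV.card_four]
  have hf : Function.Bijective f := by
    constructor
    · rintro ⟨V, p⟩ ⟨W, r⟩ e
      have e1 : (p.1.1 : G) = r.1.1 := congrArg (fun x : InvPairs G => x.1.1) e
      have e2 : (p.1.2 : G) = r.1.2 := congrArg (fun x : InvPairs G => x.1.2) e
      have hp := (f ⟨V, p⟩).2
      have hr := (f ⟨W, r⟩).2
      have hVW : V = W := by
        apply Subtype.ext
        rw [← huniq V.1 V.2 p.1.1 p.1.2 (sq hp.1) (sq hp.2.1) hp.2.2.1 p.2.1 p.2.2.1 p.2.2.2,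
          ← huniq W.1 W.2 r.1.1 r.1.2 (sq hr.1) (sq hr.2.1) hr.2.2.1 r.2.1 r.2.2.1 r.2.2.2]
        simp only [e1, e2]
      subst hVW
      rw [show p = r from Subtype.ext (Prod.ext (Subtype.ext e1) (Subtype.ext e2))]
    · rintro ⟨⟨t, s⟩, ht, hs, hc, hts⟩
      exact ⟨⟨⟨fourGroup t s (sq ht) (sq hs) hc,
          isKleinFour_fourGroup (sq ht) (sq hs) hc (ne1 ht) (ne1 hs) hts⟩,
        ⟨(⟨t, Or.inr (Or.inl rfl)⟩, ⟨s, Or.inr (Or.inr (Or.inl rfl))⟩),
          fun e => ne1 ht (congrArg Subtype.val e), fun e => ne1 hs (congrArg Subtype.val e),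
          fun e => hts (congrArg Subtype.val e)⟩⟩, rfl⟩
  rw [← Nat.card_congr (Equiv.ofBijective f hf)]
  haveI := Fintype.ofFinite {V : Subgroup G // IsKleinFour V}
  rw [Nat.card_sigma, Finset.sum_congr rfl (g := fun _ => 6) (fun V _ => ?_), Finset.sum_const,
    smul_eq_mul, Finset.card_univ, ← Nat.card_eq_fintype_card, mul_comm]
  haveI := V.2
  haveI := Fintype.ofFinite V.1
  rw [Nat.card_eq_fintype_card, Fintype.card_subtype]
  rw [show (Finset.univ.filter fun p : V.1 × V.1 => p.1 ≠ 1 ∧ p.2 ≠ 1 ∧ p.1 ≠ p.2) =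
    (Finset.univ.erase (1 : V.1)).offDiag from Finset.ext fun p => by simp [Finset.mem_offDiag],
    Finset.offDiag_card, Finset.card_erase_of_mem (Finset.mem_univ _), Finset.card_univ,
    IsKleinFour.card_four']

/-- Two conjugate elements have centralisers counted alike; the orbit counts the index. -/
theorem card_conjugates_mul [Finite G] (z : G) (S : Set G)
    (hS : ∀ t, t ∈ S ↔ ∃ c, c * z * c⁻¹ = t) :
    Nat.card S * Nat.card (Subgroup.centralizer ({z} : Set G)) = Nat.card G := by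
  let f : G ⧸ Subgroup.centralizer ({z} : Set G) → S := Quotient.lift
    (fun c => ⟨c * z * c⁻¹, (hS _).mpr ⟨c, rfl⟩⟩) fun a b h => by
      have h' : a⁻¹ * b ∈ Subgroup.centralizer ({z} : Set G) := QuotientGroup.leftRel_apply.mp h
      rw [Subgroup.mem_centralizer_singleton_iff] at h'
      apply Subtype.ext
      show a * z * a⁻¹ = b * z * b⁻¹
      calc a * z * a⁻¹ = a * (z * (a⁻¹ * b)) * b⁻¹ := by group
        _ = a * ((a⁻¹ * b) * z) * b⁻¹ := by rw [← h']
        _ = b * z * b⁻¹ := by group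
  have hf : Function.Bijective f := by
    constructor
    · intro x y
      obtain ⟨a, rfl⟩ := QuotientGroup.mk_surjective x
      obtain ⟨b, rfl⟩ := QuotientGroup.mk_surjective y
      intro e
      have e' : a * z * a⁻¹ = b * z * b⁻¹ := congrArg Subtype.val e
      rw [QuotientGroup.eq, Subgroup.mem_centralizer_singleton_iff]
      calc a⁻¹ * b * z = a⁻¹ * (b * z * b⁻¹) * b := by group
        _ = a⁻¹ * (a * z * a⁻¹) * b := by rw [← e']
        _ = z * (a⁻¹ * b) := by group
    · rintro ⟨t, ht⟩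
      obtain ⟨c, hc⟩ := (hS t).mp ht
      exact ⟨QuotientGroup.mk c, Subtype.ext hc⟩
  rw [← Nat.card_congr (Equiv.ofBijective f hf), ← Subgroup.card_eq_card_quotient_mul_card_subgroup]

end Klein

variable {F : Type*} [Field F] [Fintype F]

theorem exists_conj_J (h2 : (2 : F) ≠ 0) (A : SL(2, F)) (hA : str A = 0) :
    ∃ x : SL(2, F), (A : Matrix (Fin 2) (Fin 2) F) * (x : Matrix (Fin 2) (Fin 2) F) =
      (x : Matrix (Fin 2) (Fin 2) F) * !![0, -1; 1, 0] := by
  have hd : A 0 0 * A 1 1 - A 0 1 * A 1 0 = 1 := by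
    have := A.2; rwa [det_fin_two] at this
  have ht : A 1 1 = - A 0 0 := by
    have := hA; simp only [str, trace_fin_two] at this; linear_combination this
  rw [ht] at hd
  obtain ⟨a, b, hab⟩ : ∃ a b : F,
      A 1 0 * a ^ 2 + (A 1 1 - A 0 0) * a * b - A 0 1 * b ^ 2 = 1 := by
    by_cases h10 : A 1 0 = 0
    · rw [h10] at hd
      have h00 : A 0 0 ≠ 0 := fun e => by rw [e] at hd; simp at hd
      refine ⟨(1 + A 0 1) / (-2 * A 0 0), 1, ?_⟩
      rw [h10, ht]; field_simp; ring
    · obtain ⟨u, b, hub⟩ := exists_square_add (k := F) h2 one_ne_zero 0 0 (A 1 0)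
      refine ⟨(u + A 0 0 * b) / A 1 0, b, ?_⟩
      rw [ht]; field_simp
      linear_combination hub + b ^ 2 * hd
  refine ⟨⟨!![a, A 0 0 * a + A 0 1 * b; b, A 1 0 * a + A 1 1 * b], ?_⟩, ?_⟩
  · rw [det_fin_two_of]; linear_combination hab
  · ext i j
    fin_cases i <;> fin_cases j <;> simp [Matrix.mul_apply, Fin.sum_univ_two, ht] <;>
      first
        | linear_combination (-a) * hd
        | linear_combination (-b) * hd
        | ring

/-- In odd characteristic the involutions of `PSL₂(F)` are conjugate. -/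
theorem isConj_involutions (h2 : (2 : F) ≠ 0) {g h : PSL2 F} (hg : orderOf g = 2)
    (hh : orderOf h = 2) : ∃ c : PSL2 F, c * g * c⁻¹ = h := by
  obtain ⟨A, hA, hA0⟩ := lift_two hg
  obtain ⟨B, hB, hB0⟩ := lift_two hh
  obtain ⟨x, hx⟩ := exists_conj_J h2 A hA0
  obtain ⟨y, hy⟩ := exists_conj_J h2 B hB0
  refine ⟨QuotientGroup.mk (y * x⁻¹), ?_⟩
  rw [← hA, ← hB, mul_inv_eq_iff_eq_mul, ← QuotientGroup.mk_mul, ← QuotientGroup.mk_mul]
  congr 1
  obtain ⟨J, hJ⟩ : ∃ J : SL(2, F), (J : Matrix (Fin 2) (Fin 2) F) = !![0, -1; 1, 0] :=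
    ⟨⟨_, by simp [det_fin_two_of]⟩, rfl⟩
  rw [← hJ] at hx hy
  have hx' : A * x = x * J := Subtype.ext (by simpa using hx)
  have hy' : B * y = y * J := Subtype.ext (by simpa using hy)
  calc y * x⁻¹ * A = y * (x⁻¹ * (A * x)) * x⁻¹ := by group
    _ = (y * J) * x⁻¹ := by rw [hx', inv_mul_cancel_left]
    _ = B * (y * x⁻¹) := by rw [← hy', mul_assoc]

/-- The centraliser of some involution is dihedral of order `2n`, `n` even. -/
theorem exists_centralizer_dihedral (h2 : (2 : F) ≠ 0) :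
    ∃ (z : PSL2 F) (N : Subgroup (PSL2 F)) (n : ℕ) (e : N ≃* DihedralGroup n), 2 ≤ n ∧ Even n ∧
      orderOf z = 2 ∧ Subgroup.centralizer ({z} : Set (PSL2 F)) = N ∧
      ((e.symm (DihedralGroup.r ((n / 2 : ℕ) : ZMod n)) : N) : PSL2 F) = z := by
  obtain ⟨p, hp⟩ := CharP.exists F
  obtain ⟨k, hpp, -⟩ := FiniteField.card F p
  haveI := Fact.mk hpp
  have hq := Fintype.one_lt_card (α := F)
  obtain ⟨hd, hodd⟩ : Nat.gcd 2 (Fintype.card F - 1) = 2 ∧ Fintype.card F % 2 = 1 := by
    rcases d_even_or_odd (F := F) with ⟨-, h⟩ | h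
    · exfalso
      exact h2 (by
        have : ringChar F = 2 := FiniteField.even_card_iff_char_two.mpr h
        exact_mod_cast (ringChar.spec F 2).mpr (by rw [this]))
    · exact h
  obtain ⟨N, n, hN, hneven⟩ : ∃ (N : Subgroup (PSL2 F)) (n : ℕ), IsTorusNorm N n ∧ Even n := by
    rcases (by omega : Fintype.card F % 4 = 1 ∨ Fintype.card F % 4 = 3) with h | h
    · obtain ⟨N, hN⟩ := exists_torus_minus (F := F) (by rw [hd]; omega)
      exact ⟨N, _, hN, Nat.even_iff.mpr (by rw [hd]; omega)⟩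
    · obtain ⟨N, hN⟩ := exists_torus_plus (F := F)
      exact ⟨N, _, hN, Nat.even_iff.mpr (by rw [hd]; omega)⟩
  obtain ⟨hn2, ⟨e⟩, -, hkind⟩ := id hN
  obtain ⟨j, rfl⟩ := hneven
  have hm : (((j + j) / 2 : ℕ) : ZMod (j + j)) + (((j + j) / 2 : ℕ) : ZMod (j + j)) = 0 := by
    rw [← Nat.cast_add, show (j + j) / 2 + (j + j) / 2 = j + j by omega, ZMod.natCast_self]
  obtain ⟨m, hm', hj⟩ : ∃ m : ZMod (j + j), m + m = 0 ∧ m = (((j + j) / 2 : ℕ) : ZMod (j + j)) :=
    ⟨_, hm, rfl⟩
  rw [hd] at hkind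
  have hz : orderOf ((e.symm (DihedralGroup.r m) : N) : PSL2 F) = 2 := by
    rw [Subgroup.orderOf_coe, MulEquiv.orderOf_eq]
    refine orderOf_eq_prime (by rw [pow_two, DihedralGroup.r_mul_r, hm', DihedralGroup.r_zero]) ?_
    rw [DihedralGroup.one_def, ne_eq, DihedralGroup.r.injEq, hj, ZMod.natCast_eq_zero_iff]
    intro h
    have := Nat.le_of_dvd (by omega) h
    omega
  refine ⟨_, N, j + j, e, hn2, ⟨j, rfl⟩, hz, ?_, by rw [hj]⟩
  have hle : N ≤ Subgroup.centralizer ({((e.symm (DihedralGroup.r m) : N) : PSL2 F)} : Set _) := by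
    intro h hh
    rw [Subgroup.mem_centralizer_singleton_iff]
    have hcomm : DihedralGroup.r m * e ⟨h, hh⟩ = e ⟨h, hh⟩ * DihedralGroup.r m := by
      generalize e ⟨h, hh⟩ = x
      rcases x with i | i
      · rw [DihedralGroup.r_mul_r, DihedralGroup.r_mul_r, add_comm m i]
      · rw [DihedralGroup.r_mul_sr, DihedralGroup.sr_mul_r]
        congr 1
        linear_combination -hm'
    have := congrArg (fun x => ((e.symm x : N) : PSL2 F)) hcomm
    simpa [eq_comm] using this
  refine le_antisymm ?_ hle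
  obtain ⟨N', n', hN', -, hdvd, hnorm, -⟩ := torus_of p (g := ((e.symm (DihedralGroup.r m) : N) : PSL2 F))
    (fun h => by rw [h, orderOf_one] at hz; omega)
    (by
      rw [hz, Nat.coprime_primes Nat.prime_two hpp]
      rintro rfl
      exact h2 (by exact_mod_cast CharP.cast_eq_zero F 2))
  have hC : Subgroup.centralizer ({((e.symm (DihedralGroup.r m) : N) : PSL2 F)} : Set _) ≤ N' := by
    intro h hh
    refine hnorm h ?_
    rw [Subgroup.mem_centralizer_singleton_iff] at hh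
    rw [hh, mul_inv_cancel_right]
    exact Subgroup.mem_zpowers _
  have hc := Subgroup.card_dvd_of_le (hle.trans hC)
  rw [card_torusNorm hN, card_torusNorm hN'] at hc
  have hnn := Nat.dvd_of_mul_dvd_mul_left two_pos hc
  obtain ⟨c, hc'⟩ := hnn
  obtain ⟨hn'2, -, -, hkind'⟩ := id hN'
  rw [hd] at hkind'
  have hn' : n' = j + j := by
    have hev : n' = 2 * (j * c) := by rw [hc']; ring
    rcases hkind with h | h <;> rcases hkind' with h' | h' <;> omega
  refine hC.trans (le_of_eq (Subgroup.eq_of_le_of_card_ge (hle.trans hC) ?_).symm)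
  rw [card_torusNorm hN, card_torusNorm hN', hn']

end Cfsg.Agent.Dickson
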