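import Cfsg.Agent.Lib.Dickson.Involutions
import Mathlib.FieldTheory.Finite.Extension

/-!
`PGL₂(q)`, `q` odd, on the projective line over the algebraic closure.
-/

set_option autoImplicit false
set_option linter.unusedSectionVars false

namespace Cfsg.Agent.Dickson

open Matrix MulAction OnePoint
open scoped MatrixGroups

attribute [local instance] Cfsg.Agent.PLocalB.lineAction pslLine pslBar

variable {F : Type*} [Field F] [Fintype F]

theorem finite_pgl : Finite (ProjGenLinGroup (Fin 2) F) :=
  Finite.of_surjective _ ProjGenLinGroup.mk_surjective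

attribute [local instance] finite_pgl

theorem pgl_map_injective {K L : Type*} [Field K] [Field L] (f : K →+* L) :
    Function.Injective (ProjGenLinGroup.map (n := Fin 2) f) := by
  rw [injective_iff_map_eq_one]
  intro g hg
  obtain ⟨M, rfl⟩ := ProjGenLinGroup.mk_surjective g
  rw [ProjGenLinGroup.map_mk, ProjGenLinGroup.mk_eq_one,
    GeneralLinearGroup.center_eq_range_scalar] at hg
  obtain ⟨u, hu⟩ := hg
  have hm : ∀ i j, f ((M : Matrix (Fin 2) (Fin 2) K) i j)
      = Matrix.diagonal (fun _ => (u : L)) i j := fun i j => by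
    have h := congrArg (fun z : GL (Fin 2) L => (z : Matrix (Fin 2) (Fin 2) L) i j) hu
    simpa [GeneralLinearGroup.coe_scalar, GeneralLinearGroup.map] using h.symm
  have e01 : (M : Matrix (Fin 2) (Fin 2) K) 0 1 = 0 := f.injective (by simpa using hm 0 1)
  have e10 : (M : Matrix (Fin 2) (Fin 2) K) 1 0 = 0 := f.injective (by simpa using hm 1 0)
  have e11 : (M : Matrix (Fin 2) (Fin 2) K) 1 1 = (M : Matrix (Fin 2) (Fin 2) K) 0 0 :=
    f.injective (by rw [hm 1 1, hm 0 0]; simp)
  have h0 : (M : Matrix (Fin 2) (Fin 2) K) 0 0 ≠ 0 := fun h => by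
    have := ((Matrix.isUnit_iff_isUnit_det _).mp M.isUnit).ne_zero
    rw [det_fin_two, h, e01] at this
    simp at this
  rw [ProjGenLinGroup.mk_eq_one, GeneralLinearGroup.center_eq_range_scalar]
  refine ⟨Units.mk0 _ h0, Units.ext (Matrix.ext fun i j => ?_)⟩
  fin_cases i <;> fin_cases j <;> simp [GeneralLinearGroup.coe_scalar, e01, e10, e11]

/-- `PGL₂(F)` into `PSL₂` of the algebraic closure. -/
noncomputable def pglHom (F : Type*) [Field F] :
    ProjGenLinGroup (Fin 2) F →* PSL2 (AlgebraicClosure F) :=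
  (ProjectiveSpecialLinearGroup.isoPSLOfAlgClosedOfNonempty (n := Fin 2)).toMonoidHom.comp
    (ProjGenLinGroup.map (n := Fin 2) (algebraMap F (AlgebraicClosure F)))

theorem pglHom_injective : Function.Injective (pglHom F) :=
  (ProjectiveSpecialLinearGroup.isoPSLOfAlgClosedOfNonempty (n := Fin 2)).injective.comp (pgl_map_injective _)

theorem pglHom_toP (g : PSL2 F) :
    pglHom F (toP F g) = extend (algebraMap F (AlgebraicClosure F)) g := by
  apply Matrix.ProjectiveSpecialLinearGroup.toPGL_injective (n := Fin 2) (R := AlgebraicClosure F)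
  show (ProjectiveSpecialLinearGroup.isoPSLOfAlgClosedOfNonempty (n := Fin 2)).symm
    ((ProjectiveSpecialLinearGroup.isoPSLOfAlgClosedOfNonempty (n := Fin 2))
      (ProjGenLinGroup.map (n := Fin 2) (algebraMap F (AlgebraicClosure F)) (toP F g))) = _
  rw [MulEquiv.symm_apply_apply]
  obtain ⟨A, rfl⟩ := QuotientGroup.mk_surjective g
  show ProjGenLinGroup.map (n := Fin 2) (algebraMap F (AlgebraicClosure F))
      (ProjGenLinGroup.mk (Matrix.SpecialLinearGroup.toGL A)) =
    ProjGenLinGroup.mk (Matrix.SpecialLinearGroup.toGL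
      (Matrix.SpecialLinearGroup.map (algebraMap F (AlgebraicClosure F)) A))
  rw [ProjGenLinGroup.map_mk]
  congr 1
  ext i j
  rfl

/-- The action on the line over the algebraic closure. -/
@[reducible] noncomputable def pglBar (F : Type*) [Field F] :
    MulAction (ProjGenLinGroup (Fin 2) F) (OnePoint (AlgebraicClosure F)) :=
  MulAction.compHom _ (pglHom F)

attribute [local instance] pglBar

theorem sharp_pgl : Sharp (ProjGenLinGroup (Fin 2) F) (OnePoint (AlgebraicClosure F)) :=
  sharp_of_injective _ pglHom_injective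

theorem pgl_isUni_iff (v : OnePoint (AlgebraicClosure F)) (g : ProjGenLinGroup (Fin 2) F) :
    IsUni v g ↔ IsUni v (pglHom F g) :=
  or_congr (map_eq_one_iff _ pglHom_injective).symm Iff.rfl

theorem toP_isUni_iff (v : OnePoint (AlgebraicClosure F)) (g : PSL2 F) :
    IsUni v (toP F g) ↔ IsUni v g := by
  rw [pgl_isUni_iff, pglHom_toP, isUni_bar_iff]

/-- Unipotent elements have order dividing the characteristic. -/
theorem psl_isUni_pow {k : Type*} [Field k] (p : ℕ) [CharP k p] {w : OnePoint k} {g : PSL2 k}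
    (h : IsUni w g) : g ^ p = 1 := by
  obtain ⟨t, ht⟩ := exists_smul_infty w
  rw [← isUni_conj_iff (g := t), ht] at h
  obtain ⟨A, hA, h10⟩ := exists_upper_rep h.smul_eq
  rw [← hA, isUni_infty_iff h10] at h
  have h11 : A 1 1 = A 0 0 := by
    have hd := upper_diag h10
    have h0 : A 0 0 ≠ 0 := left_ne_zero_of_mul_eq_one hd
    apply mul_left_cancel₀ h0
    rw [hd, ← pow_two, h]
  have hs : str A = 2 * A 0 0 := by rw [str, trace_fin_two, h11]; ring
  have key : ∀ n : ℕ, (A : Matrix (Fin 2) (Fin 2) k) ^ (n + 1) =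
      ((n + 1 : k) * A 0 0 ^ n) • (A : Matrix (Fin 2) (Fin 2) k) -
        ((n : k) * A 0 0 ^ (n + 1)) • 1 := by
    intro n
    induction n with
    | zero => simp
    | succ n ih =>
      rw [pow_succ, ih, sub_mul, Matrix.smul_mul, Matrix.smul_mul, sl_sq, Matrix.one_mul, hs, smul_sub,
        smul_smul]
      have e1 : (((n + 1 : ℕ) : k) + 1) * A 0 0 ^ (n + 1) =
          (n + 1 : k) * A 0 0 ^ n * (2 * A 0 0) - (n : k) * A 0 0 ^ (n + 1) := by push_cast; ring
      have e2 : ((n + 1 : ℕ) : k) * A 0 0 ^ (n + 1 + 1) = (n + 1 : k) * A 0 0 ^ n := by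
        push_cast; rw [pow_succ, pow_succ, mul_assoc (A 0 0 ^ n), ← pow_two, h, mul_one]
      rw [e1, e2, sub_smul]
      abel
  have : (t * g * t⁻¹) ^ p = 1 := by
    rw [← hA]
    rcases Nat.eq_zero_or_pos p with rfl | hp
    · exact pow_zero _
    refine SL2Tor.psl_pow_eq_one_of_eq_smul A p (A 0 0 ^ p) ?_
    have hk := key (p - 1)
    rw [show p - 1 + 1 = p by omega] at hk
    have hp0 : ((p - 1 : ℕ) : k) = -1 := by
      rw [Nat.cast_sub hp, CharP.cast_eq_zero, zero_sub, Nat.cast_one]
    rw [hk, hp0, neg_add_cancel, zero_mul, zero_smul, zero_sub, neg_one_mul, neg_smul, neg_neg]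
  rwa [conj_pow, conj_eq_one_iff] at this

theorem two_ne_zero_of_odd (hodd : Odd (Fintype.card F)) : (2 : F) ≠ 0 := fun e => by
  haveI := CharTwo.of_one_ne_zero_of_two_eq_zero (R := F) one_ne_zero e
  have := FiniteField.even_card_iff_char_two.mp (ringChar.eq F 2)
  have := Nat.odd_iff.mp hodd
  omega

theorem card_pgl : Nat.card (ProjGenLinGroup (Fin 2) F) =
    (Fintype.card F + 1) * (Fintype.card F * (Fintype.card F - 1)) := by
  rw [S0265.result, LinearGroup.card_SL_two, Nat.card_eq_fintype_card,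
    show Fintype.card F ^ 2 - 1 = (Fintype.card F + 1) * (Fintype.card F - 1) by
      rw [← Nat.sq_sub_sq, one_pow]]
  ring

theorem d_eq_two (hodd : Odd (Fintype.card F)) : Nat.gcd 2 (Fintype.card F - 1) = 2 := by
  rcases d_even_or_odd (F := F) with ⟨-, h⟩ | ⟨h, -⟩
  · have := Nat.odd_iff.mp hodd; omega
  · exact h

theorem index_toP (hodd : Odd (Fintype.card F)) : (toP F).range.index = 2 := by
  have h1 := Subgroup.card_mul_index (toP F).range
  have h2 := card_psl_eq (F := F)
  rw [d_eq_two hodd, ← card_pgl, ← h1,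
    ← Nat.card_congr (MonoidHom.ofInjective (toP_injective (F := F))).toEquiv,
    mul_comm] at h2
  exact (Nat.eq_of_mul_eq_mul_left Nat.card_pos h2).symm

theorem mem_range_of_pow_odd (hodd : Odd (Fintype.card F)) {g : ProjGenLinGroup (Fin 2) F} {m : ℕ}
    (hm : Odd m) (h : g ^ m ∈ (toP F).range) : g ∈ (toP F).range := by
  obtain ⟨j, rfl⟩ := hm
  have hsq := Subgroup.sq_mem_of_index_two (index_toP hodd) g
  rw [pow_succ, pow_mul] at h
  exact (Subgroup.mul_mem_cancel_left _ (pow_mem hsq j)).mp h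

theorem isUni_mem_range (hodd : Odd (Fintype.card F)) {v : OnePoint (AlgebraicClosure F)}
    {g : ProjGenLinGroup (Fin 2) F} (h : IsUni v g) : g ∈ (toP F).range := by
  obtain ⟨p, hp⟩ := CharP.exists F
  obtain ⟨n, hpp, hn⟩ := FiniteField.card F p
  haveI : CharP (AlgebraicClosure F) p :=
    charP_of_injective_algebraMap (algebraMap F (AlgebraicClosure F)).injective p
  refine mem_range_of_pow_odd hodd (m := p) ?_ ?_
  · rcases hpp.eq_two_or_odd' with rfl | h
    · exfalso
      have := Nat.odd_iff.mp hodd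
      rw [hn, Nat.pow_mod] at this
      simp [zero_pow n.pos.ne'] at this
    · exact h
  · have : g ^ p = 1 := pglHom_injective (by
      rw [map_pow, psl_isUni_pow p ((pgl_isUni_iff v g).mp h), map_one])
    rw [this]; exact one_mem _

theorem uc_pgl_eq (hodd : Odd (Fintype.card F)) (v : OnePoint (AlgebraicClosure F)) :
    uc (sharp_pgl (F := F)) v = uc (sharp_bar (F := F)) v := by
  have e : uni (sharp_pgl (F := F)) v = (uni (sharp_bar (F := F)) v).map (toP F) := by
    ext g
    constructor
    · intro hg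
      obtain ⟨x, rfl⟩ := isUni_mem_range hodd hg
      exact ⟨x, (toP_isUni_iff v x).mp hg, rfl⟩
    · rintro ⟨x, hx, rfl⟩
      exact (toP_isUni_iff v x).mpr hx
  rw [uc, e, Subgroup.card_map_of_injective toP_injective, uc]

/-- A Singer element of order `q + 1` in `PGL₂(q)`. -/
theorem exists_pgl_singer : ∃ g : ProjGenLinGroup (Fin 2) F, orderOf g = Fintype.card F + 1 := by
  obtain ⟨p, hp⟩ := CharP.exists F
  obtain ⟨n, hpp, -⟩ := FiniteField.card F p
  haveI := Fact.mk hpp
  let E := FiniteField.Extension F p 2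
  haveI : Fintype E := Fintype.ofFinite E
  have hfr : Module.finrank F E = 2 := FiniteField.finrank_extension F p 2
  let b : Module.Basis (Fin 2) F E := Module.finBasisOfFinrankEq F E hfr
  let ψ : Eˣ →* ProjGenLinGroup (Fin 2) F :=
    ProjGenLinGroup.mk.comp (Units.map (Algebra.leftMulMatrix b).toRingHom.toMonoidHom)
  have hker : ψ.ker = (Units.map (algebraMap F E).toMonoidHom).range := by
    ext u
    rw [MonoidHom.mem_ker]
    show ProjGenLinGroup.mk _ = 1 ↔ _
    rw [ProjGenLinGroup.mk_eq_one, GeneralLinearGroup.center_eq_range_scalar]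
    constructor
    · rintro ⟨c, hc⟩
      refine ⟨c, Units.ext (Algebra.leftMulMatrix_injective b ?_)⟩
      have := congrArg (fun z : GL (Fin 2) F => (z : Matrix (Fin 2) (Fin 2) F)) hc
      simp only [GeneralLinearGroup.coe_scalar, Units.coe_map] at this
      refine Eq.trans ?_ this
      simp [Units.coe_map, Matrix.algebraMap_eq_diagonal]
    · rintro ⟨c, rfl⟩
      refine ⟨c, Units.ext ?_⟩
      simp [GeneralLinearGroup.coe_scalar, Matrix.algebraMap_eq_diagonal]
  obtain ⟨θ, hθ⟩ := IsCyclic.exists_generator (α := Eˣ)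
  refine ⟨ψ θ, ?_⟩
  have hgen : ψ.range = Subgroup.zpowers (ψ θ) := by
    rw [← MonoidHom.map_zpowers, show Subgroup.zpowers θ = ⊤ from (Subgroup.eq_top_iff' _).mpr hθ,
      ← MonoidHom.range_eq_map]
  have h1 := Subgroup.card_mul_index ψ.ker
  have hinj : Function.Injective (Units.map (algebraMap F E).toMonoidHom) :=
    Units.map_injective (algebraMap F E).injective
  rw [Subgroup.index_ker, hgen, Nat.card_zpowers, hker,
    ← Nat.card_congr (MonoidHom.ofInjective hinj).toEquiv, Nat.card_units, Nat.card_units,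
    FiniteField.natCard_extension F p 2, Nat.card_eq_fintype_card] at h1
  have hq := Fintype.one_lt_card (α := F)
  refine Nat.eq_of_mul_eq_mul_left (show 0 < Fintype.card F - 1 by omega) (h1.trans ?_)
  rw [mul_comm (Fintype.card F - 1), ← Nat.sq_sub_sq, one_pow]

/-- `PGL₂(q)` on the line over the algebraic closure. -/
theorem ovoid_pgl (hodd : Odd (Fintype.card F)) : Ovoid (sharp_pgl (F := F))
    (Set.range (pointMap (algebraMap F (AlgebraicClosure F)))) (Fintype.card F) 1 := by
  have hP := ovoid_psl (F := F)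
  refine ⟨hP.two_le, le_rfl, one_le_two, hP.card_pts, fun g w hw => ?_, fun w hw => ?_, fun w hw => ?_,
    by rw [one_mul, card_pgl], ?_⟩
  · by_contra hc
    have h1 := hP.uni_out _ hc
    rw [← uc_pgl_eq hodd, uc_smul, uc_pgl_eq hodd, hP.uc_eq w hw] at h1
    have := hP.two_le
    omega
  · rw [uc_pgl_eq hodd]; exact hP.uc_eq w hw
  · rw [uc_pgl_eq hodd]; exact hP.uni_out w hw
  · obtain ⟨g, hg⟩ := exists_pgl_singer (F := F)
    exact ⟨g, by rw [one_mul, hg]⟩

end Cfsg.Agent.Dickson
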