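import Cfsg.Agent.Lib.Dickson.MaximalTypes
import Cfsg.Agent.Lib.CharCore.Burnside

/-!
Which subgroups of `PSL₂(F)` are solvable.
-/

set_option autoImplicit false
set_option linter.unusedSectionVars false

namespace Cfsg.Agent.Dickson

open Matrix MulAction OnePoint
open scoped MatrixGroups

attribute [local instance] Cfsg.Agent.PLocalB.lineAction pslLine

variable {F : Type*} [Field F] [Fintype F]

theorem isSolvable_stabilizer (w : OnePoint F) : Group.IsSolvable (stabilizer (PSL2 F) w) := by
  obtain ⟨f, hf⟩ := exists_lam (k := F)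
  haveI : Group.IsSolvable f.ker := isSolvable_of_comm fun a b => Subtype.ext (Subtype.ext
    (uni_comm_psl _ _ _ ((hf a.1).mp a.2) ((hf b.1).mp b.2)))
  haveI : Group.IsSolvable (stabilizer (PSL2 F) (∞ : OnePoint F)) :=
    Group.isSolvable_of_ker_le_range f.ker.subtype f f.ker.range_subtype.ge
  obtain ⟨t, ht⟩ := exists_smul_infty w
  let φ : stabilizer (PSL2 F) w →* stabilizer (PSL2 F) (∞ : OnePoint F) :=
    ((MulAut.conj t).toMonoidHom.comp (stabilizer (PSL2 F) w).subtype).codRestrict _ fun g => by
      show (t * g * t⁻¹) • (∞ : OnePoint F) = ∞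
      rw [← ht, mul_smul, mul_smul, inv_smul_smul, show (g : PSL2 F) • w = w from g.2]
  exact Group.isSolvable_of_isSolvable_injective (f := φ) fun a b e =>
    Subtype.ext ((MulAut.conj t).injective (congrArg Subtype.val e))

theorem isSolvable_dihedral (n : ℕ) : Group.IsSolvable (DihedralGroup n) := by
  let f : DihedralGroup n →* Multiplicative (ZMod 2) := MonoidHom.mk'
    (fun g => match g with
      | .r _ => 1
      | .sr _ => Multiplicative.ofAdd 1) (by
    rintro (i | i) (j | j) <;> simp [DihedralGroup.r_mul_r, DihedralGroup.r_mul_sr,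
      DihedralGroup.sr_mul_r, DihedralGroup.sr_mul_sr] <;> decide)
  haveI : Group.IsSolvable f.ker := isSolvable_of_comm fun a b => by
    rcases a with ⟨i | i, ha⟩
    · rcases b with ⟨j | j, hb⟩
      · exact Subtype.ext (by simp [DihedralGroup.r_mul_r, add_comm])
      · exact absurd (show Multiplicative.ofAdd (1 : ZMod 2) = 1 from hb) (by decide)
    · exact absurd (show Multiplicative.ofAdd (1 : ZMod 2) = 1 from ha) (by decide)
  exact Group.isSolvable_of_ker_le_range f.ker.subtype f f.ker.range_subtype.ge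

theorem isSolvable_of_card_two_three {G : Type*} [Group G] [Finite G]
    (h : Nat.card G = 6 ∨ Nat.card G = 12 ∨ Nat.card G = 24) : Group.IsSolvable G := by
  rcases h with h | h | h
  · exact CharCore.isSolvable_of_card_eq_prime_pow_mul Nat.prime_two Nat.prime_three _ G 1 1 h (by norm_num)
  · exact CharCore.isSolvable_of_card_eq_prime_pow_mul Nat.prime_two Nat.prime_three _ G 2 1 h (by norm_num)
  · exact CharCore.isSolvable_of_card_eq_prime_pow_mul Nat.prime_two Nat.prime_three _ G 3 1 h (by norm_num)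

theorem not_comm_of_torus : ∀ {N : Subgroup (PSL2 F)} {n : ℕ}, Nonempty (N ≃* DihedralGroup n) →
    3 ≤ n → ¬ IsMulCommutative (PSL2 F) := by
  rintro N n ⟨e⟩ hn h
  have h1 : (e.symm (DihedralGroup.r 1) : PSL2 F) * (e.symm (DihedralGroup.sr 0) : PSL2 F) =
      (e.symm (DihedralGroup.sr 0) : PSL2 F) * (e.symm (DihedralGroup.r 1) : PSL2 F) := h.is_comm.comm _ _
  rw [← Subgroup.coe_mul, ← Subgroup.coe_mul, ← map_mul, ← map_mul] at h1
  have h2 := e.symm.injective (Subtype.ext h1)
  rw [DihedralGroup.r_mul_sr, DihedralGroup.sr_mul_r, zero_sub, zero_add, DihedralGroup.sr.injEq] at h2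
  have h3 : ((2 : ℕ) : ZMod n) = 0 := by push_cast; linear_combination -h2
  have := Nat.le_of_dvd two_pos ((ZMod.natCast_eq_zero_iff _ _).mp h3)
  omega

theorem simple_not_solvable (T : Type*) [Field T] [Fintype T] (h : 4 ≤ Nat.card T) :
    ¬ Group.IsSolvable (PSL2 T) := fun hs => by
  haveI := Matrix.ProjectiveSpecialLinearGroup.rank_two_simple h
  obtain ⟨N, hN⟩ := exists_torus_plus (F := T)
  refine not_comm_of_torus hN.2.1 ?_ ⟨⟨IsSimpleGroup.comm_iff_isSolvable.mpr hs⟩⟩
  rw [Nat.card_eq_fintype_card] at h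
  rcases d_even_or_odd (F := T) with ⟨hd, he⟩ | ⟨hd, he⟩ <;> rw [hd] <;> omega

/-- A subfield with at least four elements gives a non-solvable proper subgroup. -/
theorem exists_subfield_not_solvable (T : Subfield F) (h4 : 4 ≤ Nat.card T)
    (hsq : Nat.card T ^ 2 ≤ Fintype.card F) :
    ∃ H : Subgroup (PSL2 F), H ≠ ⊤ ∧ ¬ Group.IsSolvable H := by
  haveI : Fintype T := Fintype.ofFinite T
  refine ⟨(extend T.subtype).range, fun htop => ?_, fun hs => simple_not_solvable T h4 ?_⟩
  · have h1 := pgl_card_lt (show 2 ≤ Nat.card T by omega) hsq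
    rw [← Subgroup.card_top (G := PSL2 F), ← htop,
      ← Nat.card_congr (MonoidHom.ofInjective (extend_injective (F := T) T.subtype)).toEquiv] at h1
    have h2 : Nat.gcd 2 (Nat.card T - 1) * Nat.card (PSL2 T) = _ := LinearGroup.gcd_mul_card_PSL_two
    have h3 := Nat.le_mul_of_pos_left (Nat.card (PSL2 T))
      (Nat.gcd_pos_of_pos_left (Nat.card T - 1) two_pos)
    omega
  · haveI := hs
    exact Group.isSolvable_of_isSolvable_injective
      (f := (MonoidHom.ofInjective (extend_injective (F := T) T.subtype)).toMonoidHom)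
      (MonoidHom.ofInjective (extend_injective (F := T) T.subtype)).injective

end Cfsg.Agent.Dickson
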