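import Cfsg.Agent.Lib.Dickson.Transvections
import Cfsg.Agent.Lib.Dickson.Involutions
import Cfsg.Agent.Lib.Dickson.PGLOvoid
import Cfsg.Agent.S0810

/-!
Solubilizers in `PSL₂(q)` when it is minimal simple: tools.
-/

set_option autoImplicit false
set_option linter.unusedSectionVars false

namespace Cfsg.Agent.Dickson

open Matrix MulAction OnePoint
open scoped MatrixGroups

attribute [local instance] Cfsg.Agent.PLocalB.lineAction pslLine

section Generic

variable {G : Type*} [Group G]

/-- `x` and `y` generate a solvable subgroup. -/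
abbrev SolPair (x y : G) : Prop := Group.IsSolvable (Subgroup.closure ({x, y} : Set G))

theorem solPair_map {H : Type*} [Group H] (e : G ≃* H) (x y : G) : SolPair (e x) (e y) ↔ SolPair x y := by
  have h : Subgroup.closure ({e x, e y} : Set H) = (Subgroup.closure ({x, y} : Set G)).map e.toMonoidHom := by
    rw [MonoidHom.map_closure, Set.image_pair]
    rfl
  let e' := (Subgroup.closure ({x, y} : Set G)).equivMapOfInjective e.toMonoidHom e.injective
  show Group.IsSolvable (Subgroup.closure ({e x, e y} : Set H)) ↔ _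
  rw [h]
  constructor
  · intro hs
    exact Group.isSolvable_of_isSolvable_injective (f := e'.toMonoidHom) e'.injective
  · intro hs
    exact Group.isSolvable_of_isSolvable_injective (f := e'.symm.toMonoidHom) e'.symm.injective

theorem card_sol_conj (x c : G) :
    Nat.card {y : G // SolPair (c * x * c⁻¹) y} = Nat.card {y : G // SolPair x y} := by
  refine (Nat.card_congr ((MulAut.conj c).toEquiv.subtypeEquiv fun y => ?_)).symm
  exact (solPair_map (MulAut.conj c) x y).symm

/-- All proper subgroups are solvable. -/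
abbrev MinSimple (G : Type*) [Group G] : Prop := Cfsg.IsMinimalSimple G

theorem closure_pair_le {H : Subgroup G} {x y : G} (hx : x ∈ H) (hy : y ∈ H) :
    Subgroup.closure ({x, y} : Set G) ≤ H :=
  (Subgroup.closure_le H).mpr (by rintro _ (rfl | rfl) <;> assumption)

theorem solPair_of_mem (hG : MinSimple G) {H : Subgroup G} (hH : H ≠ ⊤) {x y : G} (hx : x ∈ H) (hy : y ∈ H) :
    SolPair x y :=
  hG.2.2 _ (ne_top_of_le_ne_top hH (closure_pair_le hx hy))

theorem not_solvable_of_minSimple (hG : MinSimple G) : ¬ Group.IsSolvable G := fun hs => by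
  haveI := hG.1
  exact hG.2.1 ⟨⟨IsSimpleGroup.comm_iff_isSolvable.mpr hs⟩⟩

theorem closure_ne_top (hG : MinSimple G) {x y : G} (h : SolPair x y) :
    Subgroup.closure ({x, y} : Set G) ≠ ⊤ := fun e => by
  unfold SolPair at h
  rw [e] at h
  exact not_solvable_of_minSimple hG
    (Group.isSolvable_of_isSolvable_injective (f := (Subgroup.topEquiv : (⊤ : Subgroup G) ≃* G).symm.toMonoidHom)
      (Subgroup.topEquiv : (⊤ : Subgroup G) ≃* G).symm.injective)

theorem solPair_comm (hG : MinSimple G) {x y : G} (hc : x * y = y * x) : SolPair x y := by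
  have hle : Subgroup.closure ({x, y} : Set G) ≤ Subgroup.centralizer ({x, y} : Set G) := by
    rw [Subgroup.closure_le]
    rintro _ (rfl | rfl) <;> rw [SetLike.mem_coe, Subgroup.mem_centralizer_iff] <;>
      rintro _ (rfl | rfl) <;> first | rfl | exact hc | exact hc.symm
  refine hG.2.2 _ fun e => ?_
  rw [e, top_le_iff] at hle
  apply hG.2.1
  refine ⟨⟨fun a b => ?_⟩⟩
  have ha : a ∈ Subgroup.centralizer ({x, y} : Set G) := hle ▸ Subgroup.mem_top a
  have hb : b ∈ Subgroup.closure ({x, y} : Set G) := e ▸ Subgroup.mem_top b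
  have : b ∈ Subgroup.centralizer ({a} : Set G) := by
    refine (Subgroup.closure_le _).mpr ?_ hb
    rintro z hz
    rw [SetLike.mem_coe, Subgroup.mem_centralizer_singleton_iff]
    exact Subgroup.mem_centralizer_iff.mp ha z hz
  exact (Subgroup.mem_centralizer_singleton_iff.mp this).symm

/-- Two involutions generate a solvable subgroup. -/
theorem solPair_involutions (hG : MinSimple G) {x y : G} (hx : x * x = 1) (hy : y * y = 1) : SolPair x y := by
  by_cases h1 : x * y = 1
  · refine solPair_comm hG ?_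
    rw [h1, eq_inv_of_mul_eq_one_left h1, mul_inv_cancel]
  have hxi : x⁻¹ = x := inv_eq_of_mul_eq_one_right hx
  have hyi : y⁻¹ = y := inv_eq_of_mul_eq_one_right hy
  let N := Subgroup.normalizer ((Subgroup.zpowers (x * y) : Subgroup G) : Set G)
  have hmem : ∀ c : G, c * c = 1 → c * (x * y) * c⁻¹ = (x * y)⁻¹ → c ∈ N := by
    intro c hc he
    have hh : ∀ z ∈ Subgroup.zpowers (x * y), c * z * c⁻¹ ∈ Subgroup.zpowers (x * y) := by
      rintro _ ⟨i, rfl⟩
      show c * (x * y) ^ i * c⁻¹ ∈ _
      rw [← conj_zpow, he, _root_.inv_zpow]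
      exact inv_mem (zpow_mem (Subgroup.mem_zpowers _) i)
    rw [Subgroup.mem_normalizer_iff]
    refine fun z => ⟨hh z, fun hz => ?_⟩
    have := hh _ hz
    have hci : c⁻¹ = c := inv_eq_of_mul_eq_one_right hc
    rw [hci] at this
    rwa [show c * (c * z * c) * c = z by simp only [← mul_assoc, hc, one_mul]; rw [mul_assoc, hc, mul_one]] at this
  have htop : N ≠ ⊤ := fun e => by
    haveI hn : (Subgroup.zpowers (x * y)).Normal := Subgroup.normalizer_eq_top_iff.mp e
    haveI := hG.1
    rcases hn.eq_bot_or_eq_top with h | h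
    · exact h1 (Subgroup.zpowers_eq_bot.mp h)
    · apply hG.2.1
      refine ⟨⟨fun a b => ?_⟩⟩
      obtain ⟨i, rfl⟩ : a ∈ Subgroup.zpowers (x * y) := h ▸ Subgroup.mem_top a
      obtain ⟨j, rfl⟩ : b ∈ Subgroup.zpowers (x * y) := h ▸ Subgroup.mem_top b
      exact (Commute.refl (x * y)).zpow_zpow i j
  refine solPair_of_mem hG htop (hmem x hx ?_) (hmem y hy ?_)
  · rw [_root_.mul_inv_rev, hxi, hyi, ← mul_assoc, hx, one_mul]
  · rw [_root_.mul_inv_rev, hxi, hyi, mul_assoc, mul_assoc, hy, mul_one]

end Generic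

variable {F : Type*} [Field F] [Fintype F]

theorem card_preimage (P : PSL2 F → Prop) :
    Nat.card {A : SL(2, F) // P (QuotientGroup.mk A)} =
      Nat.gcd 2 (Fintype.card F - 1) * Nat.card {y : PSL2 F // P y} := by
  have h : Nat.card {A : SL(2, F) // P (QuotientGroup.mk A)} =
      Nat.card (Subgroup.center SL(2, F)) * Nat.card {y : PSL2 F // P y} := by
    rw [← Nat.card_prod]
    exact Nat.card_congr (QuotientGroup.preimageMkEquivSubgroupProdSet _ {y | P y})
  have hc := Subgroup.card_mul_index (Subgroup.center SL(2, F))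
  have hG : Nat.gcd 2 (Nat.card F - 1) * Nat.card (PSL2 F) = _ := LinearGroup.gcd_mul_card_PSL_two (F := F)
  rw [← LinearGroup.card_SL_two] at hG
  rw [Subgroup.index_eq_card, ← hG] at hc
  haveI : Finite (PSL2 F) := Finite.of_surjective _ QuotientGroup.mk_surjective
  have := Nat.eq_of_mul_eq_mul_right (Nat.card_pos (α := PSL2 F)) hc
  rw [h, this, Nat.card_eq_fintype_card (α := F)]

theorem two_ne_one_iff {A : SL(2, F)} (hA : str A = 0) : (QuotientGroup.mk A : PSL2 F) * QuotientGroup.mk A = 1 := by
  rw [← pow_two]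
  refine SL2Tor.psl_pow_eq_one_of_eq_smul A 2 (-1) ?_
  rw [pow_two, sl_sq, hA]; module

theorem torusNorm_ne_top (hG : MinSimple (PSL2 F)) {N : Subgroup (PSL2 F)} {n : ℕ} (hN : IsTorusNorm N n) :
    N ≠ ⊤ := fun e => by
  haveI : Group.IsSolvable N := by
    obtain ⟨e'⟩ := hN.2.1
    haveI := isSolvable_dihedral n
    exact Group.isSolvable_of_isSolvable_injective (f := e'.toMonoidHom) e'.injective
  subst e
  exact not_solvable_of_minSimple hG (Group.isSolvable_of_isSolvable_injective
    (f := (Subgroup.topEquiv : (⊤ : Subgroup (PSL2 F)) ≃* PSL2 F).symm.toMonoidHom)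
    (Subgroup.topEquiv : (⊤ : Subgroup (PSL2 F)) ≃* PSL2 F).symm.injective)

/-- A conjugate of a pair over a small subfield lies in a proper subgroup. -/
theorem solPair_of_subfield (hG : MinSimple (PSL2 F)) {T : Subfield F}
    (hT : Nat.card T ^ 2 ≤ Fintype.card F) {D : ProjGenLinGroup (Fin 2) F} {x y : PSL2 F}
    (hx : x ∈ pullBack D (pglImage T)) (hy : y ∈ pullBack D (pglImage T)) : SolPair x y := by
  refine solPair_of_mem hG (fun e => ?_) hx hy
  have h := card_pullBack_le D (pglImage T)
  rw [e, Subgroup.card_top, card_pglImage] at h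
  exact absurd (pgl_card_lt (Finite.one_lt_card (α := T)) hT) (by omega)

/-- An element fixing no rational point lies in just one torus normaliser's family. -/
theorem card_sol_torus (p : ℕ) [Fact p.Prime] [CharP F p] (hG : MinSimple (PSL2 F)) {x : PSL2 F}
    (hx1 : x ≠ 1) (hx2 : orderOf x ≠ 2) (hfix : ∀ w : OnePoint F, x • w ≠ w)
    (hcop : Nat.Coprime (orderOf x) p)
    (hcases : ∀ H : Subgroup (PSL2 F), H ≠ ⊤ → x ∈ H →
      (∃ w : OnePoint F, H ≤ stabilizer (PSL2 F) w) ∨
      (∃ (N : Subgroup (PSL2 F)) (n : ℕ), IsTorusNorm N n ∧ H ≤ N)) :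
    Nat.gcd 2 (Fintype.card F - 1) * Nat.card {y : PSL2 F // SolPair x y} =
      2 * (Fintype.card F + 1) := by
  obtain ⟨N, n, hN, hxN, -, hnorm, hkind⟩ := torus_of p hx1 hcop
  have hn : Nat.gcd 2 (Fintype.card F - 1) * n = Fintype.card F + 1 := by
    rcases hkind with ⟨-, w, hw⟩ | ⟨h, -⟩
    · exact absurd hw (hfix w)
    · exact h
  have hNtop : N ≠ ⊤ := torusNorm_ne_top hG hN
  have key : ∀ y, SolPair x y ↔ y ∈ N := by
    intro y
    refine ⟨fun hy => ?_, fun hy => solPair_of_mem hG hNtop hxN hy⟩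
    have hxH : x ∈ Subgroup.closure ({x, y} : Set (PSL2 F)) := Subgroup.subset_closure (Or.inl rfl)
    have hyH : y ∈ Subgroup.closure ({x, y} : Set (PSL2 F)) := Subgroup.subset_closure (Or.inr rfl)
    rcases hcases _ (closure_ne_top hG hy) hxH with ⟨w, hw⟩ | ⟨N', k, hN', hle⟩
    · exact absurd (hw hxH) (hfix w)
    · obtain ⟨hk2, ⟨e⟩, -, -⟩ := hN'
      haveI : NeZero k := ⟨by omega⟩
      apply hnorm
      have ho : orderOf (e ⟨x, hle hxH⟩) = orderOf x := by rw [MulEquiv.orderOf_eq, Subgroup.orderOf_mk]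
      rcases hi : e ⟨x, hle hxH⟩ with i | i
      · have hzc : ∀ c : DihedralGroup k, c * DihedralGroup.r i * c⁻¹ ∈ Subgroup.zpowers (DihedralGroup.r i) := by
          rintro (l | l)
          · refine ⟨1, ?_⟩
            show DihedralGroup.r i ^ (1 : ℤ) = _
            rw [zpow_one, DihedralGroup.inv_r, DihedralGroup.r_mul_r, DihedralGroup.r_mul_r]
            congr 1; ring
          · refine ⟨-1, ?_⟩
            show DihedralGroup.r i ^ (-1 : ℤ) = _
            rw [_root_.zpow_neg, zpow_one, DihedralGroup.inv_r, DihedralGroup.inv_sr,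
              DihedralGroup.sr_mul_r, DihedralGroup.sr_mul_sr]
            congr 1; ring
        obtain ⟨j, hj⟩ := hzc (e ⟨y, hle hyH⟩)
        refine ⟨j, ?_⟩
        have h1 := congrArg (fun z => ((e.symm z : N') : PSL2 F)) hj
        simp only [← hi, map_mul, map_inv, map_zpow, MulEquiv.symm_apply_apply, Subgroup.coe_mul,
          Subgroup.coe_inv, Subgroup.coe_zpow] at h1
        exact h1
      · rw [hi, DihedralGroup.orderOf_sr] at ho
        exact absurd ho.symm hx2
  rw [Nat.card_congr (Equiv.subtypeEquivRight key), card_torusNorm hN, mul_left_comm, hn]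

/-- An element fixing two rational points. -/
theorem card_sol_split (p : ℕ) [Fact p.Prime] [CharP F p] (hG : MinSimple (PSL2 F)) {l : F} (hl : l ≠ 0)
    {X : SL(2, F)} (hX : (X : Matrix (Fin 2) (Fin 2) F) = !![l, 0; 0, l⁻¹]) (hl4 : l ^ 4 ≠ 1)
    (hcases : ∀ H : Subgroup (PSL2 F), H ≠ ⊤ → (QuotientGroup.mk X : PSL2 F) ∈ H →
      (∃ w : OnePoint F, H ≤ stabilizer (PSL2 F) w) ∨
      (∃ (N : Subgroup (PSL2 F)) (n : ℕ), IsTorusNorm N n ∧ H ≤ N)) :
    Nat.gcd 2 (Fintype.card F - 1) * Nat.card {y : PSL2 F // SolPair (QuotientGroup.mk X) y} =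
      2 * Fintype.card F * (Fintype.card F - 1) := by
  classical
  set x : PSL2 F := QuotientGroup.mk X with hxdef
  have hl2 : l ^ 2 ≠ 1 := fun e => hl4 (by linear_combination (l ^ 2 + 1) * e)
  have hl2' : l ^ 2 ≠ -1 := fun e => hl4 (by linear_combination (l ^ 2 - 1) * e)
  have hfix : ∀ w : OnePoint F, x • w = w → w = ∞ ∨ w = ((0 : F) : OnePoint F) := by
    intro w hw
    induction w using OnePoint.rec with
    | infty => exact Or.inl rfl
    | coe z =>
      right
      rw [hxdef, mk_smul, PLocalB.smul_coe_eq, hX] at hw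
      simp [hl] at hw
      have h0 : z * (l ^ 2 - 1) = 0 := by first | linear_combination hw | linear_combination -hw
      rw [(mul_eq_zero.mp h0).resolve_right (sub_ne_zero.mpr hl2)]
  have hstab0 : ∀ A : SL(2, F), (QuotientGroup.mk A : PSL2 F) • ((0 : F) : OnePoint F) = ((0 : F) : OnePoint F) ↔ A 0 1 = 0 := by
    intro A
    rw [mk_smul, PLocalB.smul_coe_eq]
    by_cases h11 : A 1 1 = 0
    · have hd := PLocalB.det_entries A
      rw [if_pos (by rw [h11]; ring)]
      refine iff_of_false (OnePoint.infty_ne_coe _) fun h => ?_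
      rw [h, h11] at hd
      simp at hd
    · rw [if_neg (by simpa using h11)]
      simp [h11]
  have hxs : ∀ w : OnePoint F, (w = ∞ ∨ w = ((0 : F) : OnePoint F)) → x ∈ stabilizer (PSL2 F) w := by
    rintro w (rfl | rfl)
    · exact (PLocalB.smul_infty_iff X).mpr (by rw [hX]; rfl)
    · exact (hstab0 X).mpr (by rw [hX]; rfl)
  have hox : x * x ≠ 1 := by
    rw [hxdef, ← QuotientGroup.mk_mul, ne_eq, SL2Tor.psl_mk_eq_one_iff, Matrix.SpecialLinearGroup.coe_mul, hX]
    intro h
    have := h.2.2
    simp at this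
    exact hl4 (by field_simp at this; first | exact this | linear_combination this | linear_combination -this)
  obtain ⟨N, n, hN, hxN, -, hnorm, -⟩ := torus_of p (g := x)
    (fun e => hox (by rw [e, one_mul]))
    (by
      rw [Nat.coprime_comm, (Fact.out : p.Prime).coprime_iff_not_dvd]
      intro hd
      obtain ⟨m, hm⟩ := hd
      have hXm : ∀ k : ℕ, ((X ^ k : SL(2, F)) : Matrix (Fin 2) (Fin 2) F) = !![l ^ k, 0; 0, l⁻¹ ^ k] := by
        intro k
        induction k with
        | zero => ext i j; fin_cases i <;> fin_cases j <;> simp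
        | succ k ih =>
          rw [pow_succ, Matrix.SpecialLinearGroup.coe_mul, ih, hX]
          ext i j; fin_cases i <;> fin_cases j <;> simp [pow_succ]
      have hm0 : 0 < m := by
        haveI : Finite (PSL2 F) := Finite.of_surjective _ QuotientGroup.mk_surjective
        rcases Nat.eq_zero_or_pos m with rfl | h
        · rw [mul_zero] at hm; exact absurd hm (orderOf_pos x).ne'
        · exact h
      have h1 : x ^ m = 1 := by
        rw [hxdef, ← QuotientGroup.mk_pow, SL2Tor.psl_mk_eq_one_iff, hXm]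
        have h2 := pow_orderOf_eq_one x
        rw [hm, hxdef, ← QuotientGroup.mk_pow, SL2Tor.psl_mk_eq_one_iff, hXm] at h2
        have h3 := h2.2.2
        simp at h3
        refine ⟨rfl, rfl, ?_⟩
        suffices l⁻¹ ^ m = l ^ m by simpa [eq_comm] using this
        have h5 : (l⁻¹ ^ m - l ^ m) ^ p = 0 := by
          rw [sub_pow_char, ← pow_mul, ← pow_mul, mul_comm m, inv_pow]
          simp only [sub_eq_zero]
          first
            | exact h3.symm
            | linear_combination -h3
        exact sub_eq_zero.mp (pow_eq_zero_iff (Fact.out : p.Prime).ne_zero |>.mp h5)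
      have := Nat.le_of_dvd hm0 (orderOf_dvd_of_pow_eq_one h1)
      rw [hm] at this
      have := (Fact.out : p.Prime).two_le
      nlinarith)
  have hNtop : N ≠ ⊤ := torusNorm_ne_top hG hN
  have key : ∀ A : SL(2, F), SolPair x (QuotientGroup.mk A) ↔
      A 1 0 = 0 ∨ A 0 1 = 0 ∨ (A 0 0 = 0 ∧ A 1 1 = 0) := by
    intro A
    constructor
    · intro hy
      have hxH : x ∈ Subgroup.closure ({x, QuotientGroup.mk A} : Set (PSL2 F)) := Subgroup.subset_closure (Or.inl rfl)
      have hyH : (QuotientGroup.mk A : PSL2 F) ∈ Subgroup.closure ({x, QuotientGroup.mk A} : Set (PSL2 F)) :=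
        Subgroup.subset_closure (Or.inr rfl)
      rcases hcases _ (closure_ne_top hG hy) hxH with ⟨w, hw⟩ | ⟨N', k, ⟨hk2, ⟨e⟩, -, -⟩, hle⟩
      · rcases hfix w (hw hxH) with rfl | rfl
        · exact Or.inl ((PLocalB.smul_infty_iff A).mp (hw hyH))
        · exact Or.inr (Or.inl ((hstab0 A).mp (hw hyH)))
      · obtain ⟨z, hz⟩ : ∃ z : PSL2 F, (QuotientGroup.mk A) * x * (QuotientGroup.mk A)⁻¹ = z ∧ (z = x ∨ z = x⁻¹) := by
          haveI : NeZero k := ⟨by omega⟩
          refine ⟨_, rfl, ?_⟩
          rcases hi : e ⟨x, hle hxH⟩ with i | i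
          · have back : ∀ c : DihedralGroup k, c * DihedralGroup.r i * c⁻¹ = DihedralGroup.r i ∨
                c * DihedralGroup.r i * c⁻¹ = (DihedralGroup.r i)⁻¹ := by
              rintro (l' | l')
              · left
                rw [DihedralGroup.inv_r, DihedralGroup.r_mul_r, DihedralGroup.r_mul_r]
                congr 1; ring
              · right
                rw [DihedralGroup.inv_r, DihedralGroup.inv_sr, DihedralGroup.sr_mul_r, DihedralGroup.sr_mul_sr]
                congr 1; ring
            rcases back (e ⟨_, hle hyH⟩) with h | h <;>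
              have h1 := congrArg (fun z => ((e.symm z : N') : PSL2 F)) h
            · left
              simpa [← hi] using h1
            · right
              simpa [← hi] using h1
          · exfalso
            have : orderOf (e ⟨x, hle hxH⟩) = 2 := by rw [hi, DihedralGroup.orderOf_sr]
            rw [MulEquiv.orderOf_eq, Subgroup.orderOf_mk] at this
            exact hox (by rw [← pow_two]; exact orderOf_dvd_iff_pow_eq_one.mp (dvd_of_eq this))
        obtain ⟨hz1, hz2⟩ := hz
        have hA : (A : Matrix (Fin 2) (Fin 2) F) 0 0 * A 1 1 - A 0 1 * A 1 0 = 1 := PLocalB.det_entries A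
        rcases hz2 with rfl | rfl
        · rw [mul_inv_eq_iff_eq_mul, hxdef, ← QuotientGroup.mk_mul, ← QuotientGroup.mk_mul] at hz1
          left
          rcases mk_eq_mk_iff.mp hz1 with h | h <;>
            have h' := congrArg (fun M : SL(2, F) => (M : Matrix (Fin 2) (Fin 2) F) 1 0) h <;>
            simp [Matrix.mul_apply, Matrix.vecMul, dotProduct, Fin.sum_univ_two, hX, Matrix.SpecialLinearGroup.coe_neg] at h' <;>
            field_simp at h'
          · by_contra h0; exact hl2 (mul_left_cancel₀ h0 (by linear_combination h'))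
          · by_contra h0; exact hl2' (mul_left_cancel₀ h0 (by linear_combination h'))
        · rw [mul_inv_eq_iff_eq_mul, hxdef, ← QuotientGroup.mk_inv, ← QuotientGroup.mk_mul, ← QuotientGroup.mk_mul] at hz1
          right; right
          rcases mk_eq_mk_iff.mp hz1 with h | h <;>
            have h' := congrArg (fun M : SL(2, F) => ((M : Matrix (Fin 2) (Fin 2) F) 0 0, (M : Matrix (Fin 2) (Fin 2) F) 1 1)) h <;>
            simp [Matrix.mul_apply, Matrix.vecMul, dotProduct, Fin.sum_univ_two, hX, Matrix.SpecialLinearGroup.coe_neg,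
              Matrix.SpecialLinearGroup.coe_inv, adjugate_fin_two] at h' <;>
            obtain ⟨h1, h2⟩ := h' <;> field_simp at h1 h2
          · exact ⟨by by_contra h0; exact hl2 (mul_left_cancel₀ h0 (by linear_combination h1)),
              by by_contra h0; exact hl2 (mul_left_cancel₀ h0 (by linear_combination -h2))⟩
          · exact ⟨by by_contra h0; exact hl2' (mul_left_cancel₀ h0 (by linear_combination h1)),
              by by_contra h0; exact hl2' (mul_left_cancel₀ h0 (by linear_combination h2))⟩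
    · rintro (h | h | ⟨h1, h2⟩)
      · exact solPair_of_mem hG (stabilizer_point_ne_top (∞ : OnePoint F)) (hxs _ (Or.inl rfl))
          ((PLocalB.smul_infty_iff A).mpr h)
      · exact solPair_of_mem hG (stabilizer_point_ne_top _) (hxs _ (Or.inr rfl)) ((hstab0 A).mpr h)
      · refine solPair_of_mem hG hNtop hxN (hnorm _ ⟨-1, ?_⟩)
        show x ^ (-1 : ℤ) = _
        rw [_root_.zpow_neg, zpow_one, eq_mul_inv_iff_mul_eq, hxdef, ← QuotientGroup.mk_inv,
          ← QuotientGroup.mk_mul, ← QuotientGroup.mk_mul]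
        congr 1
        apply Subtype.ext
        ext i j
        fin_cases i <;> fin_cases j <;>
          simp [Matrix.mul_apply, Fin.sum_univ_two, hX, h1, h2, Matrix.SpecialLinearGroup.coe_inv,
            adjugate_fin_two, mul_comm]
  rw [← card_preimage (fun y => SolPair x y), Nat.card_congr (Equiv.subtypeEquivRight key)]
  let f : Fˣ × (Option F ⊕ {b : F // b ≠ 0} ⊕ Unit) → SL(2, F) := fun _ => 1
  clear f
  -- three disjoint pieces
  have e : {A : SL(2, F) // A 1 0 = 0 ∨ A 0 1 = 0 ∨ (A 0 0 = 0 ∧ A 1 1 = 0)} ≃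
      (Fˣ × F) ⊕ (Fˣ × Fˣ) ⊕ Fˣ :=
    { toFun := fun A =>
        if h : A.1 1 0 = 0 then
          Sum.inl (Units.mk0 (A.1 0 0) (left_ne_zero_of_mul_eq_one (upper_diag h)), A.1 0 1)
        else if h' : A.1 0 1 = 0 then
          Sum.inr (Sum.inl (Units.mk0 (A.1 0 0) (fun e => by
            have := PLocalB.det_entries A.1
            rw [h', e] at this
            simp at this), Units.mk0 (A.1 1 0) h))
        else Sum.inr (Sum.inr (Units.mk0 (A.1 1 0) h))
      invFun := fun z => match z with
        | Sum.inl (a, b) => ⟨⟨!![(a : F), b; 0, (a : F)⁻¹], by simp [det_fin_two_of]⟩, Or.inl rfl⟩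
        | Sum.inr (Sum.inl (a, c)) => ⟨⟨!![(a : F), 0; (c : F), (a : F)⁻¹], by simp [det_fin_two_of]⟩,
            Or.inr (Or.inl rfl)⟩
        | Sum.inr (Sum.inr c) => ⟨⟨!![0, -(c : F)⁻¹; (c : F), 0], by simp [det_fin_two_of]⟩,
            Or.inr (Or.inr ⟨rfl, rfl⟩)⟩
      left_inv := by
        rintro ⟨A, hA⟩
        have hd := PLocalB.det_entries A
        by_cases h : A 1 0 = 0
        · have h11 : (A 0 0)⁻¹ = A 1 1 := inv_eq_of_mul_eq_one_right (upper_diag h)
          simp only [h, ↓reduceDIte]
          apply Subtype.ext; apply Subtype.ext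
          ext i j; fin_cases i <;> fin_cases j <;> simp [h, h11]
        · by_cases h' : A 0 1 = 0
          · have h11 : (A 0 0)⁻¹ = A 1 1 := inv_eq_of_mul_eq_one_right (by rw [h'] at hd; linear_combination hd)
            simp only [h, h', ↓reduceDIte]
            apply Subtype.ext; apply Subtype.ext
            ext i j; fin_cases i <;> fin_cases j <;> simp [h', h11]
          · obtain ⟨h1, h2⟩ := (hA.resolve_left h).resolve_left h'
            have h01 : -(A 1 0)⁻¹ = A 0 1 := by
              rw [h1, h2] at hd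
              field_simp
              linear_combination hd
            simp only [h, h', ↓reduceDIte]
            apply Subtype.ext; apply Subtype.ext
            ext i j; fin_cases i <;> fin_cases j <;> simp [h1, h2, h01]
      right_inv := by
        rintro (⟨a, b⟩ | ⟨a, c⟩ | c)
        · simp
        · simp
        · simp }
  rw [Nat.card_congr e, Nat.card_sum, Nat.card_sum, Nat.card_prod, Nat.card_prod, Nat.card_units,
    Nat.card_eq_fintype_card]
  have hq1 := Fintype.one_lt_card (α := F)
  obtain ⟨c, hc⟩ : ∃ c, Fintype.card F = c + 1 := ⟨Fintype.card F - 1, by omega⟩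
  rw [hc, Nat.add_sub_cancel]; ring

/-- Pairs with `x` upper unitriangular: those with `y` fixing `∞`, and `q` for each allowed trace and corner. -/
theorem card_upper_count (S : Set (F × F)) (hS : ∀ z ∈ S, z.2 ≠ 0) :
    Nat.card {A : SL(2, F) // A 1 0 = 0 ∨ (str A, A 1 0) ∈ S} =
      Fintype.card F * (Fintype.card F - 1) + Nat.card S * Fintype.card F := by
  classical
  have e : {A : SL(2, F) // A 1 0 = 0 ∨ (str A, A 1 0) ∈ S} ≃ (F × Fˣ) ⊕ (S × F) :=
    { toFun := fun A =>
        if h : A.1 1 0 = 0 then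
          Sum.inl (A.1 0 1, Units.mk0 (A.1 0 0) (left_ne_zero_of_mul_eq_one (upper_diag h)))
        else Sum.inr (⟨_, A.2.resolve_left h⟩, A.1 0 0)
      invFun := fun z => match z with
        | Sum.inl (b, a) => ⟨⟨!![(a : F), b; 0, (a : F)⁻¹], by simp [det_fin_two_of]⟩, Or.inl rfl⟩
        | Sum.inr (s, a) => ⟨⟨!![a, (a * (s.1.1 - a) - 1) / s.1.2; s.1.2, s.1.1 - a], by
              have := hS _ s.2
              rw [det_fin_two_of]; field_simp; ring⟩,
            Or.inr (by
              have e1 : ∀ (M : SL(2, F)), M.1 = !![a, (a * (s.1.1 - a) - 1) / s.1.2; s.1.2, s.1.1 - a] →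
                  (str M, M 1 0) = s.1 := fun M hM => by
                refine Prod.ext ?_ ?_
                · show str M = _
                  rw [str, trace_fin_two, hM]; simp
                · show M.1 1 0 = _
                  rw [hM]; rfl
              exact Set.mem_of_eq_of_mem (e1 _ rfl) s.2)⟩
      left_inv := by
        rintro ⟨A, hA⟩
        have hd := PLocalB.det_entries A
        by_cases h : A 1 0 = 0
        · have h11 : (A 0 0)⁻¹ = A 1 1 := inv_eq_of_mul_eq_one_right (upper_diag h)
          simp only [h, ↓reduceDIte]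
          apply Subtype.ext; apply Subtype.ext
          ext i j; fin_cases i <;> fin_cases j <;> simp [h, h11]
        · simp only [h, ↓reduceDIte]
          apply Subtype.ext; apply Subtype.ext
          ext i j; fin_cases i <;> fin_cases j <;> simp [str, trace_fin_two]
          field_simp
          linear_combination hd
      right_inv := by
        rintro (⟨b, a⟩ | ⟨⟨⟨t, c⟩, hs⟩, a⟩)
        · simp
        · have := hS _ hs
          simp at this
          simp [this, str, trace_fin_two] }
  rw [Nat.card_congr e, Nat.card_sum, Nat.card_prod, Nat.card_prod, Nat.card_units, Nat.card_eq_fintype_card (α := F)]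

/-- The number of points of the circle, `-1` a non-square. -/
theorem card_circle (hns : ¬ IsSquare (-1 : F)) {c : F} (hc : c ≠ 0) :
    Nat.card {z : F × F // z.1 ^ 2 + z.2 ^ 2 = c} = Fintype.card F + 1 := by
  classical
  have h2 : (2 : F) ≠ 0 := fun e => hns ⟨1, by linear_combination -e⟩
  let Z : F → Type _ := fun c => {z : F × F // z.1 ^ 2 + z.2 ^ 2 = c}
  have hzero : ∀ z : F × F, z.1 ^ 2 + z.2 ^ 2 = 0 → z = 0 := by
    rintro ⟨a, b⟩ h
    simp only at h
    by_cases hb : b = 0
    · rw [hb, zero_pow two_ne_zero, add_zero, pow_eq_zero_iff two_ne_zero] at h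
      exact Prod.ext h hb
    · exact absurd ⟨a / b, by field_simp; linear_combination -h⟩ hns
  have heq : ∀ d : F, d ≠ 0 → Nat.card (Z d) = Nat.card (Z c) := by
    intro d hd
    obtain ⟨e, g, heg⟩ := exists_square_add (k := F) h2 one_ne_zero 0 0 (c / d)
    have heg' : d * (e ^ 2 + g ^ 2) = c := by
      have h' : d * (c / d) = c := mul_div_cancel₀ c hd
      linear_combination d * heg + h'
    refine Nat.card_congr
      { toFun := fun z => ⟨(e * z.1.1 - g * z.1.2, e * z.1.2 + g * z.1.1), by
          linear_combination (e ^ 2 + g ^ 2) * z.2 + heg'⟩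
        invFun := fun z => ⟨((e * z.1.1 + g * z.1.2) * (d / c), (e * z.1.2 - g * z.1.1) * (d / c)), by
          have := z.2
          field_simp
          linear_combination (z.1.1 ^ 2 + z.1.2 ^ 2) * heg' + c * this⟩
        left_inv := fun z => by
          apply Subtype.ext; apply Prod.ext <;> field_simp
          · linear_combination z.1.1 * heg'
          · linear_combination z.1.2 * heg'
        right_inv := fun z => by
          apply Subtype.ext; apply Prod.ext <;> field_simp
          · linear_combination z.1.1 * heg'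
          · linear_combination z.1.2 * heg' }
  have htot : Nat.card (F × F) = ∑ d : F, Nat.card (Z d) := by
    rw [← Nat.card_sigma]
    exact (Nat.card_congr (Equiv.sigmaFiberEquiv fun z : F × F => z.1 ^ 2 + z.2 ^ 2)).symm
  rw [← Finset.sum_erase_add _ _ (Finset.mem_univ (0 : F)),
    Finset.sum_congr rfl (fun d hd => heq d (Finset.mem_erase.mp hd).1), Finset.sum_const,
    Finset.card_erase_of_mem (Finset.mem_univ _), Finset.card_univ, smul_eq_mul, Nat.card_prod,
    Nat.card_eq_fintype_card (α := F),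
    show Nat.card (Z 0) = 1 from Nat.card_eq_one_iff_unique.mpr
      ⟨⟨fun a b => Subtype.ext ((hzero _ a.2).trans (hzero _ b.2).symm)⟩, ⟨⟨0, by simp⟩⟩⟩] at htot
  have hq1 := Fintype.one_lt_card (α := F)
  obtain ⟨k, hk⟩ : ∃ k, Fintype.card F = k + 2 := ⟨Fintype.card F - 2, by omega⟩
  rw [hk] at htot ⊢
  rw [show k + 2 - 1 = k + 1 by omega] at htot
  refine Nat.eq_of_mul_eq_mul_left (show 0 < k + 1 by omega) (Nat.add_right_cancel (m := 1) ?_)
  rw [← htot]; ring

end Cfsg.Agent.Dickson

namespace Cfsg.Agent.Dickson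

open Matrix MulAction OnePoint
open scoped MatrixGroups

attribute [local instance] Cfsg.Agent.PLocalB.lineAction pslLine

variable {F : Type*} [Field F] [Fintype F]

theorem str_eq_zero_of_orderOf {B : SL(2, F)} (h : orderOf (QuotientGroup.mk B : PSL2 F) = 2) : str B = 0 := by
  obtain ⟨A, hA, hA0⟩ := lift_two h
  rcases mk_eq_mk_iff.mp hA.symm with e | e
  · rw [e, hA0]
  · rw [e, str_neg, hA0, neg_zero]

theorem solPair_mul {G : Type*} [Group G] {x y : G} (h : SolPair x (x * y)) : SolPair x y := by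
  haveI : Group.IsSolvable (Subgroup.closure ({x, x * y} : Set G)) := h
  have hle : Subgroup.closure ({x, y} : Set G) ≤ Subgroup.closure ({x, x * y} : Set G) := by
    refine closure_pair_le (Subgroup.subset_closure (Or.inl rfl)) ?_
    have h1 : x ∈ Subgroup.closure ({x, x * y} : Set G) := Subgroup.subset_closure (Set.mem_insert _ _)
    have h2 : x * y ∈ Subgroup.closure ({x, x * y} : Set G) :=
      Subgroup.subset_closure (Set.mem_insert_of_mem _ (Set.mem_singleton _))
    have := mul_mem (inv_mem h1) h2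
    rwa [inv_mul_cancel_left] at this
  exact Group.isSolvable_of_isSolvable_injective (Subgroup.inclusion_injective hle)

theorem exists_conj_upper (p : ℕ) [Fact p.Prime] [CharP F p] {x : PSL2 F} (hx : x ^ p = 1) (hx1 : x ≠ 1) :
    ∃ (c : PSL2 F) (b : F), b ≠ 0 ∧ c * x * c⁻¹ = QuotientGroup.mk (PLocalB.upper b) := by
  haveI : CharP (AlgebraicClosure F) p :=
    charP_of_injective_algebraMap (algebraMap F (AlgebraicClosure F)).injective p
  obtain ⟨v, hv⟩ := exists_isUni_of_pow_char p (x := extend (algebraMap F (AlgebraicClosure F)) x)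
    (by rw [← map_pow, hx, map_one])
  obtain ⟨w, rfl⟩ := exists_rational_of_isUni _ hx1 hv
  have hw := (isUni_extend_iff _ x w).mp hv
  obtain ⟨t, ht⟩ := exists_smul_infty w
  rw [← isUni_conj_iff (g := t), ht, isUni_infty_iff_upp] at hw
  obtain ⟨b, hb⟩ := hw
  refine ⟨t, b, fun e => hx1 ?_, hb⟩
  rw [e, ofAdd_zero, map_one, conj_eq_one_iff] at hb
  exact hb

theorem exists_conj_diag (p : ℕ) [Fact p.Prime] [CharP F p] {x : PSL2 F} {w : OnePoint F} (hw : x • w = w)
    (hxp : x ^ p ≠ 1) (hx2 : x * x ≠ 1) :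
    ∃ (c : PSL2 F) (l : F) (X : SL(2, F)), l ≠ 0 ∧ l ^ 4 ≠ 1 ∧
      (X : Matrix (Fin 2) (Fin 2) F) = !![l, 0; 0, l⁻¹] ∧ c * x * c⁻¹ = QuotientGroup.mk X := by
  obtain ⟨t, ht⟩ := exists_smul_infty w
  have hfix : (t * x * t⁻¹) • (∞ : OnePoint F) = ∞ := by
    rw [← ht, mul_smul, mul_smul, inv_smul_smul, hw]
  obtain ⟨A, hA, h10⟩ := exists_upper_rep hfix
  have hd := upper_diag h10
  have h0 : A 0 0 ≠ 0 := left_ne_zero_of_mul_eq_one hd
  have hne : A 0 0 - A 1 1 ≠ 0 := fun e => by
    apply hxp
    have h2 : A 0 0 ^ 2 = 1 := by linear_combination hd + A 0 0 * e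
    have hu : IsUni (∞ : OnePoint F) (t * x * t⁻¹) := hA ▸ (isUni_infty_iff h10).mpr h2
    have := psl_isUni_pow p hu
    rwa [conj_pow, conj_eq_one_iff] at this
  obtain ⟨z, hz⟩ : ∃ z, z = A 0 1 / (A 0 0 - A 1 1) := ⟨_, rfl⟩
  obtain ⟨X, hXdef⟩ : ∃ X : SL(2, F), X = PLocalB.upper z * A * (PLocalB.upper z)⁻¹ := ⟨_, rfl⟩
  have hX : (X : Matrix (Fin 2) (Fin 2) F) = !![A 0 0, 0; 0, (A 0 0)⁻¹] := by
    rw [hXdef, PLocalB.upper_inv, inv_eq_of_mul_eq_one_right hd, Matrix.SpecialLinearGroup.coe_mul,
      Matrix.SpecialLinearGroup.coe_mul]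
    ext i j
    fin_cases i <;> fin_cases j <;>
      simp [Matrix.mul_apply, Fin.sum_univ_two, PLocalB.upper, h10, Matrix.vecMul, dotProduct] <;>
      (rw [hz]; field_simp; ring)
  have hc : (QuotientGroup.mk (PLocalB.upper z) * t) * x * (QuotientGroup.mk (PLocalB.upper z) * t)⁻¹ =
      (QuotientGroup.mk X : PSL2 F) := by
    rw [hXdef, QuotientGroup.mk_mul, QuotientGroup.mk_mul, QuotientGroup.mk_inv, hA]
    group
  refine ⟨_, A 0 0, X, h0, fun h4 => hx2 ?_, hX, hc⟩
  have h1 : (QuotientGroup.mk X : PSL2 F) * QuotientGroup.mk X = 1 := by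
    rw [← QuotientGroup.mk_mul, SL2Tor.psl_mk_eq_one_iff, Matrix.SpecialLinearGroup.coe_mul, hX]
    refine ⟨by simp, by simp, ?_⟩
    simp
    field_simp
    first
      | exact h4
      | linear_combination h4
      | linear_combination -h4
  rw [← hc] at h1
  rw [← conj_eq_one_iff (a := QuotientGroup.mk (PLocalB.upper z) * t), ← h1]
  group

/-- Semisimple elements split or not by their order. -/
theorem fix_iff_dvd (p : ℕ) [Fact p.Prime] [CharP F p] {x : PSL2 F} (hx1 : x ≠ 1) (hx2 : orderOf x ≠ 2)
    (hcop : Nat.Coprime (orderOf x) p) :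
    (orderOf x ∣ Fintype.card F - 1 → ∃ w : OnePoint F, x • w = w) ∧
      (orderOf x ∣ Fintype.card F + 1 → ∀ w : OnePoint F, x • w ≠ w) := by
  have hq := Fintype.one_lt_card (α := F)
  obtain ⟨N, n, -, -, hdvd, -, hkind⟩ := torus_of p hx1 hcop
  have hno : ¬ (orderOf x ∣ Fintype.card F - 1 ∧ orderOf x ∣ Fintype.card F + 1) := fun ⟨h1, h2⟩ => by
    have h3 := Nat.dvd_sub h2 h1
    rw [show Fintype.card F + 1 - (Fintype.card F - 1) = 2 by omega] at h3
    rcases (Nat.dvd_prime Nat.prime_two).mp h3 with h | h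
    · exact hx1 (orderOf_eq_one_iff.mp h)
    · exact hx2 h
  rcases hkind with ⟨hn, w, hw⟩ | ⟨hn, hfix⟩
  · have hd : orderOf x ∣ Fintype.card F - 1 := hdvd.trans (Dvd.intro_left _ hn)
    exact ⟨fun _ => ⟨w, hw⟩, fun h => absurd ⟨hd, h⟩ hno⟩
  · have hd : orderOf x ∣ Fintype.card F + 1 := hdvd.trans (Dvd.intro_left _ hn)
    exact ⟨fun h => absurd ⟨h, hd⟩ hno, fun _ => hfix⟩

end Cfsg.Agent.Dickson
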