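import Cfsg.Agent.Lib.Dickson.Exists
import Cfsg.Agent.Lib.Dickson.Transfer

/-!
Exactly when `PSL₂(F)` contains `A₄`, `S₄`, `A₅`.
-/

set_option autoImplicit false
set_option linter.unusedSectionVars false

namespace Cfsg.Agent.Dickson

open Matrix OnePoint
open scoped MatrixGroups

attribute [local instance] Cfsg.Agent.PLocalB.lineAction pslLine

variable {F : Type*} [Field F] [Fintype F]

theorem exists_subfield_subgroup {K : Type*} [Field K] (f : K →+* F) {G : Type*} [Group G]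
    (e : Nonempty (PSL2 K ≃* G)) : ∃ H : Subgroup (PSL2 F), Nonempty (H ≃* G) := by
  obtain ⟨e⟩ := e
  exact ⟨(extend f).range, ⟨(MonoidHom.ofInjective (extend_injective f)).symm.trans e⟩⟩

theorem exists_zmod_hom (p : ℕ) [Fact p.Prime] [CharP F p] : Nonempty (ZMod p →+* F) :=
  ⟨ZMod.castHom dvd_rfl F⟩

theorem exists_A5_of_dvd (h : 5 ∣ Fintype.card F * (Fintype.card F ^ 2 - 1)) :
    ∃ H : Subgroup (PSL2 F), Nonempty (H ≃* alternatingGroup (Fin 5)) := by
  haveI : Fact (Nat.Prime 5) := ⟨by norm_num⟩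
  by_cases h5 : (5 : F) = 0
  · haveI : CharP F 5 := (CharP.charP_iff_prime_eq_zero (Fact.out : Nat.Prime 5)).mpr (by exact_mod_cast h5)
    obtain ⟨f⟩ := exists_zmod_hom (F := F) 5
    exact exists_subfield_subgroup f (LinearGroup.psl_two_five (Nat.card_zmod 5))
  · refine exists_A5 ?_ h5
    have h1 : 5 ∣ Fintype.card F ^ 2 - 1 := by
      rcases (Nat.Prime.dvd_mul (Fact.out : Nat.Prime 5)).mp h with h' | h'
      · exfalso
        apply h5
        obtain ⟨p, hp⟩ := CharP.exists F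
        obtain ⟨n, hpp, hn⟩ := FiniteField.card F p
        rw [hn] at h'
        have := (Nat.prime_dvd_prime_iff_eq (Fact.out : Nat.Prime 5) hpp).mp
          ((Fact.out : Nat.Prime 5).dvd_of_dvd_pow h')
        subst this
        exact_mod_cast CharP.cast_eq_zero F 5
      · exact h'
    rw [Nat.card_eq_fintype_card]
    have e : Fintype.card F ^ 2 - 1 = (Fintype.card F - 1) * (Fintype.card F + 1) := by
      rw [mul_comm, ← Nat.sq_sub_sq, one_pow]
    rw [e] at h1
    exact (Nat.Prime.dvd_mul (Fact.out : Nat.Prime 5)).mp h1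

/-- `A₄` inside `A₅`. -/
def alt4to5 : alternatingGroup (Fin 4) →* alternatingGroup (Fin 5) :=
  ((Equiv.Perm.extendDomainHom
    (⟨fun i => ⟨i.castSucc, i.isLt⟩, fun x => ⟨(x.1 : ℕ), x.2⟩, fun _ => rfl, fun _ => rfl⟩ :
      Fin 4 ≃ {x : Fin 5 // (x : ℕ) < 4})).comp (alternatingGroup (Fin 4)).subtype).codRestrict _
    fun g => by
      rw [Equiv.Perm.mem_alternatingGroup]
      exact (Equiv.Perm.sign_extendDomain _ _).trans (Equiv.Perm.mem_alternatingGroup.mp g.2)

theorem alt4to5_injective : Function.Injective alt4to5 := fun a b h =>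
  Subtype.ext (Equiv.Perm.extendDomainHom_injective _ (congrArg Subtype.val h))

theorem exists_A4_of (p n : ℕ) [Fact p.Prime] [CharP F p] (hF : Fintype.card F = p ^ n)
    (h : ¬ (p = 2 ∧ Odd n)) :
    ∃ H : Subgroup (PSL2 F), Nonempty (H ≃* alternatingGroup (Fin 4)) := by
  by_cases hp : p = 2
  · subst hp
    obtain ⟨j, rfl⟩ : Even n := Nat.not_odd_iff_even.mp fun ho => h ⟨rfl, ho⟩
    have h5 : 5 ∣ Fintype.card F * (Fintype.card F ^ 2 - 1) := by
      refine dvd_mul_of_dvd_right ?_ _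
      rw [hF, ← pow_mul, show (j + j) * 2 = 4 * j by ring, pow_mul]
      exact (show 5 ∣ 2 ^ 4 - 1 by norm_num).trans (by
        have := Nat.sub_dvd_pow_sub_pow (2 ^ 4) 1 j
        rwa [one_pow] at this)
    obtain ⟨H, ⟨e⟩⟩ := exists_A5_of_dvd h5
    let φ : alternatingGroup (Fin 4) →* PSL2 F :=
      H.subtype.comp (e.symm.toMonoidHom.comp alt4to5)
    have hφ : Function.Injective φ :=
      Subtype.val_injective.comp (e.symm.injective.comp alt4to5_injective)
    exact ⟨φ.range, ⟨(MonoidHom.ofInjective hφ).symm⟩⟩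
  · by_cases hp3 : p = 3
    · subst hp3
      obtain ⟨f⟩ := exists_zmod_hom (F := F) 3
      refine exists_subfield_subgroup f ?_
      have := LinearGroup.psl_two_small (F := ZMod 3) (Or.inl (Nat.card_zmod 3))
      rwa [Nat.card_zmod] at this
    · refine exists_A4 ?_ ?_
      · intro h2
        exact hp ((Nat.prime_dvd_prime_iff_eq Fact.out Nat.prime_two).mp
          ((CharP.cast_eq_zero_iff F p 2).mp (by exact_mod_cast h2)))
      · intro h3
        exact hp3 ((Nat.prime_dvd_prime_iff_eq Fact.out Nat.prime_three).mp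
          ((CharP.cast_eq_zero_iff F p 3).mp (by exact_mod_cast h3)))

theorem not_A4 (n : ℕ) [CharP F 2] (hF : Fintype.card F = 2 ^ n) (hn : Odd n)
    (H : Subgroup (PSL2 F)) : ¬ Nonempty (H ≃* alternatingGroup (Fin 4)) := by
  rintro ⟨e⟩
  haveI : Fact (Nat.Prime 2) := ⟨Nat.prime_two⟩
  obtain ⟨P, hP⟩ := exists_sylow_upp (F := F) 2
  -- an involution `v` and an element `g` of order three with `v` commuting with its conjugate
  obtain ⟨vv, gg, hv, hg, hcomm⟩ : ∃ vv gg : alternatingGroup (Fin 4),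
      orderOf vv = 2 ∧ orderOf gg = 3 ∧ Commute vv (gg * vv * gg⁻¹) := by
    refine ⟨⟨Equiv.swap 0 1 * Equiv.swap 2 3, Equiv.Perm.mem_alternatingGroup.mpr (by decide)⟩, ⟨Equiv.swap 0 1 * Equiv.swap 1 2, Equiv.Perm.mem_alternatingGroup.mpr (by decide)⟩,
      ?_, ?_, by unfold Commute SemiconjBy; exact Subtype.ext (by decide)⟩
    · rw [orderOf_eq_prime_iff]; exact ⟨by decide, by decide⟩
    · haveI : Fact (Nat.Prime 3) := ⟨Nat.prime_three⟩
      rw [orderOf_eq_prime_iff]; exact ⟨by decide, by decide⟩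
  let ι : alternatingGroup (Fin 4) →* PSL2 F := H.subtype.comp e.symm.toMonoidHom
  have hι : Function.Injective ι := Subtype.val_injective.comp e.symm.injective
  set v := ι vv
  set g := ι gg
  have hv2 : orderOf v = 2 := by rw [orderOf_injective ι hι, hv]
  have hg3 : orderOf g = 3 := by rw [orderOf_injective ι hι, hg]
  have hp2 : IsPGroup 2 (Subgroup.zpowers v) := IsPGroup.of_card (n := 1) (by rw [Nat.card_zpowers, hv2, pow_one])
  obtain ⟨Q, hQ⟩ := hp2.exists_le_sylow
  obtain ⟨c, hc⟩ := MulAction.exists_smul_eq (PSL2 F) Q P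
  -- move the fixed point of `v` to infinity
  have hvP : c * v * c⁻¹ ∈ (uppHom F).range := by
    rw [← hP, ← hc]
    exact Subgroup.mem_map.mpr ⟨v, hQ (Subgroup.mem_zpowers v), rfl⟩
  obtain ⟨b, hb⟩ := hvP
  have hu : IsUni (∞ : OnePoint F) (c * v * c⁻¹) :=
    isUni_infty_iff_upp.mpr ⟨b.toAdd, hb.symm⟩
  have hv1 : c * v * c⁻¹ ≠ 1 := fun h => by
    rw [conj_eq_one_iff.mp h, orderOf_one] at hv2; omega
  set v' := c * v * c⁻¹
  set g' := c * g * c⁻¹
  have hcomm' : Commute v' (g' * v' * g'⁻¹) := by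
    have := congrArg (MulAut.conj c) (congrArg ι hcomm.eq)
    simpa [v', g', v, g, Commute, SemiconjBy, mul_assoc] using this
  have hfix := hu.resolve_left hv1
  have hginf : g' • (∞ : OnePoint F) = ∞ := by
    have h1 := (isUni_conj (g := g') hu).resolve_left fun h => hv1 (conj_eq_one_iff.mp h)
    have h2 : (g' * v' * g'⁻¹) • (∞ : OnePoint F) = ∞ := by
      apply (hfix _).mp
      rw [← mul_smul, hcomm'.eq, mul_smul, (hfix ∞).mpr rfl]
    exact ((h1 ∞).mp h2).symm
  have hg3' : orderOf g' = 3 := by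
    rw [← hg3]; exact orderOf_injective (MulAut.conj c).toMonoidHom (MulAut.conj c).injective g
  obtain ⟨A, hA, h10⟩ := exists_upper_rep hginf
  have hA3 : (QuotientGroup.mk (A ^ 3) : PSL2 F) = 1 := by
    rw [QuotientGroup.mk_pow, hA, ← hg3', pow_orderOf_eq_one]
  obtain ⟨hp10, hp00⟩ := upper_tri_pow A h10 3
  have hsq : ((A ^ 3) 0 0) ^ 2 = 1 := by
    rcases eq_or_eq_neg_of_isScalar ((SL2Tor.psl_mk_eq_one_iff _).mp hA3) with h' | h' <;>
      rw [h'] <;> simp
  rw [hp00] at hsq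
  have ha3 : A 0 0 ^ 3 = 1 := by
    have h0 : (A 0 0 ^ 3 - 1) ^ 2 = 0 := by
      linear_combination hsq - (A 0 0 ^ 3 - 1) * (CharTwo.two_eq_zero (R := F))
    exact sub_eq_zero.mp (pow_eq_zero_iff two_ne_zero |>.mp h0)
  have ha : A 0 0 = 1 := by
    have h0 : A 0 0 ≠ 0 := fun h0 => by rw [h0] at ha3; simp at ha3
    have h1 : orderOf (A 0 0) ∣ Nat.gcd 3 (Fintype.card F - 1) := Nat.dvd_gcd
      (orderOf_dvd_of_pow_eq_one ha3)
      (orderOf_dvd_of_pow_eq_one (FiniteField.pow_card_sub_one_eq_one _ h0))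
    have hgcd : Nat.gcd 3 (Fintype.card F - 1) = 1 := by
      apply (Nat.prime_three.coprime_iff_not_dvd).mpr
      rw [hF]
      obtain ⟨j, rfl⟩ := hn
      have : 2 ^ (2 * j + 1) % 3 = 2 := by rw [pow_succ, pow_mul, Nat.mul_mod, Nat.pow_mod]; simp
      have hpos : 0 < 2 ^ (2 * j + 1) := by positivity
      obtain ⟨r, hr⟩ : ∃ r, 2 ^ (2 * j + 1) = r := ⟨_, rfl⟩
      rw [hr] at this hpos ⊢
      intro hd
      omega
    rw [hgcd] at h1
    exact orderOf_eq_one_iff.mp (Nat.dvd_one.mp h1)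
  obtain ⟨b', hb'⟩ := isUni_infty_iff_upp.mp (show IsUni (∞ : OnePoint F) g' by
    rw [← hA, isUni_infty_iff h10, ha, one_pow])
  have : g' ^ 2 = 1 := by
    rw [hb', pow_two, ← map_mul, ← ofAdd_add, CharTwo.add_self_eq_zero, ofAdd_zero, map_one]
  have := orderOf_dvd_of_pow_eq_one this
  rw [hg3'] at this
  omega

theorem exists_S4_of (h : Fintype.card F ^ 2 % 16 = 1) :
    ∃ H : Subgroup (PSL2 F), Nonempty (H ≃* Equiv.Perm (Fin 4)) := by
  have hmod : Fintype.card F % 8 = 1 ∨ Fintype.card F % 8 = 7 := by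
    have e : Fintype.card F ^ 2 % 16 = (Fintype.card F % 16) ^ 2 % 16 := Nat.pow_mod _ _ _
    have h16 : Fintype.card F % 16 < 16 := Nat.mod_lt _ (by norm_num)
    have h8 : Fintype.card F % 8 = Fintype.card F % 16 % 8 := by omega
    rw [e] at h
    rw [h8]
    interval_cases hr : (Fintype.card F % 16) <;> simp_all
  have h2 : (2 : F) ≠ 0 := fun e => by
    haveI := CharTwo.of_one_ne_zero_of_two_eq_zero (R := F) one_ne_zero e
    have := FiniteField.even_card_iff_char_two.mp (ringChar.eq F 2)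
    omega
  obtain ⟨w, hw⟩ := (FiniteField.isSquare_two_iff (F := F)).mpr ⟨by omega, by omega⟩
  exact exists_S4 h2 (w := w) (by rw [pow_two]; exact hw.symm)

theorem sq_mod_of_S4 (H : Subgroup (PSL2 F)) (h : Nonempty (H ≃* Equiv.Perm (Fin 4))) :
    Fintype.card F ^ 2 % 16 = 1 := by
  obtain ⟨e⟩ := h
  obtain ⟨p, hp⟩ := CharP.exists F
  obtain ⟨n, hpp, hn⟩ := FiniteField.card F p
  haveI := Fact.mk hpp
  have h4 : orderOf (finRotate 4) = 4 := by
    haveI : Fact (Nat.Prime 2) := ⟨Nat.prime_two⟩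
    exact orderOf_eq_prime_pow (p := 2) (n := 1) (by decide) (by decide)
  let ι : Equiv.Perm (Fin 4) →* PSL2 F := H.subtype.comp e.symm.toMonoidHom
  have h4' : orderOf (ι (finRotate 4)) = 4 := by
    rw [orderOf_injective ι (Subtype.val_injective.comp e.symm.injective), h4]
  have hd := SL2Tor.psl_orderOf_dvd p (ι (finRotate 4))
  rw [h4'] at hd
  have hq := Fintype.one_lt_card (α := F)
  rcases hd with hd | hd
  · exact absurd ((Nat.dvd_prime hpp).mp hd) (by
      rintro (h' | h')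
      · omega
      · rw [← h'] at hpp; norm_num at hpp)
  · have hodd : Fintype.card F % 2 = 1 ∧ Nat.gcd 2 (Fintype.card F - 1) = 2 := by
      rcases SL2Tor.gcd_two_cases (Fintype.card F - 1) with hg | hg
      · exfalso
        rw [hg, Nat.div_one, Nat.div_one] at hd
        have h2 : ¬ 2 ∣ Fintype.card F - 1 := fun h2 => by
          have := Nat.dvd_gcd (dvd_refl 2) h2; rw [hg] at this; omega
        omega
      · have : 2 ∣ Fintype.card F - 1 := hg ▸ Nat.gcd_dvd_right 2 _
        exact ⟨by omega, hg⟩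
    rw [hodd.2] at hd
    have h8 : Fintype.card F % 8 = 1 ∨ Fintype.card F % 8 = 7 := by omega
    rw [Nat.pow_mod]
    rcases (by omega : Fintype.card F % 16 = 1 ∨ Fintype.card F % 16 = 7 ∨ Fintype.card F % 16 = 9 ∨
      Fintype.card F % 16 = 15) with e | e | e | e <;> rw [e]

theorem five_dvd_of_A5 (H : Subgroup (PSL2 F)) (h : Nonempty (H ≃* alternatingGroup (Fin 5))) :
    5 ∣ Fintype.card F * (Fintype.card F ^ 2 - 1) := by
  obtain ⟨e⟩ := h
  have h5 : 5 ∣ Nat.card H := by
    rw [Nat.card_congr e.toEquiv]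
    have h60 := two_mul_nat_card_alternatingGroup (α := Fin 5)
    rw [Nat.card_perm, Nat.card_fin, show Nat.factorial 5 = 120 from rfl] at h60
    omega
  have h1 := LinearGroup.gcd_mul_card_PSL_two (F := F)
  rw [Nat.card_eq_fintype_card] at h1
  rw [← h1]
  exact dvd_mul_of_dvd_right (h5.trans (Subgroup.card_subgroup_dvd_card H)) _

end Cfsg.Agent.Dickson
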