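import Cfsg.Agent.Lib.Dickson.Rational
import Cfsg.Agent.Lib.Dickson.Transfer

/-!
Finite subfields and the maps they induce between the groups `PSL₂` and `PGL₂`.
-/

set_option autoImplicit false
set_option linter.unusedSectionVars false

namespace Cfsg.Agent.Dickson

open Matrix

variable {F K : Type*} [Field F] [Fintype F] [Field K] [Fintype K]

theorem exists_ringHom {m : ℕ} (h : Fintype.card K ^ m = Fintype.card F) : Nonempty (K →+* F) := by
  obtain ⟨p, hp⟩ := CharP.exists K
  obtain ⟨a, hpp, hK⟩ := FiniteField.card K p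
  haveI := Fact.mk hpp
  haveI : CharP F p := by
    refine charP_of_card_eq_prime_pow (f := a * m) ?_
    rw [← h, hK, pow_mul]
  letI := ZMod.algebra K p
  letI := ZMod.algebra F p
  have h1 : p ^ Module.finrank (ZMod p) K = p ^ (a : ℕ) := by
    rw [← hK, FiniteField.pow_finrank_eq_card p K]
  have h2 : p ^ Module.finrank (ZMod p) F = p ^ ((a : ℕ) * m) := by
    rw [pow_mul, ← hK, h, FiniteField.pow_finrank_eq_card p F]
  obtain ⟨f⟩ := FiniteField.nonempty_algHom_of_finrank_dvd (F := ZMod p) (K := K) (L := F) ⟨m, by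
    rw [Nat.pow_right_injective hpp.two_le h1, Nat.pow_right_injective hpp.two_le h2]⟩
  exact ⟨f.toRingHom⟩

theorem card_pow_dvd_card {m : ℕ} (h : Fintype.card K ^ m = Fintype.card F) (hm : Even m)
    (hodd : Odd (Fintype.card F)) : 2 * (Fintype.card K - 1) ∣ Fintype.card F - 1 := by
  obtain ⟨j, rfl⟩ := hm
  have hr : Odd (Fintype.card K) := by
    rw [← h] at hodd
    rcases Nat.eq_zero_or_pos j with rfl | hj
    · simp at h
      have := Fintype.one_lt_card (α := F)
      omega
    · exact hodd.of_dvd_nat (dvd_pow_self _ (by omega))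
  obtain ⟨c, hc⟩ := hr
  have h1 : Fintype.card K ^ 2 - 1 ∣ Fintype.card F - 1 := by
    rw [← h, show j + j = 2 * j by ring, pow_mul]
    simpa using Nat.sub_dvd_pow_sub_pow (Fintype.card K ^ 2) 1 j
  refine dvd_trans ?_ h1
  rw [hc]
  exact ⟨c + 1, by
    rw [show (2 * c + 1) ^ 2 = 4 * (c * c) + 4 * c + 1 by ring, Nat.add_sub_cancel,
      Nat.add_sub_cancel]
    ring⟩

theorem isSquare_map {m : ℕ} (h : Fintype.card K ^ m = Fintype.card F) (hm : Even m) (f : K →+* F)
    (x : K) : IsSquare (f x) := by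
  by_cases h2 : ringChar F = 2
  · exact FiniteField.isSquare_of_char_two h2 _
  rcases eq_or_ne x 0 with rfl | hx
  · rw [map_zero]; exact IsSquare.zero
  have hodd : Odd (Fintype.card F) := Nat.odd_iff.mpr (FiniteField.odd_card_of_char_ne_two h2)
  rw [FiniteField.isSquare_iff h2 ((map_ne_zero f).mpr hx)]
  obtain ⟨c, hc⟩ := card_pow_dvd_card h hm hodd
  have : Fintype.card F / 2 = (Fintype.card K - 1) * c := by
    obtain ⟨d, hd⟩ := hodd
    rw [hd, Nat.add_sub_cancel, mul_assoc] at hc
    omega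
  rw [this, pow_mul, ← map_pow, FiniteField.pow_card_sub_one_eq_one x hx, map_one, one_pow]

/-- A linear group over `K` all of whose scalars are squares in `F` sits in `PSL₂(F)`. -/
theorem exists_pgl_to_psl (f : K →+* F) (hf : ∀ x : K, IsSquare (f x)) :
    ∃ φ : ProjGenLinGroup (Fin 2) K →* PSL2 F, Function.Injective φ ∧
      ∀ M : SpecialLinearGroup (Fin 2) K,
        φ (ProjGenLinGroup.mk (SpecialLinearGroup.toGL M)) =
          QuotientGroup.mk (SpecialLinearGroup.map f M) := by
  let J : PSL2 F →* ProjGenLinGroup (Fin 2) F := ProjectiveSpecialLinearGroup.toPGL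
  have hrange : (ProjGenLinGroup.map (n := Fin 2) f).range ≤ J.range := by
    rintro _ ⟨g, rfl⟩
    obtain ⟨M, rfl⟩ := ProjGenLinGroup.mk_surjective g
    obtain ⟨r, hr⟩ := hf (M : Matrix (Fin 2) (Fin 2) K).det
    have hd : (M : Matrix (Fin 2) (Fin 2) K).det ≠ 0 :=
      ((Matrix.isUnit_iff_isUnit_det _).mp M.isUnit).ne_zero
    have hr0 : r ≠ 0 := fun e => hd ((map_eq_zero f).mp (by rw [hr, e, mul_zero]))
    let N : SpecialLinearGroup (Fin 2) F := ⟨r⁻¹ • (f.mapMatrix (M : Matrix (Fin 2) (Fin 2) K)), by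
      rw [Matrix.det_smul, ← RingHom.map_det, hr, Fintype.card_fin]
      field_simp⟩
    refine ⟨QuotientGroup.mk N, ?_⟩
    show ProjGenLinGroup.mk (SpecialLinearGroup.toGL N) = _
    rw [ProjGenLinGroup.map_mk, ProjGenLinGroup.mk_eq_mk_iff]
    refine ⟨Units.mk0 r hr0, Units.ext (Matrix.ext fun i j => ?_)⟩
    fin_cases i <;> fin_cases j <;>
      simp [N, Matrix.mul_apply, Fin.sum_univ_two, GeneralLinearGroup.coe_scalar,
        SpecialLinearGroup.toGL, GeneralLinearGroup.map] <;> field_simp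
  have hinj : Function.Injective J := ProjectiveSpecialLinearGroup.toPGL_injective
  refine ⟨(MonoidHom.ofInjective hinj).symm.toMonoidHom.comp
    ((Subgroup.inclusion hrange).comp (ProjGenLinGroup.map (n := Fin 2) f).rangeRestrict), ?_, ?_⟩
  · refine (MonoidHom.ofInjective hinj).symm.injective.comp
      ((Subgroup.inclusion_injective hrange).comp ?_)
    rw [← MonoidHom.ker_eq_bot_iff, MonoidHom.ker_rangeRestrict, MonoidHom.ker_eq_bot_iff,
      injective_iff_map_eq_one]
    intro g hg
    obtain ⟨M, rfl⟩ := ProjGenLinGroup.mk_surjective g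
    rw [ProjGenLinGroup.map_mk, ProjGenLinGroup.mk_eq_one,
      GeneralLinearGroup.center_eq_range_scalar] at hg
    obtain ⟨u, hu⟩ := hg
    have hm : ∀ i j, f ((M : Matrix (Fin 2) (Fin 2) K) i j)
        = Matrix.diagonal (fun _ => (u : F)) i j := fun i j => by
      have h := congrArg (fun z : GL (Fin 2) F => (z : Matrix (Fin 2) (Fin 2) F) i j) hu
      simpa [GeneralLinearGroup.coe_scalar, GeneralLinearGroup.map] using h.symm
    have e01 : (M : Matrix (Fin 2) (Fin 2) K) 0 1 = 0 := f.injective (by simpa using hm 0 1)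
    have e10 : (M : Matrix (Fin 2) (Fin 2) K) 1 0 = 0 := f.injective (by simpa using hm 1 0)
    have e11 : (M : Matrix (Fin 2) (Fin 2) K) 1 1 = (M : Matrix (Fin 2) (Fin 2) K) 0 0 :=
      f.injective ((by simpa using hm 1 1 : _ = (u : F)).trans (by simpa using (hm 0 0).symm))
    have h00 : (M : Matrix (Fin 2) (Fin 2) K) 0 0 ≠ 0 := fun e => u.ne_zero (by
      simpa [e] using (hm 0 0).symm)
    rw [ProjGenLinGroup.mk_eq_one, GeneralLinearGroup.center_eq_range_scalar]
    refine ⟨Units.mk0 _ h00, Units.ext (Matrix.ext fun i j => ?_)⟩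
    fin_cases i <;> fin_cases j <;> simp [GeneralLinearGroup.coe_scalar, e01, e10, e11]
  · intro M
    apply hinj
    show ((MonoidHom.ofInjective hinj) ((MonoidHom.ofInjective hinj).symm _) : ProjGenLinGroup (Fin 2) F) = _
    rw [MulEquiv.apply_symm_apply]
    show (ProjGenLinGroup.map (n := Fin 2) f) (ProjGenLinGroup.mk (SpecialLinearGroup.toGL M))
      = ProjGenLinGroup.mk (SpecialLinearGroup.toGL (SpecialLinearGroup.map f M))
    rw [ProjGenLinGroup.map_mk]
    congr 1
    ext i j
    rfl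

end Cfsg.Agent.Dickson
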