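import Cfsg.Agent.Lib.Dickson.Tori
import Cfsg.Agent.Lib.Dickson.Polyhedra
import Cfsg.Agent.S0805

/-!
Orders of the groups in Dickson's list, for questions of maximality.
-/

set_option autoImplicit false
set_option linter.unusedSectionVars false

namespace Cfsg.Agent.Dickson

open Matrix MulAction OnePoint
open scoped MatrixGroups

attribute [local instance] Cfsg.Agent.PLocalB.lineAction pslLine

variable {F : Type*} [Field F] [Fintype F]

theorem card_torusNorm {N : Subgroup (PSL2 F)} {n : ℕ} (h : IsTorusNorm N n) :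
    Nat.card N = 2 * n := by
  obtain ⟨-, ⟨e⟩, -⟩ := h
  rw [Nat.card_congr e.toEquiv, DihedralGroup.nat_card]

theorem exists_orderOf_torusNorm {N : Subgroup (PSL2 F)} {n : ℕ} (h : IsTorusNorm N n) :
    ∃ g ∈ N, orderOf g = n := by
  obtain ⟨-, ⟨e⟩, -⟩ := h
  refine ⟨(e.symm (DihedralGroup.r 1) : N), SetLike.coe_mem _, ?_⟩
  rw [Subgroup.orderOf_coe, MulEquiv.orderOf_eq, DihedralGroup.orderOf_r_one]

theorem card_A4 : Nat.card (alternatingGroup (Fin 4)) = 12 := by
  have h := two_mul_nat_card_alternatingGroup (α := Fin 4)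
  rw [Nat.card_perm, Nat.card_fin, show Nat.factorial 4 = 24 from rfl] at h
  omega

theorem card_S4 : Nat.card (Equiv.Perm (Fin 4)) = 24 := by
  rw [Nat.card_perm, Nat.card_fin]; rfl

theorem card_A5 : Nat.card (alternatingGroup (Fin 5)) = 60 := by
  have h := two_mul_nat_card_alternatingGroup (α := Fin 5)
  rw [Nat.card_perm, Nat.card_fin, show Nat.factorial 5 = 120 from rfl] at h
  omega

theorem A4_pow : ∀ g : alternatingGroup (Fin 4), g ^ 2 = 1 ∨ g ^ 3 = 1 := by decide +kernel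
theorem S4_pow : ∀ g : Equiv.Perm (Fin 4), g ^ 3 = 1 ∨ g ^ 4 = 1 := by decide +kernel
theorem A5_pow : ∀ g : alternatingGroup (Fin 5), g ^ 2 = 1 ∨ g ^ 3 = 1 ∨ g ^ 5 = 1 := by
  decide +kernel

theorem A4_no_inversion :
    ∀ r s : alternatingGroup (Fin 4), r ^ 3 = 1 → s * r * s⁻¹ = r⁻¹ → r = 1 := by decide +kernel

theorem orderOf_A4 {K : Subgroup (PSL2 F)} (h : Nonempty (K ≃* alternatingGroup (Fin 4))) {g : PSL2 F}
    (hg : g ∈ K) : orderOf g ∣ 2 ∨ orderOf g ∣ 3 := by
  obtain ⟨e⟩ := h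
  rw [show orderOf g = orderOf (e ⟨g, hg⟩) by rw [MulEquiv.orderOf_eq, Subgroup.orderOf_mk]]
  exact (A4_pow _).imp orderOf_dvd_of_pow_eq_one orderOf_dvd_of_pow_eq_one

theorem orderOf_S4 {K : Subgroup (PSL2 F)} (h : Nonempty (K ≃* Equiv.Perm (Fin 4))) {g : PSL2 F}
    (hg : g ∈ K) : orderOf g ∣ 3 ∨ orderOf g ∣ 4 := by
  obtain ⟨e⟩ := h
  rw [show orderOf g = orderOf (e ⟨g, hg⟩) by rw [MulEquiv.orderOf_eq, Subgroup.orderOf_mk]]
  exact (S4_pow _).imp orderOf_dvd_of_pow_eq_one orderOf_dvd_of_pow_eq_one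

theorem orderOf_A5 {K : Subgroup (PSL2 F)} (h : Nonempty (K ≃* alternatingGroup (Fin 5))) {g : PSL2 F}
    (hg : g ∈ K) : orderOf g ∣ 2 ∨ orderOf g ∣ 3 ∨ orderOf g ∣ 5 := by
  obtain ⟨e⟩ := h
  rw [show orderOf g = orderOf (e ⟨g, hg⟩) by rw [MulEquiv.orderOf_eq, Subgroup.orderOf_mk]]
  exact (A5_pow _).imp orderOf_dvd_of_pow_eq_one
    (Or.imp orderOf_dvd_of_pow_eq_one orderOf_dvd_of_pow_eq_one)

theorem not_dihedral_three_le_A4 {N K : Subgroup (PSL2 F)} (hN : Nonempty (N ≃* DihedralGroup 3))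
    (hK : Nonempty (K ≃* alternatingGroup (Fin 4))) : ¬ N ≤ K := by
  intro hle
  obtain ⟨e⟩ := hN
  obtain ⟨e'⟩ := hK
  let φ : DihedralGroup 3 →* alternatingGroup (Fin 4) :=
    e'.toMonoidHom.comp ((Subgroup.inclusion hle).comp e.symm.toMonoidHom)
  have hφ : Function.Injective φ :=
    e'.injective.comp ((Subgroup.inclusion_injective hle).comp e.symm.injective)
  have h := A4_no_inversion (φ (DihedralGroup.r 1)) (φ (DihedralGroup.sr 0))
    (by rw [← map_pow, DihedralGroup.r_one_pow_n, map_one])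
    (by rw [← map_inv, ← map_mul, ← map_mul, ← map_inv]; congr 1)
  rw [← map_one φ] at h
  have := congrArg orderOf (hφ h)
  rw [DihedralGroup.orderOf_r_one, orderOf_one] at this
  omega

theorem eq_top_of_d_mul {H : Subgroup (PSL2 F)}
    (h : (Fintype.card F + 1) * (Fintype.card F * (Fintype.card F - 1)) ≤
      Nat.gcd 2 (Fintype.card F - 1) * Nat.card H) : H = ⊤ := by
  refine Subgroup.eq_top_of_le_card H ?_
  rw [← card_psl_eq] at h
  exact Nat.le_of_mul_le_mul_left h (Nat.gcd_pos_of_pos_left _ two_pos)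

theorem d_mul_card_dvd (H : Subgroup (PSL2 F)) :
    Nat.gcd 2 (Fintype.card F - 1) * Nat.card H ∣
      (Fintype.card F + 1) * (Fintype.card F * (Fintype.card F - 1)) := by
  rw [← card_psl_eq]
  exact Nat.mul_dvd_mul_left _ (Subgroup.card_subgroup_dvd_card H)

theorem d_even_or_odd :
    (Nat.gcd 2 (Fintype.card F - 1) = 1 ∧ Fintype.card F % 2 = 0) ∨
      (Nat.gcd 2 (Fintype.card F - 1) = 2 ∧ Fintype.card F % 2 = 1) := by
  have hq := Fintype.one_lt_card (α := F)
  rcases SL2Tor.gcd_two_cases (Fintype.card F - 1) with h | h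
  · refine Or.inl ⟨h, ?_⟩
    by_contra h2
    have := Nat.dvd_gcd (dvd_refl 2) (show 2 ∣ Fintype.card F - 1 by omega)
    rw [h] at this; omega
  · have : 2 ∣ Fintype.card F - 1 := h ▸ Nat.gcd_dvd_right 2 _
    exact Or.inr ⟨h, by omega⟩

theorem card_big {H : Subgroup (PSL2 F)} {T : Subfield F} (h : Big H T) :
    (Nat.gcd 2 (Nat.card T - 1) * Nat.card H = Nat.card T * (Nat.card T ^ 2 - 1) ∧
        Nonempty (H ≃* ProjectiveSpecialLinearGroup (Fin 2) T)) ∨
      (Nat.card H = Nat.card T * (Nat.card T ^ 2 - 1) ∧ Nonempty (H ≃* ProjGenLinGroup (Fin 2) T)) := by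
  haveI : Fintype T := Fintype.ofFinite T
  rcases h.2.2.1 with e | e <;> obtain ⟨e⟩ := e
  · refine Or.inl ⟨?_, ⟨e⟩⟩
    rw [Nat.card_congr e.toEquiv, LinearGroup.gcd_mul_card_PSL_two]
  · refine Or.inr ⟨?_, ⟨e⟩⟩
    rw [Nat.card_congr e.toEquiv, S0265.result, LinearGroup.card_SL_two]

/-- A proper subgroup of subfield type comes from a proper subfield. -/
theorem big_proper {H : Subgroup (PSL2 F)} {T : Subfield F} (h : Big H T) (hH : H ≠ ⊤) :
    ∃ m, 2 ≤ m ∧ Nat.card T ^ m = Fintype.card F ∧ Nat.card T ^ 2 ≤ Fintype.card F := by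
  obtain ⟨m, hm, he⟩ := h.2.1
  have h2 : 2 ≤ m := by
    by_contra hm2
    obtain rfl : m = 1 := by omega
    rw [pow_one] at he
    apply hH
    refine Subgroup.eq_top_of_le_card H (Nat.le_of_mul_le_mul_left (show Nat.gcd 2 (Fintype.card F - 1) * Nat.card (PSL2 F) ≤ Nat.gcd 2 (Fintype.card F - 1) * Nat.card H from ?_)
      (Nat.gcd_pos_of_pos_left _ two_pos))
    have hG := LinearGroup.gcd_mul_card_PSL_two (F := F)
    rw [Nat.card_eq_fintype_card (α := F)] at hG
    rw [hG]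
    rcases card_big h with ⟨hc, -⟩ | ⟨hc, -⟩ <;> rw [he] at hc
    · exact hc.ge
    · rw [← hc]
      exact Nat.le_mul_of_pos_left _ (Nat.gcd_pos_of_pos_left _ two_pos)
  refine ⟨m, h2, he, ?_⟩
  rw [← he]
  exact Nat.pow_le_pow_right (by have := h.1; omega) h2

theorem card_big_le {H : Subgroup (PSL2 F)} {T : Subfield F} (h : Big H T) :
    Nat.card H ≤ Nat.card T * (Nat.card T ^ 2 - 1) := by
  rcases card_big h with ⟨hc, -⟩ | ⟨hc, -⟩
  · rw [← hc]; exact Nat.le_mul_of_pos_left _ (Nat.gcd_pos_of_pos_left _ two_pos)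
  · exact hc.le

/-- Galois's bound: a proper subgroup has order at most `q(q - 1)/d`. -/
theorem card_le_borel (hq : Fintype.card F ∉ ({2, 3, 5, 7, 9, 11} : Finset ℕ))
    (H : Subgroup (PSL2 F)) (hH : H ≠ ⊤) :
    Nat.gcd 2 (Fintype.card F - 1) * Nat.card H ≤ Fintype.card F * (Fintype.card F - 1) := by
  obtain ⟨p, hp⟩ := CharP.exists F
  obtain ⟨f, hpp, -⟩ := FiniteField.card F p
  haveI := Fact.mk hpp
  have hd := d_even_or_odd (F := F)
  have hdvd := d_mul_card_dvd H
  have h1 := Fintype.one_lt_card (α := F)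
  simp only [Finset.mem_insert, Finset.mem_singleton, not_or] at hq
  obtain ⟨h2, h3, h5, h7, h9, h11⟩ := hq
  have hne : Nat.gcd 2 (Fintype.card F - 1) * Nat.card H <
      (Fintype.card F + 1) * (Fintype.card F * (Fintype.card F - 1)) :=
    lt_of_not_ge fun hle => hH (eq_top_of_d_mul hle)
  rcases subgroup_cases p H with ⟨w, hw⟩ | ⟨N, n, hN, hle⟩ | h | h | h | ⟨T, hT⟩
  · rw [← d_mul_card_stabilizer w]
    exact Nat.mul_le_mul_left _ (Subgroup.card_le_of_le hw)
  · have hHN : Nat.card H ≤ 2 * n := card_torusNorm hN ▸ Subgroup.card_le_of_le hle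
    have h4 : 4 * (Fintype.card F - 1) ≤ Fintype.card F * (Fintype.card F - 1) :=
      Nat.mul_le_mul_right _ (by omega)
    obtain ⟨-, -, -, hn | hn⟩ := hN <;>
      calc Nat.gcd 2 (Fintype.card F - 1) * Nat.card H
          ≤ Nat.gcd 2 (Fintype.card F - 1) * (2 * n) := Nat.mul_le_mul_left _ hHN
        _ = 2 * (Nat.gcd 2 (Fintype.card F - 1) * n) := by ring
        _ ≤ _ := by rw [hn]; omega
  · obtain ⟨e⟩ := h
    have hc : Nat.card H = 12 := (Nat.card_congr e.toEquiv).trans card_A4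
    rw [hc] at hdvd hne ⊢
    rcases hd with ⟨hd, he⟩ | ⟨hd, he⟩ <;> rw [hd] at hdvd hne ⊢
    · have : 4 * (Fintype.card F - 1) ≤ Fintype.card F * (Fintype.card F - 1) :=
        Nat.mul_le_mul_right _ (by omega)
      omega
    · have : 13 * (Fintype.card F - 1) ≤ Fintype.card F * (Fintype.card F - 1) :=
        Nat.mul_le_mul_right _ (by omega)
      omega
  · obtain ⟨e⟩ := h
    have hc : Nat.card H = 24 := (Nat.card_congr e.toEquiv).trans card_S4
    rw [hc] at hdvd hne ⊢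
    rcases hd with ⟨hd, he⟩ | ⟨hd, he⟩ <;> rw [hd] at hdvd hne ⊢
    · by_cases h8 : 8 ≤ Fintype.card F
      · have : 8 * (Fintype.card F - 1) ≤ Fintype.card F * (Fintype.card F - 1) :=
          Nat.mul_le_mul_right _ h8
        omega
      · obtain hq4 | hq6 : Fintype.card F = 4 ∨ Fintype.card F = 6 := by omega
        · rw [hq4] at hdvd; norm_num at hdvd
        · rw [hq6] at hdvd; norm_num at hdvd
    · have : 13 * (Fintype.card F - 1) ≤ Fintype.card F * (Fintype.card F - 1) :=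
        Nat.mul_le_mul_right _ (by omega)
      omega
  · obtain ⟨e⟩ := h
    have hc : Nat.card H = 60 := (Nat.card_congr e.toEquiv).trans card_A5
    rw [hc] at hdvd hne ⊢
    rcases hd with ⟨hd, he⟩ | ⟨hd, he⟩ <;> rw [hd] at hdvd hne ⊢
    · by_cases h8 : 12 ≤ Fintype.card F
      · have : 12 * (Fintype.card F - 1) ≤ Fintype.card F * (Fintype.card F - 1) :=
          Nat.mul_le_mul_right _ h8
        omega
      · obtain hq | hq | hq | hq : Fintype.card F = 4 ∨ Fintype.card F = 6 ∨ Fintype.card F = 8 ∨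
            Fintype.card F = 10 := by omega
        all_goals (rw [hq] at hdvd hne; first | (norm_num at hdvd; done) | (norm_num at hne; done) | omega)
    · have : 13 * (Fintype.card F - 1) ≤ Fintype.card F * (Fintype.card F - 1) :=
        Nat.mul_le_mul_right _ (by omega)
      omega
  · obtain ⟨m, -, -, ht⟩ := big_proper hT hH
    have ht3 := hT.1
    calc Nat.gcd 2 (Fintype.card F - 1) * Nat.card H
        ≤ 2 * (Nat.card T * (Nat.card T ^ 2 - 1)) :=
          Nat.mul_le_mul (Nat.le_of_dvd two_pos (Nat.gcd_dvd_left _ _)) (card_big_le hT)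
      _ ≤ Nat.card T ^ 2 * (Nat.card T ^ 2 - 1) := by
          rw [← mul_assoc]; exact Nat.mul_le_mul_right _ (by nlinarith)
      _ ≤ Fintype.card F * (Fintype.card F - 1) := Nat.mul_le_mul ht (by omega)

theorem isCoatom_torus_plus (h2 : Fintype.card F ≠ 2) (h7 : Fintype.card F ≠ 7)
    (h9 : Fintype.card F ≠ 9) {N : Subgroup (PSL2 F)} {n : ℕ} (hN : IsTorusNorm N n)
    (hn : Nat.gcd 2 (Fintype.card F - 1) * n = Fintype.card F + 1) : IsCoatom N := by
  obtain ⟨p, hp⟩ := CharP.exists F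
  obtain ⟨f, hpp, -⟩ := FiniteField.card F p
  haveI := Fact.mk hpp
  have h1 := Fintype.one_lt_card (α := F)
  have hd := d_even_or_odd (F := F)
  refine ⟨fun htop => ?_, fun K hK => ?_⟩
  · have := card_psl_eq (F := F)
    rw [← Subgroup.card_top (G := PSL2 F), ← htop, card_torusNorm hN, mul_left_comm, hn,
      mul_comm 2] at this
    have h4 : 3 * 2 ≤ Fintype.card F * (Fintype.card F - 1) := Nat.mul_le_mul (by omega) (by omega)
    have := Nat.eq_of_mul_eq_mul_left (by omega) this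
    omega
  by_contra hKtop
  have hcK : 2 * n ∣ Nat.card K := card_torusNorm hN ▸ Subgroup.card_dvd_of_le hK.le
  obtain ⟨g, hgN, hg⟩ := exists_orderOf_torusNorm hN
  have hdvd := d_mul_card_dvd K
  have hne : Nat.gcd 2 (Fintype.card F - 1) * Nat.card K <
      (Fintype.card F + 1) * (Fintype.card F * (Fintype.card F - 1)) :=
    lt_of_not_ge fun hle => hKtop (eq_top_of_d_mul hle)
  rcases subgroup_cases p K with ⟨w, hw⟩ | ⟨N', m, hN', hle⟩ | h | h | h | ⟨T, hT⟩
  · obtain ⟨h, hh, hne⟩ := hN.2.2.1 w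
    exact hne (hw (hK.le hh))
  · have h2n : 2 * n ∣ 2 * m := hcK.trans (card_torusNorm hN' ▸ Subgroup.card_dvd_of_le hle)
    have hdn := Nat.mul_dvd_mul_left (Nat.gcd 2 (Fintype.card F - 1))
      (Nat.dvd_of_mul_dvd_mul_left two_pos h2n)
    obtain ⟨-, hiso', -, hm | hm⟩ := hN'
    · rw [hn, hm] at hdn
      have := Nat.le_of_dvd (by omega) hdn
      omega
    · have e : m = n := Nat.eq_of_mul_eq_mul_left (Nat.gcd_pos_of_pos_left _ two_pos) (hm.trans hn.symm)
      have : Nat.card N' ≤ Nat.card N := by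
        obtain ⟨e'⟩ := hiso'
        rw [Nat.card_congr e'.toEquiv, DihedralGroup.nat_card, card_torusNorm hN, e]
      exact hK.not_ge (hle.trans (le_of_eq (Subgroup.eq_of_le_of_card_ge (hK.le.trans hle) this).symm))
  · have ho := orderOf_A4 h (hK.le hgN)
    obtain ⟨e⟩ := h
    rw [(Nat.card_congr e.toEquiv).trans card_A4] at hcK hdvd hne
    rw [hg] at ho
    have hn3 : n ≤ 3 := by rcases ho with ho | ho <;> have := Nat.le_of_dvd (by omega) ho <;> omega
    rcases hd with ⟨hd, he⟩ | ⟨hd, he⟩ <;> rw [hd] at hn hdvd hne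
    · omega
    · obtain hq | hq : Fintype.card F = 3 ∨ Fintype.card F = 5 := by omega
      · rw [hq] at hne; norm_num at hne
      · obtain rfl : n = 3 := by omega
        exact not_dihedral_three_le_A4 hN.2.1 ⟨e⟩ hK.le
  · have ho := orderOf_S4 h (hK.le hgN)
    obtain ⟨e⟩ := h
    rw [(Nat.card_congr e.toEquiv).trans card_S4] at hcK hdvd hne
    rw [hg] at ho
    have hn4 : n ≤ 4 := by rcases ho with ho | ho <;> have := Nat.le_of_dvd (by omega) ho <;> omega
    rcases hd with ⟨hd, he⟩ | ⟨hd, he⟩ <;> rw [hd] at hn hdvd hne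
    · omega
    · obtain hq | hq : Fintype.card F = 3 ∨ Fintype.card F = 5 := by omega
      all_goals rw [hq] at hdvd; norm_num at hdvd
  · have ho := orderOf_A5 h (hK.le hgN)
    obtain ⟨e⟩ := h
    rw [(Nat.card_congr e.toEquiv).trans card_A5] at hcK hdvd hne
    rw [hg] at ho
    have hn5 : n ≤ 5 := by
      rcases ho with ho | ho | ho <;> have := Nat.le_of_dvd (by omega) ho <;> omega
    rcases hd with ⟨hd, he⟩ | ⟨hd, he⟩ <;> rw [hd] at hn hdvd hne
    · obtain hq : Fintype.card F = 4 := by omega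
      rw [hq] at hne; norm_num at hne
    · obtain hq | hq : Fintype.card F = 3 ∨ Fintype.card F = 5 := by omega
      all_goals (rw [hq] at hdvd hne; first | (norm_num at hdvd; done) | (norm_num at hne; done) | omega)
  · obtain ⟨m, -, -, ht⟩ := big_proper hT hKtop
    have hnt : n ≤ Nat.card T + 1 := hg ▸ hT.2.2.2.1 g (hK.le hgN)
    have ht3 := hT.1
    have h4 : Fintype.card F + 1 ≤ 2 * (Nat.card T + 1) := by
      rw [← hn]; exact Nat.mul_le_mul (Nat.le_of_dvd two_pos (Nat.gcd_dvd_left _ _)) hnt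
    nlinarith

theorem isCoatom_torus_minus (hq : Fintype.card F ∉ ({2, 3, 5, 7, 9, 11} : Finset ℕ))
    {N : Subgroup (PSL2 F)} {n : ℕ} (hN : IsTorusNorm N n)
    (hn : Nat.gcd 2 (Fintype.card F - 1) * n = Fintype.card F - 1) : IsCoatom N := by
  obtain ⟨p, hp⟩ := CharP.exists F
  obtain ⟨f, hpp, -⟩ := FiniteField.card F p
  haveI := Fact.mk hpp
  simp only [Finset.mem_insert, Finset.mem_singleton, not_or] at hq
  obtain ⟨h2, h3, h5, h7, h9, h11⟩ := hq
  have h1 := Fintype.one_lt_card (α := F)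
  have hd := d_even_or_odd (F := F)
  refine ⟨fun htop => ?_, fun K hK => ?_⟩
  · have := card_psl_eq (F := F)
    rw [← Subgroup.card_top (G := PSL2 F), ← htop, card_torusNorm hN, mul_left_comm, hn,
      ← mul_assoc] at this
    have h4 : 5 * 4 ≤ (Fintype.card F + 1) * Fintype.card F := Nat.mul_le_mul (by omega) (by omega)
    have := Nat.eq_of_mul_eq_mul_right (by omega) this
    omega
  by_contra hKtop
  have hcK : 2 * n ∣ Nat.card K := card_torusNorm hN ▸ Subgroup.card_dvd_of_le hK.le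
  obtain ⟨g, hgN, hg⟩ := exists_orderOf_torusNorm hN
  have hdvd := d_mul_card_dvd K
  have hne : Nat.gcd 2 (Fintype.card F - 1) * Nat.card K <
      (Fintype.card F + 1) * (Fintype.card F * (Fintype.card F - 1)) :=
    lt_of_not_ge fun hle => hKtop (eq_top_of_d_mul hle)
  rcases subgroup_cases p K with ⟨w, hw⟩ | ⟨N', m, hN', hle⟩ | h | h | h | ⟨T, hT⟩
  · obtain ⟨h, hh, hne⟩ := hN.2.2.1 w
    exact hne (hw (hK.le hh))
  · have h2n : 2 * n ∣ 2 * m := hcK.trans (card_torusNorm hN' ▸ Subgroup.card_dvd_of_le hle)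
    have hdn := Nat.mul_dvd_mul_left (Nat.gcd 2 (Fintype.card F - 1))
      (Nat.dvd_of_mul_dvd_mul_left two_pos h2n)
    obtain ⟨-, hiso', -, hm | hm⟩ := hN'
    · have e : m = n := Nat.eq_of_mul_eq_mul_left (Nat.gcd_pos_of_pos_left _ two_pos) (hm.trans hn.symm)
      have : Nat.card N' ≤ Nat.card N := by
        obtain ⟨e'⟩ := hiso'
        rw [Nat.card_congr e'.toEquiv, DihedralGroup.nat_card, card_torusNorm hN, e]
      exact hK.not_ge (hle.trans (le_of_eq (Subgroup.eq_of_le_of_card_ge (hK.le.trans hle) this).symm))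
    · rw [hn, hm] at hdn
      have h6 := Nat.dvd_sub hdn (dvd_refl (Fintype.card F - 1))
      rw [show Fintype.card F + 1 - (Fintype.card F - 1) = 2 by omega] at h6
      have := Nat.le_of_dvd two_pos h6
      omega
  · have ho := orderOf_A4 h (hK.le hgN)
    obtain ⟨e⟩ := h
    rw [hg] at ho
    have hn3 : n ≤ 3 := by rcases ho with ho | ho <;> have := Nat.le_of_dvd (by omega) ho <;> omega
    rcases hd with ⟨hd, he⟩ | ⟨hd, he⟩ <;> rw [hd] at hn
    · obtain rfl : n = 3 := by omega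
      exact not_dihedral_three_le_A4 hN.2.1 ⟨e⟩ hK.le
    · omega
  · have ho := orderOf_S4 h (hK.le hgN)
    obtain ⟨e⟩ := h
    rw [(Nat.card_congr e.toEquiv).trans card_S4] at hdvd
    rw [hg] at ho
    have hn4 : n ≤ 4 := by rcases ho with ho | ho <;> have := Nat.le_of_dvd (by omega) ho <;> omega
    rcases hd with ⟨hd, he⟩ | ⟨hd, he⟩ <;> rw [hd] at hn hdvd
    · have hq : Fintype.card F = 4 := by omega
      rw [hq] at hdvd; norm_num at hdvd
    · omega
  · have ho := orderOf_A5 h (hK.le hgN)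
    obtain ⟨e⟩ := h
    rw [(Nat.card_congr e.toEquiv).trans card_A5] at hdvd hne
    rw [hg] at ho
    have hn5 : n ≤ 5 := by
      rcases ho with ho | ho | ho <;> have := Nat.le_of_dvd (by omega) ho <;> omega
    rcases hd with ⟨hd, he⟩ | ⟨hd, he⟩ <;> rw [hd] at hn hdvd hne
    · obtain hq | hq : Fintype.card F = 4 ∨ Fintype.card F = 6 := by omega
      all_goals (rw [hq] at hdvd hne; first | (norm_num at hdvd; done) | (norm_num at hne; done) | omega)
    · omega
  · obtain ⟨m, -, -, ht⟩ := big_proper hT hKtop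
    have hnt : n ≤ Nat.card T + 1 := hg ▸ hT.2.2.2.1 g (hK.le hgN)
    have ht3 := hT.1
    rcases hd with ⟨hd, he⟩ | ⟨hd, he⟩ <;> rw [hd] at hn
    · nlinarith [hn, Nat.sub_add_cancel h1.le]
    · have : Nat.card T ≤ 3 := by nlinarith [hn, Nat.sub_add_cancel h1.le]
      omega

end Cfsg.Agent.Dickson
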