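import Cfsg.Agent.Lib.Dickson.Conjugate

/-!
Traces of lifts of elements of small order, and conjugation of `A₄`, `S₄`, `A₅` into subfield
subgroups.
-/

set_option autoImplicit false
set_option linter.unusedSectionVars false

namespace Cfsg.Agent.Dickson

open Matrix
open scoped MatrixGroups

variable {F : Type*} [Field F] [Fintype F]

theorem str_neg (A : SL(2, F)) : str (-A) = - str A := by
  simp [str, Matrix.SpecialLinearGroup.coe_neg]

theorem step_mul (A : SL(2, F)) (a b : F) :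
    (a • (A : Matrix (Fin 2) (Fin 2) F) + b • 1) * A =
      (a * str A + b) • (A : Matrix (Fin 2) (Fin 2) F) + (-a) • 1 := by
  rw [add_mul, Matrix.smul_mul, Matrix.smul_mul, sl_sq, Matrix.one_mul]
  module

theorem coeff_eq_zero {A : SL(2, F)} (hA : (QuotientGroup.mk A : PSL2 F) ≠ 1) {n : ℕ} {a b : F}
    (hn : (QuotientGroup.mk A : PSL2 F) ^ n = 1)
    (h : (A : Matrix (Fin 2) (Fin 2) F) ^ n = a • (A : Matrix (Fin 2) (Fin 2) F) + b • 1) :
    a = 0 ∧ (b = 1 ∨ b = -1) := by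
  rw [← QuotientGroup.mk_pow, SL2Tor.psl_mk_eq_one_iff] at hn
  have h' : ((A ^ n : SL(2, F)) : Matrix (Fin 2) (Fin 2) F) = a • (A : Matrix (Fin 2) (Fin 2) F) + b • 1 := by
    rw [Matrix.SpecialLinearGroup.coe_pow, h]
  have hsc := hn
  rw [h'] at hsc
  obtain ⟨h01, h10, hd⟩ := hsc
  simp at h01 h10 hd
  have ha : a = 0 := by
    by_contra ha
    exact hA ((SL2Tor.psl_mk_eq_one_iff A).mpr
      ⟨h01.resolve_left ha, h10.resolve_left ha, hd.resolve_right ha⟩)
  refine ⟨ha, ?_⟩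
  rw [ha, zero_smul, zero_add] at h'
  rcases eq_or_eq_neg_of_isScalar hn with e | e <;> rw [e] at h'
  · left
    have := congrArg (fun M : Matrix (Fin 2) (Fin 2) F => M 0 0) h'
    simpa using this.symm
  · right
    have := congrArg (fun M : Matrix (Fin 2) (Fin 2) F => M 0 0) h'
    simpa using this.symm

theorem mk_pow_of_orderOf {g : PSL2 F} {n : ℕ} (h : orderOf g = n) (A : SL(2, F))
    (hA : QuotientGroup.mk A = g) (hn : 2 ≤ n) :
    (QuotientGroup.mk A : PSL2 F) ≠ 1 ∧ (QuotientGroup.mk A : PSL2 F) ^ n = 1 := by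
  subst hA
  exact ⟨fun e => by rw [e, orderOf_one] at h; omega, h ▸ pow_orderOf_eq_one _⟩

theorem lift_two {g : PSL2 F} (h : orderOf g = 2) :
    ∃ A : SL(2, F), QuotientGroup.mk A = g ∧ str A = 0 := by
  obtain ⟨A, hA⟩ := QuotientGroup.mk_surjective g
  obtain ⟨h1, h2⟩ := mk_pow_of_orderOf h A hA le_rfl
  refine ⟨A, hA, (coeff_eq_zero h1 h2 (b := -1) ?_).1⟩
  rw [pow_two, sl_sq]; module

theorem lift_three {g : PSL2 F} (h : orderOf g = 3) :
    ∃ A : SL(2, F), QuotientGroup.mk A = g ∧ str A = -1 := by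
  obtain ⟨A, hA⟩ := QuotientGroup.mk_surjective g
  obtain ⟨h1, h2⟩ := mk_pow_of_orderOf h A hA (by norm_num)
  have h3 : str A ^ 2 - 1 = 0 := (coeff_eq_zero h1 h2 (b := - str A) (by
    rw [pow_succ, pow_two, sl_sq, sub_mul, Matrix.smul_mul, sl_sq, Matrix.one_mul]; module)).1
  rcases sq_eq_one_iff.mp (sub_eq_zero.mp h3) with e | e
  · exact ⟨-A, by rw [SL2Tor.psl_mk_neg, hA], by rw [str_neg, e]⟩
  · exact ⟨A, hA, e⟩

theorem lift_four {g : PSL2 F} (h : orderOf g = 4) :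
    ∃ A : SL(2, F), QuotientGroup.mk A = g ∧ str A ^ 2 = 2 := by
  obtain ⟨A, hA⟩ := QuotientGroup.mk_surjective g
  obtain ⟨h1, h2⟩ := mk_pow_of_orderOf h A hA (by norm_num)
  have h3 : str A * (str A ^ 2 - 2) = 0 := (coeff_eq_zero h1 h2 (b := 1 - str A ^ 2) (by
    rw [show (A : Matrix (Fin 2) (Fin 2) F) ^ 4 =
      (((1 : F) • (A : Matrix (Fin 2) (Fin 2) F) + (0 : F) • 1) * A * A * A) by
        simp only [one_smul, zero_smul, add_zero, pow_succ, pow_zero, one_mul],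
      step_mul, step_mul, step_mul]
    module)).1
  refine ⟨A, hA, sub_eq_zero.mp ((mul_eq_zero.mp h3).resolve_left fun h0 => ?_)⟩
  have h2' : (QuotientGroup.mk A : PSL2 F) ^ 2 = 1 :=
    SL2Tor.psl_pow_eq_one_of_eq_smul A 2 (-1) (by rw [pow_two, sl_sq, h0]; module)
  rw [hA] at h2'
  have := orderOf_dvd_of_pow_eq_one h2'
  rw [h] at this
  omega

theorem lift_five {g : PSL2 F} (h : orderOf g = 5) :
    ∃ A : SL(2, F), QuotientGroup.mk A = g ∧ str A ^ 2 = str A + 1 := by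
  obtain ⟨A, hA⟩ := QuotientGroup.mk_surjective g
  obtain ⟨h1, h2⟩ := mk_pow_of_orderOf h A hA (by norm_num)
  have h3 : str A ^ 4 - 3 * str A ^ 2 + 1 = 0 := (coeff_eq_zero h1 h2 (b := 2 * str A - str A ^ 3) (by
    rw [show (A : Matrix (Fin 2) (Fin 2) F) ^ 5 =
      (((1 : F) • (A : Matrix (Fin 2) (Fin 2) F) + (0 : F) • 1) * A * A * A * A) by
        simp only [one_smul, zero_smul, add_zero, pow_succ, pow_zero, one_mul],
      step_mul, step_mul, step_mul, step_mul]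
    module)).1
  have : (str A ^ 2 - str A - 1) * (str A ^ 2 + str A - 1) = 0 := by linear_combination h3
  rcases mul_eq_zero.mp this with e | e
  · exact ⟨A, hA, by linear_combination e⟩
  · exact ⟨-A, by rw [SL2Tor.psl_mk_neg, hA], by rw [str_neg]; linear_combination e⟩

/-- Lifts of `a`, `b` and their product. -/
theorem lift_triple {a b : PSL2 F} (ha : orderOf a = 2) {y w : SL(2, F)} (hy : QuotientGroup.mk y = b)
    (hw : QuotientGroup.mk w = a * b) :
    ∃ x : SL(2, F), QuotientGroup.mk x = a ∧ str x = 0 ∧ str (x * y) = str w := by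
  obtain ⟨x, hx, hx0⟩ := lift_two ha
  have e : (QuotientGroup.mk (x * y) : PSL2 F) = QuotientGroup.mk w := by
    rw [QuotientGroup.mk_mul, hx, hy, hw]
  rcases mk_eq_mk_iff.mp e with e | e
  · exact ⟨x, hx, hx0, by rw [e]⟩
  · refine ⟨-x, by rw [SL2Tor.psl_mk_neg, hx], by rw [str_neg, hx0, neg_zero], ?_⟩
    rw [neg_mul, e, neg_neg]

theorem gen_A4_words : ∀ g : alternatingGroup (Fin 4), ∃ i j : Fin 3,
    (g : Equiv.Perm (Fin 4)) = (Equiv.swap 0 1 * Equiv.swap 1 2) ^ (i : ℕ) ∨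
    (g : Equiv.Perm (Fin 4)) = (Equiv.swap 0 1 * Equiv.swap 1 2) ^ (i : ℕ) *
      (Equiv.swap 0 1 * Equiv.swap 2 3) * (Equiv.swap 0 1 * Equiv.swap 1 2) ^ (j : ℕ) := by
  decide +kernel

theorem gen_A4 {G : Type*} [Group G] (M : Subgroup G) (h : Nonempty (M ≃* alternatingGroup (Fin 4))) :
    ∃ a b : G, a ∈ M ∧ b ∈ M ∧ orderOf a = 2 ∧ orderOf b = 3 ∧ orderOf (a * b) = 3 ∧
      ∀ S : Subgroup G, a ∈ S → b ∈ S → M ≤ S := by
  obtain ⟨e⟩ := h
  let a₀ : alternatingGroup (Fin 4) :=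
    ⟨Equiv.swap 0 1 * Equiv.swap 2 3, Equiv.Perm.mem_alternatingGroup.mpr (by decide)⟩
  let b₀ : alternatingGroup (Fin 4) :=
    ⟨Equiv.swap 0 1 * Equiv.swap 1 2, Equiv.Perm.mem_alternatingGroup.mpr (by decide)⟩
  haveI : Fact (Nat.Prime 3) := ⟨Nat.prime_three⟩
  have ho : ∀ x, orderOf (((e.symm x : M) : G)) = orderOf x := fun x => by
    rw [Subgroup.orderOf_coe, MulEquiv.orderOf_eq]
  refine ⟨(e.symm a₀ : M), (e.symm b₀ : M), SetLike.coe_mem _, SetLike.coe_mem _, ?_, ?_, ?_, ?_⟩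
  · rw [ho, ← Subgroup.orderOf_coe, orderOf_eq_prime_iff]; exact ⟨by decide, by decide⟩
  · rw [ho, ← Subgroup.orderOf_coe, orderOf_eq_prime_iff]; exact ⟨by decide, by decide⟩
  · rw [← Subgroup.coe_mul, ← map_mul, ho, ← Subgroup.orderOf_coe, orderOf_eq_prime_iff]
    exact ⟨by decide, by decide⟩
  · intro S ha hb m hm
    have key : ∀ g, ((e.symm g : M) : G) ∈ S := by
      intro g
      obtain ⟨i, j, hw | hw⟩ := gen_A4_words g
      · rw [show g = b₀ ^ (i : ℕ) from Subtype.ext hw, map_pow, Subgroup.coe_pow]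
        exact pow_mem hb _
      · rw [show g = b₀ ^ (i : ℕ) * a₀ * b₀ ^ (j : ℕ) from Subtype.ext hw, map_mul, map_mul, map_pow,
          map_pow, Subgroup.coe_mul, Subgroup.coe_mul, Subgroup.coe_pow, Subgroup.coe_pow]
        exact mul_mem (mul_mem (pow_mem hb _) ha) (pow_mem hb _)
    have := key (e ⟨m, hm⟩)
    rwa [MulEquiv.symm_apply_apply] at this

theorem gen_S4 {G : Type*} [Group G] (M : Subgroup G) (h : Nonempty (M ≃* Equiv.Perm (Fin 4))) :
    ∃ a b : G, a ∈ M ∧ b ∈ M ∧ orderOf a = 2 ∧ orderOf b = 3 ∧ orderOf (a * b) = 4 ∧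
      ∀ S : Subgroup G, a ∈ S → b ∈ S → M ≤ S := by
  obtain ⟨e⟩ := h
  let a₀ : Equiv.Perm (Fin 4) := Equiv.swap 0 1
  let b₀ : Equiv.Perm (Fin 4) := Equiv.swap 1 2 * Equiv.swap 2 3
  haveI : Fact (Nat.Prime 2) := ⟨Nat.prime_two⟩
  haveI : Fact (Nat.Prime 3) := ⟨Nat.prime_three⟩
  have ho : ∀ x, orderOf (((e.symm x : M) : G)) = orderOf x := fun x => by
    rw [Subgroup.orderOf_coe, MulEquiv.orderOf_eq]
  have hb₀ : orderOf b₀ = 3 := orderOf_eq_prime (by decide) (by decide)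
  have hab₀ : orderOf (a₀ * b₀) = 4 :=
    orderOf_eq_prime_pow (p := 2) (n := 1) (by decide) (by decide)
  refine ⟨(e.symm a₀ : M), (e.symm b₀ : M), SetLike.coe_mem _, SetLike.coe_mem _, ?_, ?_, ?_, ?_⟩
  · rw [ho]; exact orderOf_eq_prime (by decide) (by decide)
  · rw [ho, hb₀]
  · rw [← Subgroup.coe_mul, ← map_mul, ho, hab₀]
  · intro S ha hb m hm
    let R : Subgroup (Equiv.Perm (Fin 4)) := S.comap (M.subtype.comp e.symm.toMonoidHom)
    have haR : a₀ ∈ R := ha
    have hbR : b₀ ∈ R := hb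
    suffices hR : R = ⊤ by
      have : e ⟨m, hm⟩ ∈ R := hR ▸ Subgroup.mem_top _
      have h' : ((e.symm (e ⟨m, hm⟩) : M) : G) ∈ S := this
      rwa [MulEquiv.symm_apply_apply] at h'
    have h3 : 3 ∣ Nat.card R := (dvd_of_eq hb₀.symm).trans (Subgroup.orderOf_dvd_natCard R hbR)
    have h4 : 4 ∣ Nat.card R := (dvd_of_eq hab₀.symm).trans (Subgroup.orderOf_dvd_natCard R (mul_mem haR hbR))
    have h12 : 12 ∣ Nat.card R := Nat.Coprime.mul_dvd_of_dvd_of_dvd (by norm_num : Nat.Coprime 3 4) h3 h4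
    have hidx : Nat.card R * R.index = 24 := by rw [Subgroup.card_mul_index, card_S4]
    obtain ⟨j, hj⟩ := h12
    rcases Nat.lt_or_ge R.index 2 with hlt | hge
    · exact Subgroup.index_eq_one.mp (by
        have := Subgroup.index_ne_zero_of_finite (H := R)
        omega)
    · exfalso
      have : R.index = 2 := by
        have : j * R.index = 2 := by rw [hj] at hidx; linarith
        exact le_antisymm (Nat.le_of_dvd two_pos ⟨j, by rw [← this, mul_comm]⟩) hge
      have hR := Equiv.Perm.eq_alternatingGroup_of_index_eq_two this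
      rw [hR, Equiv.Perm.mem_alternatingGroup] at haR
      exact absurd haR (by decide)

theorem gen_A5 {G : Type*} [Group G] (M : Subgroup G) (h : Nonempty (M ≃* alternatingGroup (Fin 5))) :
    ∃ a b : G, a ∈ M ∧ b ∈ M ∧ orderOf a = 2 ∧ orderOf b = 5 ∧ orderOf (a * b) = 3 ∧
      ∀ S : Subgroup G, a ∈ S → b ∈ S → M ≤ S := by
  obtain ⟨e⟩ := h
  let a₀ : alternatingGroup (Fin 5) :=
    ⟨Equiv.swap 0 1 * Equiv.swap 2 3, Equiv.Perm.mem_alternatingGroup.mpr (by decide)⟩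
  let b₀ : alternatingGroup (Fin 5) :=
    ⟨finRotate 5, Equiv.Perm.mem_alternatingGroup.mpr (by decide)⟩
  haveI : Fact (Nat.Prime 3) := ⟨Nat.prime_three⟩
  haveI : Fact (Nat.Prime 5) := ⟨by norm_num⟩
  have ho : ∀ x, orderOf (((e.symm x : M) : G)) = orderOf x := fun x => by
    rw [Subgroup.orderOf_coe, MulEquiv.orderOf_eq]
  have ha₀ : orderOf a₀ = 2 := by
    rw [← Subgroup.orderOf_coe, orderOf_eq_prime_iff]; exact ⟨by decide, by decide⟩
  have hb₀ : orderOf b₀ = 5 := by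
    rw [← Subgroup.orderOf_coe, orderOf_eq_prime_iff]; exact ⟨by decide, by decide⟩
  have hab₀ : orderOf (a₀ * b₀) = 3 := by
    rw [← Subgroup.orderOf_coe, orderOf_eq_prime_iff]; exact ⟨by decide, by decide⟩
  refine ⟨(e.symm a₀ : M), (e.symm b₀ : M), SetLike.coe_mem _, SetLike.coe_mem _, by rw [ho, ha₀],
    by rw [ho, hb₀], by rw [← Subgroup.coe_mul, ← map_mul, ho, hab₀], ?_⟩
  intro S ha hb m hm
  let R : Subgroup (alternatingGroup (Fin 5)) := S.comap (M.subtype.comp e.symm.toMonoidHom)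
  have haR : a₀ ∈ R := ha
  have hbR : b₀ ∈ R := hb
  suffices hR : R = ⊤ by
    have : e ⟨m, hm⟩ ∈ R := hR ▸ Subgroup.mem_top _
    have h' : ((e.symm (e ⟨m, hm⟩) : M) : G) ∈ S := this
    rwa [MulEquiv.symm_apply_apply] at h'
  have h2 : 2 ∣ Nat.card R := (dvd_of_eq ha₀.symm).trans (Subgroup.orderOf_dvd_natCard R haR)
  have h5 : 5 ∣ Nat.card R := (dvd_of_eq hb₀.symm).trans (Subgroup.orderOf_dvd_natCard R hbR)
  have h3 : 3 ∣ Nat.card R := (dvd_of_eq hab₀.symm).trans (Subgroup.orderOf_dvd_natCard R (mul_mem haR hbR))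
  have hidx : Nat.card R * R.index = 60 := by rw [Subgroup.card_mul_index, card_A5]
  obtain ⟨j, hj⟩ : 30 ∣ Nat.card R :=
    Nat.Coprime.mul_dvd_of_dvd_of_dvd (by norm_num : Nat.Coprime 6 5)
      (Nat.Coprime.mul_dvd_of_dvd_of_dvd (by norm_num : Nat.Coprime 2 3) h2 h3) h5
  rcases Nat.lt_or_ge R.index 2 with hlt | hge
  · exact Subgroup.index_eq_one.mp (by
      have := Subgroup.index_ne_zero_of_finite (H := R)
      omega)
  · exfalso
    have : R.index = 2 := by
      have : j * R.index = 2 := by rw [hj] at hidx; linarith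
      exact le_antisymm (Nat.le_of_dvd two_pos ⟨j, by rw [← this, mul_comm]⟩) hge
    have hN := Subgroup.normal_of_index_eq_two this
    rcases IsSimpleGroup.eq_bot_or_eq_top_of_normal R hN with hR | hR
    · rw [hR, Subgroup.card_bot] at hj; omega
    · rw [hR, Subgroup.index_top] at this; omega

theorem mem_of_root {T : Subfield F} {r s : F} (hr : r ∈ T) (hr2 : r ^ 2 = r + 1) (hs : s ^ 2 = s + 1) :
    s ∈ T := by
  have : (s - r) * (s + r - 1) = 0 := by linear_combination hs - hr2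
  rcases mul_eq_zero.mp this with e | e
  · rw [sub_eq_zero.mp e]; exact hr
  · rw [show s = 1 - r by linear_combination e]; exact sub_mem (one_mem _) hr

theorem A4_conj_into (h2 : (2 : F) ≠ 0) (M : Subgroup (PSL2 F))
    (h : Nonempty (M ≃* alternatingGroup (Fin 4))) (T : Subfield F) :
    ∃ D, M ≤ pullBack D (pglImage T) := by
  obtain ⟨a, b, -, -, ha, hb, hab, hgen⟩ := gen_A4 M h
  obtain ⟨y, hy, hy1⟩ := lift_three hb
  obtain ⟨w, hw, hw1⟩ := lift_three hab
  obtain ⟨x, hx, hx0, hxy⟩ := lift_triple ha hy hw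
  obtain ⟨D, h1, h1'⟩ := conj_into T h2 x y one_ne_zero hx0 (by simp [one_mem])
    (by rw [show (y : Matrix (Fin 2) (Fin 2) F).trace = -1 from hy1]; exact neg_mem (one_mem _))
    (by rw [show ((x * y : SL(2, F)) : Matrix (Fin 2) (Fin 2) F).trace = -1 from hxy.trans hw1, one_mul]
        exact neg_mem (one_mem _))
    (by
      rw [show ((x * y : SL(2, F)) : Matrix (Fin 2) (Fin 2) F).trace = -1 from hxy.trans hw1,
        show (y : Matrix (Fin 2) (Fin 2) F).trace = -1 from hy1]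
      intro e
      exact h2 (by linear_combination -e))
  exact ⟨D, hgen _ (hx ▸ h1) (hy ▸ h1')⟩

theorem S4_conj_into (h2 : (2 : F) ≠ 0) (M : Subgroup (PSL2 F))
    (h : Nonempty (M ≃* Equiv.Perm (Fin 4))) (T : Subfield F) :
    ∃ D, M ≤ pullBack D (pglImage T) := by
  obtain ⟨a, b, -, -, ha, hb, hab, hgen⟩ := gen_S4 M h
  obtain ⟨y, hy, hy1⟩ := lift_three hb
  obtain ⟨w, hw, hw1⟩ := lift_four hab
  obtain ⟨x, hx, hx0, hxy⟩ := lift_triple ha hy hw
  have h2T : (2 : F) ∈ T := by rw [← one_add_one_eq_two]; exact add_mem (one_mem _) (one_mem _)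
  obtain ⟨D, h1, h1'⟩ := conj_into T h2 x y (c := str w)
    (fun e => h2 (by rw [← hw1, e]; ring)) hx0 (by rw [hw1]; exact h2T)
    (by rw [show (y : Matrix (Fin 2) (Fin 2) F).trace = -1 from hy1]; exact neg_mem (one_mem _))
    (by rw [show ((x * y : SL(2, F)) : Matrix (Fin 2) (Fin 2) F).trace = str w from hxy, ← pow_two, hw1]
        exact h2T)
    (by
      rw [show ((x * y : SL(2, F)) : Matrix (Fin 2) (Fin 2) F).trace = str w from hxy, hw1,
        show (y : Matrix (Fin 2) (Fin 2) F).trace = -1 from hy1]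
      intro e
      exact one_ne_zero (α := F) (by linear_combination -e))
  exact ⟨D, hgen _ (hx ▸ h1) (hy ▸ h1')⟩

theorem A5_conj_into (h2 : (2 : F) ≠ 0) (M : Subgroup (PSL2 F))
    (h : Nonempty (M ≃* alternatingGroup (Fin 5))) (T : Subfield F) {r : F} (hr : r ∈ T)
    (hr2 : r ^ 2 = r + 1) :
    ∃ D, M ≤ pullBack D (pglImage T) := by
  obtain ⟨a, b, -, -, ha, hb, hab, hgen⟩ := gen_A5 M h
  obtain ⟨y, hy, hy1⟩ := lift_five hb
  obtain ⟨w, hw, hw1⟩ := lift_three hab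
  obtain ⟨x, hx, hx0, hxy⟩ := lift_triple ha hy hw
  obtain ⟨D, h1, h1'⟩ := conj_into T h2 x y one_ne_zero hx0 (by simp [one_mem])
    (mem_of_root hr hr2 hy1)
    (by rw [show ((x * y : SL(2, F)) : Matrix (Fin 2) (Fin 2) F).trace = -1 from hxy.trans hw1, one_mul]
        exact neg_mem (one_mem _))
    (by
      rw [show ((x * y : SL(2, F)) : Matrix (Fin 2) (Fin 2) F).trace = -1 from hxy.trans hw1]
      show (-1 : F) ^ 2 + str y ^ 2 ≠ 4
      intro e
      have hy2 : str y = 2 := by linear_combination e - hy1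
      rw [hy2] at hy1
      exact one_ne_zero (α := F) (by linear_combination hy1))
  exact ⟨D, hgen _ (hx ▸ h1) (hy ▸ h1')⟩

theorem A5_conj_into_two [CharP F 2] (M : Subgroup (PSL2 F))
    (h : Nonempty (M ≃* alternatingGroup (Fin 5))) (T : Subfield F) {r : F} (hr : r ∈ T)
    (hr2 : r ^ 2 = r + 1) :
    ∃ D, M ≤ pullBack D (pglImage T) := by
  obtain ⟨a, b, -, -, ha, hb, hab, hgen⟩ := gen_A5 M h
  obtain ⟨y, hy, hy1⟩ := lift_five hb
  obtain ⟨w, hw, hw1⟩ := lift_three hab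
  obtain ⟨x, hx, hx0, hxy⟩ := lift_triple ha hy hw
  have h20 : (2 : F) = 0 := CharTwo.two_eq_zero
  have hsT : str y ∈ T := mem_of_root hr hr2 hy1
  obtain ⟨c, hc⟩ : ∃ c : T, (c : F) = 1 - str y := ⟨⟨_, sub_mem (one_mem _) hsT⟩, rfl⟩
  have hc0 : c ≠ 0 := fun e => by
    have e' : str y = 1 := by rw [e, ZeroMemClass.coe_zero] at hc; linear_combination hc
    rw [e'] at hy1
    exact one_ne_zero (α := F) (by linear_combination -hy1)
  have hX : (!![1, 1; 0, 1] : Matrix (Fin 2) (Fin 2) T).det = 1 := by simp [det_fin_two_of]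
  have hY : (!![0, -c⁻¹; c, ⟨str y, hsT⟩] : Matrix (Fin 2) (Fin 2) T).det = 1 := by
    simp [det_fin_two_of, hc0]
  let X' := GeneralLinearGroup.map (n := Fin 2) T.subtype
    (GeneralLinearGroup.mkOfDetNeZero _ (hX.trans_ne one_ne_zero))
  let Y' := GeneralLinearGroup.map (n := Fin 2) T.subtype
    (GeneralLinearGroup.mkOfDetNeZero _ (hY.trans_ne one_ne_zero))
  obtain ⟨D, h1, h1'⟩ := conj_into_gen (pglImage T) x y one_ne_zero X' Y'
    ⟨_, ProjGenLinGroup.map_mk _ _⟩ ⟨_, ProjGenLinGroup.map_mk _ _⟩ (by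
      show _ = (1 : F) * str x
      rw [hx0]
      simp [X', trace_fin_two, GeneralLinearGroup.mkOfDetNeZero, GeneralLinearGroup.map]
      linear_combination h20) (by
      simp [X', det_fin_two, GeneralLinearGroup.mkOfDetNeZero, GeneralLinearGroup.map]) (by
      show _ = str y
      simp [Y', trace_fin_two, GeneralLinearGroup.mkOfDetNeZero, GeneralLinearGroup.map]) (by
      have : (c : F) ≠ 0 := fun e => hc0 (Subtype.ext e)
      simp [Y', det_fin_two, GeneralLinearGroup.mkOfDetNeZero, GeneralLinearGroup.map, this]) (by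
      show _ = (1 : F) * str (x * y)
      rw [hxy, hw1]
      simp [X', Y', trace_fin_two, Matrix.mul_apply, Fin.sum_univ_two,
        GeneralLinearGroup.mkOfDetNeZero, GeneralLinearGroup.map, hc]
      linear_combination h20) (by
      show str (x * y) ^ 2 - str x * str y * str (x * y) + str x ^ 2 + str y ^ 2 ≠ 4
      rw [hx0, hxy, hw1]
      intro e
      have hy0 : str y = 0 := by linear_combination e - hy1 + h20
      rw [hy0] at hy1
      exact one_ne_zero (α := F) (by linear_combination -hy1))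
  exact ⟨D, hgen _ (hx ▸ h1) (hy ▸ h1')⟩

/-- An `A₄` lies in a conjugate of any subgroup containing an `A₄`. -/
theorem A4_le_conj (h2 : (2 : F) ≠ 0) (M X K : Subgroup (PSL2 F))
    (hM : Nonempty (M ≃* alternatingGroup (Fin 4))) (hX : Nonempty (X ≃* alternatingGroup (Fin 4)))
    (hXK : X ≤ K) : ∃ K' : Subgroup (PSL2 F), M ≤ K' ∧ Nat.card K' = Nat.card K := by
  obtain ⟨a, b, -, -, ha, hb, hab, hgen⟩ := gen_A4 M hM
  obtain ⟨y, hy, hy1⟩ := lift_three hb
  obtain ⟨w, hw, hw1⟩ := lift_three hab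
  obtain ⟨x, hx, hx0, hxy⟩ := lift_triple ha hy hw
  obtain ⟨a', b', haX, hbX, ha', hb', hab', -⟩ := gen_A4 X hX
  obtain ⟨y', hy', hy1'⟩ := lift_three hb'
  obtain ⟨w', hw', hw1'⟩ := lift_three hab'
  obtain ⟨x', hx', hx0', hxy'⟩ := lift_triple ha' hy' hw'
  obtain ⟨D, h1, h1'⟩ := conj_into_gen (K.map (toP F)) x y one_ne_zero
    (Matrix.SpecialLinearGroup.toGL x') (Matrix.SpecialLinearGroup.toGL y')
    ⟨_, hXK (hx'.symm ▸ haX), rfl⟩ ⟨_, hXK (hy'.symm ▸ hbX), rfl⟩
    (by show str x' = 1 * str x; rw [hx0, hx0', mul_zero])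
    (by show (x' : Matrix (Fin 2) (Fin 2) F).det = 1 ^ 2; rw [x'.2, one_pow])
    (by show str y' = str y; rw [hy1, hy1'])
    y'.2
    (by
      show ((x' : Matrix (Fin 2) (Fin 2) F) * (y' : Matrix (Fin 2) (Fin 2) F)).trace = 1 * str (x * y)
      rw [← Matrix.SpecialLinearGroup.coe_mul, one_mul, hxy, hw1]
      exact hxy'.trans hw1')
    (by
      show str (x * y) ^ 2 - str x * str y * str (x * y) + str x ^ 2 + str y ^ 2 ≠ 4
      rw [hx0, hxy, hw1, hy1]
      intro e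
      exact h2 (by linear_combination -e))
  refine ⟨_, hgen _ (hx ▸ h1) (hy ▸ h1'), ?_⟩
  obtain ⟨e⟩ := exists_pullBack_equiv D (S := K.map (toP F)) (Subgroup.map_le_range _ _)
  rw [Nat.card_congr e.toEquiv, Subgroup.card_map_of_injective toP_injective]

/-- `S₄` and `A₅` contain `A₄`. -/
theorem exists_A4_in {K : Subgroup (PSL2 F)}
    (h : Nonempty (K ≃* Equiv.Perm (Fin 4)) ∨ Nonempty (K ≃* alternatingGroup (Fin 5))) :
    ∃ X : Subgroup (PSL2 F), X ≤ K ∧ Nonempty (X ≃* alternatingGroup (Fin 4)) := by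
  obtain ⟨φ, hφ⟩ : ∃ φ : alternatingGroup (Fin 4) →* K, Function.Injective φ := by
    rcases h with h | h <;> obtain ⟨e⟩ := h
    · exact ⟨e.symm.toMonoidHom.comp (alternatingGroup (Fin 4)).subtype,
        e.symm.injective.comp Subtype.val_injective⟩
    · exact ⟨e.symm.toMonoidHom.comp alt4to5, e.symm.injective.comp alt4to5_injective⟩
  refine ⟨(K.subtype.comp φ).range, ?_, ⟨(MonoidHom.ofInjective (f := K.subtype.comp φ)
    (Subtype.val_injective.comp hφ)).symm⟩⟩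
  rintro _ ⟨g, rfl⟩
  exact (φ g).2

end Cfsg.Agent.Dickson
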