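import Mathlib

/-!
Finite groups acting so that every non-identity element fixes one or two points: the counting
equation behind Dickson's list.
-/

set_option autoImplicit false
set_option linter.unusedSectionVars false

namespace Cfsg.Agent.Dickson

open MulAction Finset

variable {G X : Type*} [Group G] [MulAction G X]

/-- `g` is the identity or fixes `w` and nothing else. -/
def IsUni (w : X) (g : G) : Prop := g = 1 ∨ ∀ v : X, g • v = v ↔ v = w

/-- The hypotheses satisfied by subgroups of `PSL₂(k)` acting on the projective line. -/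
structure Sharp (G X : Type*) [Group G] [MulAction G X] : Prop where
  fix_two : ∀ g : G, g ≠ 1 → ∃ a b : X, ∀ v, g • v = v ↔ v = a ∨ v = b
  uni_mul : ∀ (w : X) (g h : G), IsUni w g → IsUni w h → IsUni w (g * h)
  uni_comm : ∀ (w : X) (g h : G), IsUni w g → IsUni w h → g * h = h * g
  cyc : ∀ w : X, ∃ t ∈ stabilizer G w, ∀ g ∈ stabilizer G w, ∃ i : ℕ, IsUni w ((t ^ i)⁻¹ * g)

theorem IsUni.smul_eq {w : X} {g : G} (h : IsUni w g) : g • w = w := by
  rcases h with rfl | h
  · exact one_smul _ _
  · exact (h w).mpr rfl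

theorem IsUni.inv {w : X} {g : G} (h : IsUni w g) : IsUni w g⁻¹ := by
  rcases h with rfl | h
  · exact Or.inl inv_one
  · exact Or.inr fun v => by rw [inv_smul_eq_iff, eq_comm, h v]

theorem isUni_conj {w : X} {g h : G} (hh : IsUni w h) : IsUni (g • w) (g * h * g⁻¹) := by
  rcases hh with rfl | hh
  · exact Or.inl (by simp)
  · refine Or.inr fun v => ?_
    rw [mul_smul, mul_smul, smul_eq_iff_eq_inv_smul, hh, inv_smul_eq_iff]

theorem isUni_conj_iff {w : X} {g h : G} : IsUni (g • w) (g * h * g⁻¹) ↔ IsUni w h := by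
  refine ⟨fun H => ?_, isUni_conj⟩
  have := isUni_conj (g := g⁻¹) H
  simpa [mul_assoc] using this

/-- The fixed-point unique elements at `w`. -/
def uni (hA : Sharp G X) (w : X) : Subgroup G where
  carrier := {g | IsUni w g}
  one_mem' := Or.inl rfl
  mul_mem' ha hb := hA.uni_mul w _ _ ha hb
  inv_mem' ha := ha.inv

@[simp] theorem mem_uni (hA : Sharp G X) {w : X} {g : G} : g ∈ uni hA w ↔ IsUni w g := Iff.rfl

theorem uni_le (hA : Sharp G X) (w : X) : uni hA w ≤ stabilizer G w :=
  fun _ hg => (hg : IsUni w _).smul_eq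

theorem uni_of_comm (hA : Sharp G X) {w : X} {h u : G} (hh : h • w = w) (hu : IsUni w u)
    (hu1 : u ≠ 1) (hc : h * u = u * h) : IsUni w h := by
  by_cases h1 : h = 1
  · exact Or.inl h1
  refine Or.inr fun v => ⟨fun hv => ?_, fun hv => hv ▸ hh⟩
  by_contra hne
  have hu' := hu.resolve_left hu1
  obtain ⟨a, b, hab⟩ := hA.fix_two h h1
  have huv : h • (u • v) = u • v := by rw [← mul_smul, hc, mul_smul, hv]
  have e1 := (hab v).mp hv
  have e2 := (hab w).mp hh
  have e3 := (hab (u • v)).mp huv
  have hne2 : u • v ≠ v := fun e => hne ((hu' v).mp e)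
  have hne3 : u • v ≠ w := fun e => hne (by
    have := hu.smul_eq
    exact (MulAction.injective u) (e.trans this.symm))
  rcases e1 with rfl | rfl <;> rcases e2 with rfl | rfl <;> rcases e3 with e | e <;>
    first
      | exact hne rfl
      | exact hne2 e
      | exact hne3 e

section Finite

variable [Finite G]

theorem card_dvd_of_stabilizer {H Y : Type*} [Group H] [MulAction H Y] [Finite Y] (c : ℕ)
    (hc : ∀ y : Y, Nat.card (stabilizer H y) = c) : Nat.card H ∣ c * Nat.card Y := by
  classical
  haveI : Fintype (orbitRel.Quotient H Y) := Fintype.ofFinite _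
  haveI : ∀ ω : orbitRel.Quotient H Y, Finite (orbit H ω.out) := fun _ => Subtype.finite
  rw [Nat.card_congr (MulAction.selfEquivSigmaOrbits H Y), Nat.card_sigma, Finset.mul_sum]
  refine Finset.dvd_sum fun ω _ => ?_
  rw [← Subgroup.card_mul_index (stabilizer H ω.out), hc, index_stabilizer, Nat.card_coe_set_eq]

/-- Order of a point stabiliser. -/
noncomputable def st (G : Type*) [Group G] [MulAction G X] (w : X) : ℕ :=
  Nat.card (stabilizer G w)

/-- Number of fixed-point unique elements at `w`, the identity included. -/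
noncomputable def uc (hA : Sharp G X) (w : X) : ℕ := Nat.card (uni hA w)

/-- Length of an orbit. -/
noncomputable def orb (G : Type*) [Group G] [MulAction G X] (w : X) : ℕ := Nat.card (orbit G w)

theorem orb_mul_st (w : X) : orb G w * st G w = Nat.card G := by
  rw [orb, st, Nat.card_coe_set_eq, ← index_stabilizer, Subgroup.index_mul_card]

theorem uc_dvd_st (hA : Sharp G X) (w : X) : uc hA w ∣ st G w :=
  Subgroup.card_dvd_of_le (uni_le hA w)

theorem uc_pos (hA : Sharp G X) (w : X) : 0 < uc hA w := Nat.card_pos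

theorem st_pos (w : X) : 0 < st G w := Nat.card_pos

theorem orb_pos (w : X) : 0 < orb G w := by
  rcases Nat.eq_zero_or_pos (orb G w) with h | h
  · have h' := orb_mul_st (G := G) w
    rw [h, zero_mul] at h'
    exact absurd h'.symm Nat.card_pos.ne'
  · exact h

theorem stabilizer_smul_eq_map (g : G) (w : X) :
    stabilizer G (g • w) = (stabilizer G w).map (MulAut.conj g).toMonoidHom :=
  stabilizer_smul_eq_stabilizer_map_conj g w

theorem st_smul (g : G) (w : X) : st G (g • w) = st G w := by
  rw [st, st, stabilizer_smul_eq_map]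
  exact Subgroup.card_map_of_injective (MulAut.conj g).injective

theorem uni_smul (hA : Sharp G X) (g : G) (w : X) :
    uni hA (g • w) = (uni hA w).map (MulAut.conj g).toMonoidHom := by
  ext h
  rw [Subgroup.mem_map_equiv, mem_uni, mem_uni, MulAut.conj_symm_apply,
    ← isUni_conj_iff (g := g) (w := w) (h := g⁻¹ * h * g)]
  simp [mul_assoc]

theorem uc_smul (hA : Sharp G X) (g : G) (w : X) : uc hA (g • w) = uc hA w := by
  rw [uc, uc, uni_smul]
  exact Subgroup.card_map_of_injective (MulAut.conj g).injective

theorem st_dvd_sub_one (hA : Sharp G X) {w : X} :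
    st G w ∣ uc hA w * (uc hA w - 1) := by
  classical
  let Y := {u : uni hA w // u ≠ 1}
  let act : MulAction (stabilizer G w) Y :=
    { smul := fun t y => ⟨⟨(t : G) * (y.1 : G) * (t : G)⁻¹, by
          have h := isUni_conj (g := (t : G)) (show IsUni w (y.1 : G) from y.1.2)
          rwa [show (t : G) • w = w from t.2] at h⟩,
        fun e => y.2 (Subtype.ext (conj_eq_one_iff.mp (congrArg Subtype.val e)))⟩
      one_smul := fun y => by
        apply Subtype.ext; apply Subtype.ext
        show ((1 : stabilizer G w) : G) * (y.1 : G) * ((1 : stabilizer G w) : G)⁻¹ = (y.1 : G)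
        simp
      mul_smul := fun s t y => by
        apply Subtype.ext; apply Subtype.ext
        show ((s * t : stabilizer G w) : G) * (y.1 : G) * ((s * t : stabilizer G w) : G)⁻¹
          = (s : G) * ((t : G) * (y.1 : G) * (t : G)⁻¹) * (s : G)⁻¹
        rw [Subgroup.coe_mul, mul_inv_rev]
        simp [mul_assoc] }
  letI := act
  have hc : ∀ y : Y, Nat.card (stabilizer (stabilizer G w) y) = uc hA w := by
    intro y
    have e : stabilizer (stabilizer G w) y = (uni hA w).subgroupOf (stabilizer G w) := by
      ext t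
      rw [Subgroup.mem_subgroupOf, mem_uni, mem_stabilizer_iff]
      constructor
      · intro ht
        have ht' : (t : G) * (y.1 : G) * (t : G)⁻¹ = (y.1 : G) :=
          congrArg (fun z : Y => (z.1 : G)) ht
        exact uni_of_comm hA t.2 y.1.2 (fun e => y.2 (Subtype.ext e))
          (mul_inv_eq_iff_eq_mul.mp ht')
      · intro ht
        apply Subtype.ext; apply Subtype.ext
        show (t : G) * (y.1 : G) * (t : G)⁻¹ = (y.1 : G)
        rw [hA.uni_comm w _ _ ht y.1.2, mul_inv_cancel_right]
    rw [e]
    exact Nat.card_congr (Subgroup.subgroupOfEquivOfLe (uni_le hA w)).toEquiv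
  have h := card_dvd_of_stabilizer (H := stabilizer G w) (Y := Y) _ hc
  have hY : Nat.card Y = uc hA w - 1 := by
    haveI := Fintype.ofFinite (uni hA w)
    rw [Nat.card_eq_fintype_card, uc, Nat.card_eq_fintype_card,
      Fintype.card_subtype_compl, Fintype.card_subtype_eq]
  rwa [hY] at h

theorem exists_orb_eq (hA : Sharp G X) {w : X} (hu : 1 < uc hA w) :
    ∃ k, orb G w = 1 + k * uc hA w := by
  classical
  haveI : Finite (orbit G w) := Set.Finite.to_subtype (Set.finite_range fun g : G => g • w)
  let Y := {v : orbit G w // (v : X) ≠ w}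
  let act : MulAction (uni hA w) Y :=
    { smul := fun u y => ⟨(u : G) • y.1, fun e => y.2 (MulAction.injective (u : G)
        (e.trans (u.2 : IsUni w (u : G)).smul_eq.symm))⟩
      one_smul := fun y => by
        apply Subtype.ext
        exact one_smul G y.1
      mul_smul := fun s t y => by
        apply Subtype.ext
        exact mul_smul (s : G) (t : G) y.1 }
  letI := act
  have hc : ∀ y : Y, Nat.card (stabilizer (uni hA w) y) = 1 := by
    intro y
    rw [Subgroup.card_eq_one, Subgroup.eq_bot_iff_forall]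
    intro u hu
    rcases (u.2 : IsUni w (u : G)) with h | h
    · exact Subtype.ext h
    · exact absurd ((h _).mp (congrArg (fun z : Y => ((z.1 : orbit G w) : X)) hu)) y.2
  obtain ⟨k, hk⟩ := card_dvd_of_stabilizer (H := uni hA w) (Y := Y) _ hc
  rw [one_mul] at hk
  refine ⟨k, ?_⟩
  haveI := Fintype.ofFinite (orbit G w)
  have hY : Nat.card Y + 1 = orb G w := by
    rw [orb, Nat.card_eq_fintype_card, Nat.card_eq_fintype_card]
    have h1 : Fintype.card {v : orbit G w // (v : X) = w} = 1 := by
      rw [Fintype.card_eq_one_iff]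
      exact ⟨⟨⟨w, mem_orbit_self w⟩, rfl⟩, fun v => Subtype.ext (Subtype.ext v.2)⟩
    have h2 := Fintype.card_subtype_compl (fun v : orbit G w => (v : X) = w)
    rw [h1] at h2
    have h3 := Fintype.card_subtype_le (fun v : orbit G w => (v : X) = w)
    have : Fintype.card Y = Fintype.card (orbit G w) - 1 := h2
    rw [h1] at h3
    omega
  rw [← hY, hk, uc]
  ring

/-- The special points. -/
def special (G X : Type*) [Group G] [MulAction G X] : Set X := {w | ∃ g : G, g ≠ 1 ∧ g • w = w}

theorem special_finite (hA : Sharp G X) : (special G X).Finite := by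
  have : special G X ⊆ ⋃ g : G, {w | g ≠ 1 ∧ g • w = w} := fun w ⟨g, hg⟩ =>
    Set.mem_iUnion.mpr ⟨g, hg⟩
  refine Set.Finite.subset (Set.finite_iUnion fun g => ?_) this
  by_cases h : g = 1
  · simp [h]
  · obtain ⟨a, b, hab⟩ := hA.fix_two g h
    exact ((Set.finite_singleton b).insert a).subset fun w hw => (hab w).mp hw.2

theorem smul_mem_special {w : X} (h : w ∈ special G X) (g : G) : g • w ∈ special G X := by
  obtain ⟨t, ht, htw⟩ := h
  exact ⟨g * t * g⁻¹, fun e => ht (conj_eq_one_iff.mp e), by
    rw [mul_smul, mul_smul, inv_smul_smul, htw]⟩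

theorem two_le_st {w : X} (h : w ∈ special G X) : 2 ≤ st G w := by
  obtain ⟨t, ht, htw⟩ := h
  haveI : Nontrivial (stabilizer G w) := ⟨⟨t, htw⟩, 1, fun e => ht (congrArg Subtype.val e)⟩
  exact Finite.one_lt_card

/-- The weight of a point with respect to a subgroup. -/
noncomputable def wt (hA : Sharp G X) (K : Subgroup G) (w : X) : ℕ :=
  (Nat.card (K ⊓ stabilizer G w : Subgroup G) - 1) + (Nat.card (K ⊓ uni hA w : Subgroup G) - 1)

theorem card_filter_ne_one [Fintype G] [DecidableEq G] (K : Subgroup G) [DecidablePred (· ∈ K)] :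
    (univ.filter fun g : G => g ∈ K ∧ g ≠ 1).card = Nat.card K - 1 := by
  have : (univ.filter fun g : G => g ∈ K ∧ g ≠ 1) = (univ.filter fun g : G => g ∈ K).erase 1 := by
    ext g; simp [and_comm]
  rw [this, card_erase_of_mem (by simp [K.one_mem]), Nat.card_eq_fintype_card,
    Fintype.card_subtype]

theorem sum_wt (hA : Sharp G X) (K : Subgroup G) :
    ∑ w ∈ (special_finite hA).toFinset, wt hA K w = 2 * (Nat.card K - 1) := by
  classical
  haveI := Fintype.ofFinite G
  set S := (special_finite hA).toFinset with hS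
  set A := univ.filter fun g : G => g ∈ K ∧ g ≠ 1 with hAdef
  have h1 : ∀ w : X, Nat.card (K ⊓ stabilizer G w : Subgroup G) - 1
      = ∑ g ∈ A, if g • w = w then 1 else 0 := by
    intro w
    rw [← card_filter_ne_one, Finset.sum_boole, Nat.cast_id, hAdef, filter_filter]
    congr 1; ext g
    simp only [mem_filter, Subgroup.mem_inf, mem_stabilizer_iff]
    tauto
  have h2 : ∀ w : X, Nat.card (K ⊓ uni hA w : Subgroup G) - 1
      = ∑ g ∈ A, if IsUni w g then 1 else 0 := by
    intro w
    rw [← card_filter_ne_one, Finset.sum_boole, Nat.cast_id, hAdef, filter_filter]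
    congr 1; ext g
    simp only [mem_filter, Subgroup.mem_inf, mem_uni]
    tauto
  simp only [wt, h1, h2, ← Finset.sum_add_distrib]
  rw [Finset.sum_comm, ← card_filter_ne_one, ← hAdef, mul_comm, ← smul_eq_mul, ← Finset.sum_const]
  refine Finset.sum_congr rfl fun g hg => ?_
  obtain ⟨-, -, hg1⟩ := mem_filter.mp hg
  obtain ⟨a, b, hab⟩ := hA.fix_two g hg1
  have hmem : ∀ v, g • v = v → v ∈ S := fun v hv =>
    (special_finite hA).mem_toFinset.mpr ⟨g, hg1, hv⟩
  rw [Finset.sum_add_distrib, Finset.sum_boole, Finset.sum_boole, Nat.cast_id, Nat.cast_id]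
  by_cases hne : a = b
  · subst hne
    have hu : ∀ v, IsUni v g ↔ v = a := fun v => by
      refine ⟨fun h => by simpa using (hab v).mp h.smul_eq, ?_⟩
      rintro rfl
      exact Or.inr fun u => by simpa using hab u
    have e1 : S.filter (fun v => g • v = v) = {a} := by
      ext v
      simp only [mem_filter, mem_singleton]
      exact ⟨fun h => by simpa using (hab v).mp h.2,
        fun h => by subst h; exact ⟨hmem v ((hab v).mpr (Or.inl rfl)), (hab v).mpr (Or.inl rfl)⟩⟩
    have e2 : S.filter (fun v => IsUni v g) = {a} := by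
      ext v
      simp only [mem_filter, mem_singleton, hu]
      exact ⟨fun h => h.2, fun h => ⟨by subst h; exact hmem v ((hab v).mpr (Or.inl rfl)), h⟩⟩
    rw [e1, e2, card_singleton]
  · have e1 : S.filter (fun v => g • v = v) = {a, b} := by
      ext v
      simp only [mem_filter, mem_insert, mem_singleton]
      exact ⟨fun h => (hab v).mp h.2, fun h => ⟨hmem v ((hab v).mpr h), (hab v).mpr h⟩⟩
    have e2 : S.filter (fun v => IsUni v g) = ∅ := by
      refine Finset.eq_empty_of_forall_notMem fun v hv => ?_
      have h := (mem_filter.mp hv).2.resolve_left hg1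
      exact hne (((h a).mp ((hab a).mpr (Or.inl rfl))).trans
        ((h b).mp ((hab b).mpr (Or.inr rfl))).symm)
    rw [e1, e2, card_pair hne, card_empty]

theorem wt_smul (hA : Sharp G X) (K : Subgroup G) [hK : K.Normal] (g : G) (w : X) :
    wt hA K (g • w) = wt hA K w := by
  have hinj : Function.Injective (MulAut.conj g).toMonoidHom := (MulAut.conj g).injective
  have hmap : K.map (MulAut.conj g).toMonoidHom = K := by
    ext x
    rw [Subgroup.mem_map_equiv, MulAut.conj_symm_apply]
    exact ⟨fun h => by simpa [mul_assoc] using hK.conj_mem _ h g,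
      fun h => by simpa using hK.conj_mem _ h g⁻¹⟩
  have e : ∀ H : Subgroup G, Nat.card (K ⊓ H.map (MulAut.conj g).toMonoidHom : Subgroup G)
      = Nat.card (K ⊓ H : Subgroup G) := fun H => by
    conv_lhs => rw [← hmap]
    rw [← Subgroup.map_inf _ _ _ hinj]
    exact Subgroup.card_map_of_injective hinj
  rw [wt, wt, stabilizer_smul_eq_map, uni_smul, e, e]

theorem wt_top (hA : Sharp G X) (w : X) : wt hA ⊤ w = (st G w - 1) + (uc hA w - 1) := by
  rw [wt, top_inf_eq, top_inf_eq]; rfl

/-- Points in pairwise different orbits. -/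
def Distinct (G : Type*) [Group G] [MulAction G X] (R : Finset X) : Prop :=
  (R : Set X).Pairwise fun a b => b ∉ orbit G a

theorem sum_orbits_le (hA : Sharp G X) (K : Subgroup G) [K.Normal] {R : Finset X}
    (hsub : ∀ w ∈ R, w ∈ special G X) (hR : Distinct G R) :
    (∑ w ∈ R, orb G w * wt hA K w ≤ 2 * (Nat.card K - 1)) ∧
      ((∀ v ∈ special G X, ∃ w ∈ R, v ∈ orbit G w) →
        ∑ w ∈ R, orb G w * wt hA K w = 2 * (Nat.card K - 1)) := by
  classical
  haveI := Fintype.ofFinite G
  let O : X → Finset X := fun w => univ.image fun g : G => g • w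
  have hO : ∀ w v, v ∈ O w ↔ v ∈ orbit G w := fun w v => by simp [O, orbit]
  have hOc : ∀ w, (O w).card = orb G w := fun w => by
    have e : ((O w : Finset X) : Set X) = orbit G w := by ext v; simp [hO]
    rw [orb, Nat.card_coe_set_eq, ← e, Set.ncard_coe_finset]
  have hdis : (R : Set X).PairwiseDisjoint O := by
    intro a ha b hb hab
    rw [Function.onFun, Finset.disjoint_left]
    intro v hva hvb
    apply hR ha hb hab
    rw [← orbit_eq_iff, ← orbit_eq_iff.mpr ((hO b v).mp hvb), orbit_eq_iff.mpr ((hO a v).mp hva)]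
  have hsum : ∑ w ∈ R, orb G w * wt hA K w = ∑ v ∈ R.biUnion O, wt hA K v := by
    rw [Finset.sum_biUnion hdis]
    refine Finset.sum_congr rfl fun w _ => ?_
    rw [← hOc, ← smul_eq_mul, ← Finset.sum_const]
    refine Finset.sum_congr rfl fun v hv => ?_
    obtain ⟨g, rfl⟩ := (hO w v).mp hv
    exact (wt_smul hA K g w).symm
  have hle : R.biUnion O ⊆ (special_finite hA).toFinset := by
    intro v hv
    obtain ⟨w, hw, hvw⟩ := mem_biUnion.mp hv
    obtain ⟨g, rfl⟩ := (hO w v).mp hvw
    exact (special_finite hA).mem_toFinset.mpr (smul_mem_special (hsub w hw) g)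
  rw [hsum, ← sum_wt hA K]
  refine ⟨Finset.sum_le_sum_of_subset hle, fun hcov => ?_⟩
  congr 1
  refine Finset.Subset.antisymm hle fun v hv => ?_
  obtain ⟨w, hw, hvw⟩ := hcov v ((special_finite hA).mem_toFinset.mp hv)
  exact mem_biUnion.mpr ⟨w, hw, (hO w v).mpr hvw⟩

end Finite

end Cfsg.Agent.Dickson
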