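import Cfsg.Agent.Lib.Dickson.Polyhedral

/-!
Solving the orbit equation: Dickson's list for sharp actions.
-/

set_option autoImplicit false
set_option linter.unusedSectionVars false

namespace Cfsg.Agent.Dickson

open MulAction

variable {G X : Type*} [Group G] [MulAction G X] [Finite G]

/-- The solutions of the orbit equation with a `p`-orbit and a further orbit. -/
theorem arith_two_orbits {n q d m e k : ℕ} (hk : n = 1 + k * q) (hk1 : 1 ≤ k) (hd : 1 ≤ d)
    (hdq : d ∣ q - 1) (hq : 2 ≤ q) (he : 2 ≤ e) (hme : n * (q * d) = m * e)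
    (hsum : n * q + 2 = 2 * n + m) :
    (q = 2 ∧ m = 2 ∧ e = n) ∨ (q = 3 ∧ n = 10 ∧ d = 2 ∧ e = 5 ∧ m = 12) ∨
      (3 ≤ q ∧ n = q + 1 ∧ (d = q - 1 ∨ 2 * d = q - 1)) := by
  obtain ⟨r, rfl⟩ : ∃ r, q = r + 2 := ⟨q - 2, by omega⟩
  have hm : m = (r + 2) * (1 + k * r) := by subst hk; nlinarith
  have hea : e * (1 + k * r) = (1 + k * (r + 2)) * d := by
    have h : (r + 2) * (e * (1 + k * r)) = (r + 2) * ((1 + k * (r + 2)) * d) := by
      subst hk; subst hm; linarith [hme]
    exact Nat.eq_of_mul_eq_mul_left (by omega) h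
  have hdle : d ≤ r + 1 := by
    have := Nat.le_of_dvd (by omega) hdq
    omega
  rcases Nat.eq_zero_or_pos r with rfl | hr
  · left
    have hd1 : d = 1 := by omega
    subst hd1
    refine ⟨rfl, ?_, ?_⟩
    · rw [hm]; ring
    · rw [hk]; simpa using hea
  right
  have hdvd : (1 + k * r) ∣ 2 * d := by
    have h1 : (1 + k * r) ∣ k * (2 * d) := by
      have : (1 + k * r) ∣ (1 + k * (r + 2)) * d := ⟨e, by rw [← hea]; ring⟩
      have h2 : (1 + k * (r + 2)) * d = (1 + k * r) * d + k * (2 * d) := by ring
      rw [h2] at this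
      exact (Nat.dvd_add_right (dvd_mul_right _ _)).mp this
    refine (Nat.Coprime.dvd_of_dvd_mul_left ?_ h1)
    rw [Nat.coprime_iff_gcd_eq_one, mul_comm k r]
    simp [Nat.gcd_comm]
  obtain ⟨c, hc⟩ := hdvd
  have hc1 : 1 ≤ c := by
    rcases Nat.eq_zero_or_pos c with rfl | h
    · omega
    · exact h
  rcases Nat.lt_or_ge k 2 with hk2 | hk2
  · obtain rfl : k = 1 := by omega
    right
    refine ⟨by omega, by omega, ?_⟩
    have : c ≤ 2 := by
      by_contra h
      have : 3 * (1 + 1 * r) ≤ (1 + 1 * r) * c := by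
        rw [mul_comm 3]; exact Nat.mul_le_mul_left _ (by omega)
      omega
    interval_cases c <;> omega
  · rcases Nat.lt_or_ge r 2 with hr2 | hr2
    · obtain rfl : r = 1 := by omega
      left
      have : d = 1 ∨ d = 2 := by omega
      have hk3 : k ≤ 3 := by
        have : 1 * (1 + k * 1) ≤ c * (1 + k * 1) := Nat.mul_le_mul_right _ hc1
        have h2 : c * (1 + k * 1) = 2 * d := by rw [hc]; ring
        omega
      interval_cases k <;> rcases this with rfl | rfl
      · have : c * 3 = 2 := by rw [mul_comm]; exact hc.symm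
        omega
      · have : c * 3 = 4 := by rw [mul_comm]; exact hc.symm
        omega
      · have : c * 4 = 2 := by rw [mul_comm]; exact hc.symm
        omega
      · refine ⟨rfl, by omega, rfl, by omega, by omega⟩
    · exfalso
      have h1 : 1 + k * r ≥ 1 + 2 * r := by nlinarith
      have h2 : c = 1 := by
        by_contra hne
        have : (1 + k * r) * 2 ≤ (1 + k * r) * c := Nat.mul_le_mul_left _ (by omega)
        omega
      subst h2
      rw [mul_one] at hc
      rcases Nat.lt_or_ge k 3 with hk3 | hk3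
      · obtain rfl : k = 2 := by omega
        omega
      · have : 3 * r ≤ k * r := Nat.mul_le_mul_right _ hk3
        omega

/-- Dickson's list for a sharp action. -/
def Outcome {G X : Type*} [Group G] [MulAction G X] (hA : Sharp G X) : Prop :=
  (IsCyclic G ∧ ∀ g : G, g ≠ 1 → ¬ ∃ v : X, IsUni v g) ∨
  (∃ w : X, (∀ g : G, g • w = w) ∧ 1 < uc hA w) ∨
  (∃ n, 2 ≤ n ∧ Nonempty (G ≃* DihedralGroup n) ∧
    ∃ t : G, orderOf t = n ∧ ¬ ∃ v : X, IsUni v t) ∨
  Nonempty (G ≃* alternatingGroup (Fin 4)) ∨ Nonempty (G ≃* Equiv.Perm (Fin 4)) ∨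
  Nonempty (G ≃* alternatingGroup (Fin 5)) ∨
  (∃ w : X, 3 ≤ uc hA w ∧ orb G w = uc hA w + 1 ∧
    (st G w = uc hA w * (uc hA w - 1) ∨ 2 * st G w = uc hA w * (uc hA w - 1)))

theorem orb_mul_wt_top (hA : Sharp G X) (w : X) :
    orb G w * wt hA ⊤ w + 2 * orb G w = Nat.card G + orb G w * uc hA w := by
  rw [wt_top, ← orb_mul_st w]
  have h1 := st_pos (G := G) w
  have h2 := uc_pos hA w
  obtain ⟨a, ha⟩ : ∃ a, st G w = a + 1 := ⟨st G w - 1, by omega⟩
  obtain ⟨b, hb⟩ : ∃ b, uc hA w = b + 1 := ⟨uc hA w - 1, by omega⟩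
  rw [ha, hb, Nat.add_sub_cancel, Nat.add_sub_cancel]
  ring

theorem orb_mul_two_le {w : X} (h : w ∈ special G X) : 2 * orb G w ≤ Nat.card G := by
  rw [← orb_mul_st w, mul_comm 2]
  exact Nat.mul_le_mul_left _ (two_le_st h)

theorem group_le_two_mul_wt (hA : Sharp G X) {w : X} (h : w ∈ special G X) :
    Nat.card G ≤ 2 * (orb G w * wt hA ⊤ w) := by
  have h1 := orb_mul_wt_top hA w
  have h2 := orb_mul_two_le h
  have h3 : orb G w ≤ orb G w * uc hA w := Nat.le_mul_of_pos_right _ (uc_pos hA w)
  omega

theorem group_le_wt (hA : Sharp G X) {w : X} (h : 2 ≤ uc hA w) :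
    Nat.card G ≤ orb G w * wt hA ⊤ w := by
  have h1 := orb_mul_wt_top hA w
  have h2 : orb G w * 2 ≤ orb G w * uc hA w := Nat.mul_le_mul_left _ h
  omega

theorem notMem_orbit_symm {a b : X} (h : b ∉ orbit G a) : a ∉ orbit G b :=
  fun hab => h (by rw [← orbit_eq_iff, orbit_eq_iff.mpr hab])

theorem ne_of_notMem_orbit {a b : X} (h : b ∉ orbit G a) : a ≠ b :=
  fun e => h (e ▸ mem_orbit_self a)

theorem distinct_singleton (a : X) : Distinct G ({a} : Finset X) := by
  simp [Distinct]

theorem distinct_pair [DecidableEq X] {a b : X} (h : b ∉ orbit G a) :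
    Distinct G ({a, b} : Finset X) := by
  rw [Distinct, Finset.coe_pair, Set.pairwise_pair]
  exact fun _ => ⟨h, notMem_orbit_symm h⟩

theorem distinct_triple [DecidableEq X] {a b c : X} (hab : b ∉ orbit G a) (hac : c ∉ orbit G a)
    (hbc : c ∉ orbit G b) : Distinct G ({a, b, c} : Finset X) := by
  intro x hx y hy hxy
  simp only [Finset.coe_insert, Finset.coe_singleton, Set.mem_insert_iff, Set.mem_singleton_iff]
    at hx hy
  rcases hx with rfl | rfl | rfl <;> rcases hy with rfl | rfl | rfl
  all_goals first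
    | exact absurd rfl hxy
    | exact hab
    | exact hac
    | exact hbc
    | exact notMem_orbit_symm hab
    | exact notMem_orbit_symm hac
    | exact notMem_orbit_symm hbc

theorem card_inf_eq_or_of_prime (K H : Subgroup G) {p : ℕ} (hp : p.Prime)
    (hH : Nat.card H = p) :
    Nat.card (K ⊓ H : Subgroup G) = 1 ∨ Nat.card (K ⊓ H : Subgroup G) = p :=
  (Nat.dvd_prime hp).mp (hH ▸ Subgroup.card_dvd_of_le inf_le_right)

/-- The icosahedral group without a `p`-orbit. -/
theorem icosahedral_of [DecidableEq X] (hA : Sharp G X) {a b c : X} (hg : Nat.card G = 60)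
    (hR : Distinct G ({a, b, c} : Finset X)) (hab : a ≠ b) (hac : a ≠ c) (hbc : b ≠ c)
    (hsub : ∀ w ∈ ({a, b, c} : Finset X), w ∈ special G X)
    (hcov : ∀ v ∈ special G X, ∃ w ∈ ({a, b, c} : Finset X), v ∈ orbit G w)
    (ha : st G a = 2) (hb : st G b = 3) (hc : st G c = 5)
    (hu : ∀ w : X, uc hA w = 1) : Nonempty (G ≃* alternatingGroup (Fin 5)) := by
  refine alternating_five_of hg fun K hK => ?_
  haveI := hK
  have heq := (sum_orbits_le hA K hsub hR).2 hcov
  rw [Finset.sum_insert (by simp [hab, hac]), Finset.sum_insert (by simp [hbc]),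
    Finset.sum_singleton] at heq
  have hw : ∀ w : X, wt hA K w = Nat.card (K ⊓ stabilizer G w : Subgroup G) - 1 := by
    intro w
    have h1 : Nat.card (K ⊓ uni hA w : Subgroup G) = 1 :=
      Nat.dvd_one.mp ((hu w) ▸ Subgroup.card_dvd_of_le inf_le_right)
    rw [wt, h1]; simp
  have na : orb G a = 30 := by
    have := orb_mul_st (G := G) a; rw [ha, hg] at this; omega
  have nb : orb G b = 20 := by
    have := orb_mul_st (G := G) b; rw [hb, hg] at this; omega
  have nc : orb G c = 12 := by
    have := orb_mul_st (G := G) c; rw [hc, hg] at this; omega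
  rw [hw, hw, hw, na, nb, nc] at heq
  have hdvd : Nat.card K ∣ 60 := hg ▸ Subgroup.card_subgroup_dvd_card K
  have hpos : 0 < Nat.card K := Nat.card_pos
  have key : ∀ x y z k : ℕ, (x = 1 ∨ x = 2) → (y = 1 ∨ y = 3) → (z = 1 ∨ z = 5) → k ∣ 60 → 0 < k →
      30 * (x - 1) + (20 * (y - 1) + 12 * (z - 1)) = 2 * (k - 1) → k = 1 ∨ k = 60 := by
    intro x y z k hx hy hz hk hk0 h
    rcases hx with rfl | rfl <;> rcases hy with rfl | rfl <;> rcases hz with rfl | rfl <;>
      first
        | omega
        | (exfalso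
           have h' : k = 2 * (k - 1) / 2 + 1 := by omega
           rw [← h] at h'
           norm_num at h'
           subst h'
           norm_num at hk)
  exact key _ _ _ _ (card_inf_eq_or_of_prime K _ Nat.prime_two ha)
    (card_inf_eq_or_of_prime K _ Nat.prime_three hb)
    (card_inf_eq_or_of_prime K _ (by norm_num) hc) hdvd hpos heq

/-- The icosahedral group with a `3`-orbit. -/
theorem icosahedral_three [DecidableEq X] (hA : Sharp G X) {a b : X} (hg : Nat.card G = 60)
    (hab : b ∉ orbit G a) (hsub : ∀ w ∈ ({a, b} : Finset X), w ∈ special G X)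
    (hcov : ∀ v ∈ special G X, ∃ w ∈ ({a, b} : Finset X), v ∈ orbit G w)
    (hua : uc hA a = 3) (ha : st G a = 6) (hb : st G b = 5) (hub : uc hA b = 1) :
    Nonempty (G ≃* alternatingGroup (Fin 5)) := by
  refine alternating_five_of hg fun K hK => ?_
  haveI := hK
  have heq := (sum_orbits_le hA K hsub (distinct_pair hab)).2 hcov
  rw [Finset.sum_insert (by simp [ne_of_notMem_orbit hab]), Finset.sum_singleton] at heq
  have na : orb G a = 10 := by
    have := orb_mul_st (G := G) a; rw [ha, hg] at this; omega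
  have nb : orb G b = 12 := by
    have := orb_mul_st (G := G) b; rw [hb, hg] at this; omega
  have hwb : wt hA K b = Nat.card (K ⊓ stabilizer G b : Subgroup G) - 1 := by
    have h1 : Nat.card (K ⊓ uni hA b : Subgroup G) = 1 :=
      Nat.dvd_one.mp (hub ▸ Subgroup.card_dvd_of_le inf_le_right)
    rw [wt, h1]; simp
  set x := Nat.card (K ⊓ stabilizer G a : Subgroup G) with hx
  set u := Nat.card (K ⊓ uni hA a : Subgroup G) with hu
  have hx6 : x ∣ 6 := ha ▸ Subgroup.card_dvd_of_le inf_le_right
  have hu3 : u = 1 ∨ u = 3 := card_inf_eq_or_of_prime K _ Nat.prime_three hua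
  have hux : u ∣ x := Subgroup.card_dvd_of_le (inf_le_inf_left K (uni_le hA a))
  have h3 : 3 ∣ x → u = 3 := by
    intro h
    obtain ⟨z, hz⟩ := exists_prime_orderOf_dvd_card' (G := (K ⊓ stabilizer G a : Subgroup G)) 3 h
    rw [← Subgroup.orderOf_coe] at hz
    have hidx : ((uni hA a).subgroupOf (stabilizer G a)).index = 2 := by
      have h1 := Subgroup.card_mul_index ((uni hA a).subgroupOf (stabilizer G a))
      rw [Nat.card_congr (Subgroup.subgroupOfEquivOfLe (uni_le hA a)).toEquiv] at h1
      change uc hA a * _ = st G a at h1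
      rw [hua, ha] at h1
      omega
    have hzu : (z : G) ∈ uni hA a := by
      have hz2 : ((⟨z, z.2.2⟩ : stabilizer G a) ^ 2) ∈ (uni hA a).subgroupOf (stabilizer G a) :=
        Subgroup.sq_mem_of_index_two hidx _
      have h4 : ((z : G) ^ 2) ^ 2 = (z : G) := by
        rw [← pow_mul, show 2 * 2 = 3 + 1 from rfl, pow_succ, ← hz, pow_orderOf_eq_one, one_mul]
      rw [← h4]
      exact pow_mem (by simpa [Subgroup.mem_subgroupOf] using hz2) 2
    refine hu3.resolve_left fun h1 => ?_
    have : (K ⊓ uni hA a : Subgroup G) = ⊥ := Subgroup.card_eq_one.mp h1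
    have hzb : (z : G) ∈ (K ⊓ uni hA a : Subgroup G) := ⟨z.2.1, hzu⟩
    rw [this, Subgroup.mem_bot] at hzb
    rw [hzb, orderOf_one] at hz
    omega
  have h2 : x ≠ 2 := by
    intro h
    obtain ⟨z, hz, hzu⟩ := (Nat.card_eq_two_iff' (1 : (K ⊓ stabilizer G a : Subgroup G))).mp h
    have hz1 : (z : G) ≠ 1 := fun e => hz (Subtype.ext e)
    have hcen : ∀ s ∈ stabilizer G a, s * (z : G) = (z : G) * s := by
      intro s hs
      have h' : s * (z : G) * s⁻¹ ∈ K ⊓ stabilizer G a :=
        ⟨hK.conj_mem _ z.2.1 s,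
          (stabilizer G a).mul_mem ((stabilizer G a).mul_mem hs z.2.2) ((stabilizer G a).inv_mem hs)⟩
      have h'' := hzu ⟨_, h'⟩ (fun e => hz1 (conj_eq_one_iff.mp (congrArg Subtype.val e)))
      exact mul_inv_eq_iff_eq_mul.mp (congrArg Subtype.val h'' : s * (z : G) * s⁻¹ = (z : G))
    haveI : Nontrivial (uni hA a) := Finite.one_lt_card_iff_nontrivial.mp (by
      change 1 < uc hA a; omega)
    obtain ⟨v, hv⟩ := exists_ne (1 : uni hA a)
    have hzu' : IsUni a (z : G) := uni_of_comm hA z.2.2 v.2 (fun e => hv (Subtype.ext e))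
      (hcen _ (uni_le hA a v.2)).symm
    have hd : 2 ∣ u := by
      have hzm : (z : G) ∈ (K ⊓ uni hA a : Subgroup G) := ⟨z.2.1, hzu'⟩
      have ho : orderOf (z : G) = 2 := by
        have hd2 : orderOf (z : G) ∣ 2 := h ▸ Subgroup.orderOf_dvd_natCard _ z.2
        exact ((Nat.dvd_prime Nat.prime_two).mp hd2).resolve_left
          (fun e => hz1 (orderOf_eq_one_iff.mp e))
      rw [← ho]; exact Subgroup.orderOf_dvd_natCard _ hzm
    omega
  have hwa : wt hA K a = (x - 1) + (u - 1) := rfl
  rw [hwa, hwb, na, nb] at heq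
  have hdvd : Nat.card K ∣ 60 := hg ▸ Subgroup.card_subgroup_dvd_card K
  have hpos : 0 < Nat.card K := Nat.card_pos
  have hxpos : 0 < x := Nat.card_pos
  have hy := card_inf_eq_or_of_prime K (stabilizer G b) (by norm_num : Nat.Prime 5) hb
  generalize Nat.card K = k at *
  generalize Nat.card (K ⊓ stabilizer G b : Subgroup G) = y at *
  clear_value x u
  have hxle : x ≤ 6 := Nat.le_of_dvd (by norm_num) hx6
  have hxc : x = 1 ∨ x = 3 ∨ x = 6 := by interval_cases x <;> omega
  rcases hxc with rfl | rfl | rfl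
  · have : u = 1 := Nat.dvd_one.mp hux
    rcases hy with rfl | rfl
    · omega
    · obtain rfl : k = 25 := by omega
      norm_num at hdvd
  · have := h3 (dvd_refl 3)
    rcases hy with rfl | rfl
    · obtain rfl : k = 21 := by omega
      norm_num at hdvd
    · obtain rfl : k = 45 := by omega
      norm_num at hdvd
  · have := h3 ⟨2, rfl⟩
    rcases hy with rfl | rfl
    · obtain rfl : k = 36 := by omega
      norm_num at hdvd
    · omega

/-- **Dickson's list** for a sharp action of a finite group. -/
theorem classify [Nonempty X] (hA : Sharp G X) : Outcome hA := by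
  classical
  by_cases hG1 : Nat.card G = 1
  · haveI := (Nat.card_eq_one_iff_unique.mp hG1).1
    left
    exact ⟨isCyclic_of_subsingleton, fun g hg => absurd (Subsingleton.elim g 1) hg⟩
  have hG2 : 2 ≤ Nat.card G := by
    have := Nat.card_pos (α := G); omega
  have hT : Nat.card (⊤ : Subgroup G) = Nat.card G := Subgroup.card_top
  by_cases hp : ∃ w, 2 ≤ uc hA w
  · obtain ⟨w₀, hu0⟩ := hp
    by_cases hfix : orb G w₀ = 1
    · refine Or.inr (Or.inl ⟨w₀, fun g => ?_, by omega⟩)
      obtain ⟨hs, -⟩ := Nat.card_eq_one_iff_unique.mp hfix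
      exact congrArg Subtype.val (hs.elim ⟨g • w₀, mem_orbit w₀ g⟩ ⟨w₀, mem_orbit_self w₀⟩)
    have hS0 : w₀ ∈ special G X := by
      haveI : Nontrivial (uni hA w₀) := Finite.one_lt_card_iff_nontrivial.mp hu0
      obtain ⟨v, hv⟩ := exists_ne (1 : uni hA w₀)
      exact ⟨v, fun e => hv (Subtype.ext e), (v.2 : IsUni w₀ (v : G)).smul_eq⟩
    obtain ⟨k, hk⟩ := exists_orb_eq hA (show 1 < uc hA w₀ by omega)
    have hk1 : 1 ≤ k := by
      rcases Nat.eq_zero_or_pos k with rfl | h
      · exact absurd (by simpa using hk) hfix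
      · exact h
    obtain ⟨d, hd⟩ := uc_dvd_st hA w₀
    have hd0 : 1 ≤ d := by
      rcases Nat.eq_zero_or_pos d with rfl | h
      · have := st_pos (G := G) w₀; simp at hd; omega
      · exact h
    have hdq : d ∣ uc hA w₀ - 1 := by
      have h := st_dvd_sub_one hA (w := w₀)
      rw [hd] at h
      exact Nat.dvd_of_mul_dvd_mul_left (uc_pos hA w₀) h
    have hO0 := orb_mul_wt_top hA w₀
    have hO0' := group_le_wt hA hu0
    by_cases hex : ∃ w ∈ special G X, w ∉ orbit G w₀
    swap
    · exfalso
      push Not at hex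
      have h := (sum_orbits_le hA ⊤ (R := {w₀}) (by simpa using hS0) (distinct_singleton w₀)).2
        (fun v hv => ⟨w₀, Finset.mem_singleton_self _, hex v hv⟩)
      rw [Finset.sum_singleton, hT] at h
      have e := orb_mul_st (G := G) w₀
      rw [hd, hk] at e
      rw [hk] at hO0 h
      generalize uc hA w₀ = q at *
      generalize Nat.card G = g at *
      have hkq : k * q ≥ 2 := le_trans hu0 (Nat.le_mul_of_pos_left q hk1)
      have e2 : (1 + k * q) * (q * d) ≥ (1 + k * q) * q :=
        Nat.mul_le_mul_left _ (Nat.le_mul_of_pos_right q hd0)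
      omega
    obtain ⟨w₁, hS1, hw01⟩ := hex
    have hne := ne_of_notMem_orbit hw01
    have hsub : ∀ v ∈ ({w₀, w₁} : Finset X), v ∈ special G X := by
      intro v hv
      simp only [Finset.mem_insert, Finset.mem_singleton] at hv
      rcases hv with rfl | rfl <;> assumption
    have hO1 := orb_mul_wt_top hA w₁
    have hO1' := group_le_two_mul_wt hA hS1
    have hle := (sum_orbits_le hA ⊤ hsub (distinct_pair hw01)).1
    rw [Finset.sum_pair hne, hT] at hle
    have hu1 : uc hA w₁ = 1 := by
      by_contra h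
      have := group_le_wt hA (w := w₁) (by have := uc_pos hA w₁; omega)
      omega
    have hcov : ∀ v ∈ special G X, ∃ w ∈ ({w₀, w₁} : Finset X), v ∈ orbit G w := by
      intro v hv
      by_contra hcon
      push Not at hcon
      have h0 := hcon w₀ (by simp)
      have h1 := hcon w₁ (by simp)
      have hsub3 : ∀ z ∈ ({w₀, w₁, v} : Finset X), z ∈ special G X := by
        intro z hz
        simp only [Finset.mem_insert, Finset.mem_singleton] at hz
        rcases hz with rfl | rfl | rfl <;> assumption
      have hle3 := (sum_orbits_le hA ⊤ hsub3 (distinct_triple hw01 h0 h1)).1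
      rw [Finset.sum_insert (by simp [hne, ne_of_notMem_orbit h0]),
        Finset.sum_pair (ne_of_notMem_orbit h1), hT] at hle3
      have := group_le_two_mul_wt hA hv
      omega
    have heq := (sum_orbits_le hA ⊤ hsub (distinct_pair hw01)).2 hcov
    rw [Finset.sum_pair hne, hT] at heq
    rw [hu1, mul_one] at hO1
    have hgm : orb G w₀ * (uc hA w₀ * d) = orb G w₁ * st G w₁ := by
      rw [← hd, orb_mul_st, orb_mul_st]
    have hsum : orb G w₀ * uc hA w₀ + 2 = 2 * orb G w₀ + orb G w₁ := by omega
    rcases arith_two_orbits hk hk1 hd0 hdq hu0 (two_le_st hS1) hgm hsum with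
      ⟨hq, hm, he⟩ | ⟨hq, hn, hd2, he, hm⟩ | ⟨hq, hn, hdd⟩
    · refine Or.inr (Or.inr (Or.inl (dihedral_of hA hm hu1 (two_le_st hS1) fun v hv hvo => ?_)))
      obtain ⟨w, hw, hvw⟩ := hcov v hv
      simp only [Finset.mem_insert, Finset.mem_singleton] at hw
      rcases hw with rfl | rfl
      · obtain ⟨g, rfl⟩ := hvw
        rw [st_smul, hd, hq]
        have : d = 1 := Nat.dvd_one.mp (by simpa [hq] using hdq)
        rw [this]
      · exact absurd hvw hvo
    · refine Or.inr (Or.inr (Or.inr (Or.inr (Or.inr (Or.inl ?_)))))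
      have hg : Nat.card G = 60 := by rw [← orb_mul_st w₀, hn, hd, hq, hd2]
      exact icosahedral_three hA hg hw01 hsub hcov hq (by rw [hd, hq, hd2]) he hu1
    · refine Or.inr (Or.inr (Or.inr (Or.inr (Or.inr (Or.inr ⟨w₀, hq, hn, ?_⟩)))))
      rcases hdd with rfl | h
      · exact Or.inl hd
      · exact Or.inr (by rw [hd, mul_left_comm, h])
  · push Not at hp
    have hu : ∀ w : X, uc hA w = 1 := fun w => by
      have := hp w; have := uc_pos hA w; omega
    have hO : ∀ w : X, orb G w * wt hA ⊤ w + orb G w = Nat.card G := fun w => by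
      have := orb_mul_wt_top hA w
      rw [hu w, mul_one] at this
      omega
    obtain ⟨a, ha⟩ : ∃ a, a ∈ special G X := by
      haveI : Nontrivial G := Finite.one_lt_card_iff_nontrivial.mp (by omega)
      obtain ⟨g, hg⟩ := exists_ne (1 : G)
      obtain ⟨a, b, hab⟩ := hA.fix_two g hg
      exact ⟨a, g, hg, (hab a).mpr (Or.inl rfl)⟩
    by_cases hb : ∃ b ∈ special G X, b ∉ orbit G a
    swap
    · exfalso
      push Not at hb
      have h := (sum_orbits_le hA ⊤ (R := {a}) (by simpa using ha) (distinct_singleton a)).2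
        (fun v hv => ⟨a, Finset.mem_singleton_self _, hb v hv⟩)
      rw [Finset.sum_singleton, hT] at h
      have := hO a
      have := orb_pos (G := G) a
      omega
    obtain ⟨b, hb, hab⟩ := hb
    have hneab := ne_of_notMem_orbit hab
    have hsub2 : ∀ z ∈ ({a, b} : Finset X), z ∈ special G X := by
      intro z hz
      simp only [Finset.mem_insert, Finset.mem_singleton] at hz
      rcases hz with rfl | rfl <;> assumption
    by_cases hc : ∃ c ∈ special G X, c ∉ orbit G a ∧ c ∉ orbit G b
    swap
    · push Not at hc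
      have h := (sum_orbits_le hA ⊤ hsub2 (distinct_pair hab)).2 (fun v hv => by
        by_cases hva : v ∈ orbit G a
        · exact ⟨a, by simp, hva⟩
        · exact ⟨b, by simp, hc v hv hva⟩)
      rw [Finset.sum_pair hneab, hT] at h
      have := hO a; have := hO b
      have := orb_pos (G := G) a; have := orb_pos (G := G) b
      have hna : orb G a = 1 := by omega
      refine Or.inl (cyclic_of_fixed hA (hu a) fun g => ?_)
      obtain ⟨hs, -⟩ := Nat.card_eq_one_iff_unique.mp hna
      exact congrArg Subtype.val (hs.elim ⟨g • a, mem_orbit a g⟩ ⟨a, mem_orbit_self a⟩)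
    obtain ⟨c, hc, hac, hbc⟩ := hc
    have hR : Distinct G ({a, b, c} : Finset X) := distinct_triple hab hac hbc
    have hsub3 : ∀ z ∈ ({a, b, c} : Finset X), z ∈ special G X := by
      intro z hz
      simp only [Finset.mem_insert, Finset.mem_singleton] at hz
      rcases hz with rfl | rfl | rfl <;> assumption
    have hcov : ∀ v ∈ special G X, ∃ w ∈ ({a, b, c} : Finset X), v ∈ orbit G w := by
      intro v hv
      by_contra hcon
      push Not at hcon
      have h1 := hcon a (by simp)
      have h2 := hcon b (by simp)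
      have h3 := hcon c (by simp)
      have hR4 : Distinct G ({a, b, c, v} : Finset X) := by
        intro x hx y hy hxy
        simp only [Finset.coe_insert, Finset.coe_singleton, Set.mem_insert_iff,
          Set.mem_singleton_iff] at hx hy
        rcases hx with rfl | rfl | rfl | rfl <;> rcases hy with rfl | rfl | rfl | rfl
        all_goals first
          | exact absurd rfl hxy
          | assumption
          | (apply notMem_orbit_symm; assumption)
      have hsub4 : ∀ z ∈ ({a, b, c, v} : Finset X), z ∈ special G X := by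
        intro z hz
        simp only [Finset.mem_insert, Finset.mem_singleton] at hz
        rcases hz with rfl | rfl | rfl | rfl <;> assumption
      have hle := (sum_orbits_le hA ⊤ hsub4 hR4).1
      rw [Finset.sum_insert
          (by simp [hneab, ne_of_notMem_orbit hac, ne_of_notMem_orbit h1]),
        Finset.sum_insert (by simp [ne_of_notMem_orbit hbc, ne_of_notMem_orbit h2]),
        Finset.sum_pair (ne_of_notMem_orbit h3), hT] at hle
      have := group_le_two_mul_wt hA ha; have := group_le_two_mul_wt hA hb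
      have := group_le_two_mul_wt hA hc; have := group_le_two_mul_wt hA hv
      omega
    have heq := (sum_orbits_le hA ⊤ hsub3 hR).2 hcov
    rw [Finset.sum_insert (by simp [hneab, ne_of_notMem_orbit hac]),
      Finset.sum_pair (ne_of_notMem_orbit hbc), hT] at heq
    have hsum : orb G a + orb G b + orb G c = Nat.card G + 2 := by
      have := hO a; have := hO b; have := hO c
      omega
    suffices key : ∀ x y z : X, x ≠ y → x ≠ z → y ≠ z → Distinct G ({x, y, z} : Finset X) →
        (∀ v ∈ ({x, y, z} : Finset X), v ∈ special G X) →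
        (∀ v ∈ special G X, ∃ w ∈ ({x, y, z} : Finset X), v ∈ orbit G w) →
        orb G x + orb G y + orb G z = Nat.card G + 2 →
        st G x ≤ st G y → st G y ≤ st G z → Outcome hA by
      have nac := ne_of_notMem_orbit hac
      have nbc := ne_of_notMem_orbit hbc
      rcases le_total (st G a) (st G b) with h1 | h1 <;>
        rcases le_total (st G b) (st G c) with h2 | h2 <;>
        rcases le_total (st G a) (st G c) with h3 | h3
      · exact key a b c hneab nac nbc hR hsub3 hcov hsum h1 h2
      · exact key a b c hneab nac nbc hR hsub3 hcov hsum h1 h2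
      · have e : ({a, c, b} : Finset X) = {a, b, c} := by ext t; simp only [Finset.mem_insert, Finset.mem_singleton]; tauto
        exact key a c b nac hneab nbc.symm (e ▸ hR) (e ▸ hsub3) (e ▸ hcov) (by omega) h3 h2
      · have e : ({c, a, b} : Finset X) = {a, b, c} := by ext t; simp only [Finset.mem_insert, Finset.mem_singleton]; tauto
        exact key c a b nac.symm nbc.symm hneab (e ▸ hR) (e ▸ hsub3) (e ▸ hcov) (by omega) h3 h1
      · have e : ({b, a, c} : Finset X) = {a, b, c} := by ext t; simp only [Finset.mem_insert, Finset.mem_singleton]; tauto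
        exact key b a c hneab.symm nbc nac (e ▸ hR) (e ▸ hsub3) (e ▸ hcov) (by omega) h1 h3
      · have e : ({b, c, a} : Finset X) = {a, b, c} := by ext t; simp only [Finset.mem_insert, Finset.mem_singleton]; tauto
        exact key b c a nbc hneab.symm nac.symm (e ▸ hR) (e ▸ hsub3) (e ▸ hcov) (by omega) h2 h3
      · have e : ({c, b, a} : Finset X) = {a, b, c} := by ext t; simp only [Finset.mem_insert, Finset.mem_singleton]; tauto
        exact key c b a nbc.symm nac.symm hneab.symm (e ▸ hR) (e ▸ hsub3) (e ▸ hcov) (by omega) h2 h1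
      · have e : ({c, b, a} : Finset X) = {a, b, c} := by ext t; simp only [Finset.mem_insert, Finset.mem_singleton]; tauto
        exact key c b a nbc.symm nac.symm hneab.symm (e ▸ hR) (e ▸ hsub3) (e ▸ hcov) (by omega) h2 h1
    clear ha hb hc hab hac hbc hneab hR hsub3 hcov heq hsum hsub2
    clear a b c
    intro x y z hxy hxz hyz hR hsub hcov hsum h12 h23
    have hx2 := two_le_st (hsub x (by simp))
    have ex := orb_mul_st (G := G) x
    have ey := orb_mul_st (G := G) y
    have ez := orb_mul_st (G := G) z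
    have hzpos := orb_pos (G := G) z
    have hout : ∀ v ∈ special G X, ∀ P : ℕ → Prop, v ∉ orbit G z → P (st G x) → P (st G y) →
        P (st G v) := by
      intro v hv P hvz px py
      obtain ⟨w, hw, hvw⟩ := hcov v hv
      simp only [Finset.mem_insert, Finset.mem_singleton] at hw
      rcases hw with rfl | rfl | rfl
      · obtain ⟨g, rfl⟩ := hvw; rw [st_smul]; exact px
      · obtain ⟨g, rfl⟩ := hvw; rw [st_smul]; exact py
      · exact absurd hvw hvz
    have hsx : st G x = 2 := by
      by_contra h
      have l1 : orb G x * 3 ≤ Nat.card G := ex ▸ Nat.mul_le_mul_left _ (by omega)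
      have l2 : orb G y * 3 ≤ Nat.card G := ey ▸ Nat.mul_le_mul_left _ (by omega)
      have l3 : orb G z * 3 ≤ Nat.card G := ez ▸ Nat.mul_le_mul_left _ (by omega)
      omega
    rw [hsx] at ex
    have hsy : st G y = 2 ∨ st G y = 3 := by
      by_contra h
      have l2 : orb G y * 4 ≤ Nat.card G := ey ▸ Nat.mul_le_mul_left _ (by omega)
      have l3 : orb G z * 4 ≤ Nat.card G := ez ▸ Nat.mul_le_mul_left _ (by omega)
      omega
    rcases hsy with hsy | hsy
    · rw [hsy] at ey
      have hnz : orb G z = 2 := by omega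
      exact Or.inr (Or.inr (Or.inl (dihedral_of hA hnz (hu z) (by omega)
        fun v hv hvz => hout v hv (· = 2) hvz hsx hsy)))
    · rw [hsy] at ey
      have hsz : st G z < 6 := by
        by_contra h
        have l3 : orb G z * 6 ≤ Nat.card G := ez ▸ Nat.mul_le_mul_left _ (by omega)
        omega
      have hge : 3 ≤ st G z := hsy ▸ h23
      obtain hsz | hsz | hsz : st G z = 3 ∨ st G z = 4 ∨ st G z = 5 := by omega
      all_goals rw [hsz] at ez
      · refine Or.inr (Or.inr (Or.inr (Or.inl ?_)))
        exact tetrahedral_of hA (w := y) (by omega) (by omega)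
      · refine Or.inr (Or.inr (Or.inr (Or.inr (Or.inl ?_))))
        refine octahedral_of hA (w := y) (by omega) hsy (hu y) (by omega) fun v hv hvy => ?_
        obtain ⟨w, hw, hvw⟩ := hcov v hv
        simp only [Finset.mem_insert, Finset.mem_singleton] at hw
        rcases hw with rfl | rfl | rfl
        · obtain ⟨g, rfl⟩ := hvw; rw [st_smul, hsx]; omega
        · exact absurd hvw hvy
        · obtain ⟨g, rfl⟩ := hvw; rw [st_smul, hsz]; omega
      · refine Or.inr (Or.inr (Or.inr (Or.inr (Or.inr (Or.inl ?_)))))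
        exact icosahedral_of hA (by omega) hR hxy hxz hyz hsub hcov hsx hsy hsz hu

end Cfsg.Agent.Dickson
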