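import Mathlib

/-!
Rigidity of pairs of `2 × 2` matrices: an irreducible pair is determined up to conjugation by its
five basic invariants.
-/

set_option autoImplicit false
set_option linter.unusedSectionVars false

namespace Cfsg.Agent.Dickson

open Matrix

variable {R : Type*} [CommRing R]

/-- The determinant of the commutator of two matrices. -/
theorem det_comm_eq (X Y : Matrix (Fin 2) (Fin 2) R) :
    (X * Y - Y * X).det = -((X * Y).trace ^ 2 - X.trace * Y.trace * (X * Y).trace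
      + Y.det * X.trace ^ 2 + X.det * Y.trace ^ 2 - 4 * X.det * Y.det) := by
  simp [det_fin_two, trace_fin_two, Matrix.mul_apply, Fin.sum_univ_two]
  ring

variable {k : Type*} [Field k]

theorem det_comm_eq_zero_of_common {X Y : Matrix (Fin 2) (Fin 2) k} {v : Fin 2 → k} {a b : k}
    (hv : v ≠ 0) (hX : X *ᵥ v = a • v) (hY : Y *ᵥ v = b • v) : (X * Y - Y * X).det = 0 := by
  apply Matrix.exists_mulVec_eq_zero_iff.mp
  refine ⟨v, hv, ?_⟩
  rw [sub_mulVec, ← mulVec_mulVec, ← mulVec_mulVec, hX, hY, mulVec_smul, mulVec_smul, hX, hY,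
    smul_smul, smul_smul, mul_comm, sub_self]

theorem exists_eigvec [IsAlgClosed k] (X : Matrix (Fin 2) (Fin 2) k) (a : k)
    (ha : a ^ 2 - X.trace * a + X.det = 0) : ∃ v : Fin 2 → k, v ≠ 0 ∧ X *ᵥ v = a • v := by
  have h : (X - a • (1 : Matrix (Fin 2) (Fin 2) k)).det = 0 := by
    rw [det_fin_two]
    rw [det_fin_two, trace_fin_two] at ha
    simp
    linear_combination ha
  obtain ⟨v, hv, hv'⟩ := Matrix.exists_mulVec_eq_zero_iff.mpr h
  refine ⟨v, hv, ?_⟩
  rwa [sub_mulVec, smul_mulVec, one_mulVec, sub_eq_zero] at hv'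

theorem exists_root_quadratic [IsAlgClosed k] (s d : k) : ∃ a : k, a ^ 2 - s * a + d = 0 := by
  open Polynomial in
  obtain ⟨a, ha⟩ := IsAlgClosed.exists_root (C 1 * X ^ 2 + C (-s) * X + C d) (by
    rw [degree_quadratic one_ne_zero]; decide)
  refine ⟨a, ?_⟩
  simp only [Polynomial.IsRoot.def, Polynomial.eval_add, Polynomial.eval_mul, Polynomial.eval_C,
    Polynomial.eval_pow, Polynomial.eval_X] at ha
  linear_combination ha

/-- An irreducible pair in canonical form. -/
theorem exists_canonical [IsAlgClosed k] (X Y : Matrix (Fin 2) (Fin 2) k)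
    (h : (X * Y - Y * X).det ≠ 0) (a b : k) (ha : a ^ 2 - X.trace * a + X.det = 0)
    (hb : b ^ 2 - Y.trace * b + Y.det = 0) :
    ∃ (P : Matrix (Fin 2) (Fin 2) k) (r : k), P.det ≠ 0 ∧ r ≠ 0 ∧
      r = (X * Y).trace - a * (Y.trace - b) - (X.trace - a) * b ∧
      X * P = P * !![a, 1; 0, X.trace - a] ∧ Y * P = P * !![Y.trace - b, 0; r, b] := by
  obtain ⟨v, hv, hXv⟩ := exists_eigvec X a ha
  obtain ⟨w, hw, hYw⟩ := exists_eigvec Y b hb
  obtain ⟨P, hP⟩ : ∃ P : Matrix (Fin 2) (Fin 2) k, P = !![v 0, w 0; v 1, w 1] := ⟨_, rfl⟩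
  have hdet : P.det ≠ 0 := by
    intro h0
    rw [hP, det_fin_two_of] at h0
    apply h
    have hcolin : ∃ c : k, w = c • v := by
      by_cases hv0 : v 0 = 0
      · have hv1 : v 1 ≠ 0 := fun hv1 => hv (funext fun i => by fin_cases i <;> assumption)
        refine ⟨w 1 / v 1, funext fun i => ?_⟩
        have hw0 : w 0 = 0 := by
          rw [hv0, zero_mul, zero_sub, neg_eq_zero] at h0
          exact (mul_eq_zero.mp h0).resolve_right hv1
        fin_cases i <;> simp [hv0, hw0, hv1]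
      · refine ⟨w 0 / v 0, funext fun i => ?_⟩
        fin_cases i <;> simp [hv0]
        field_simp
        linear_combination h0
    obtain ⟨c, rfl⟩ := hcolin
    have hc : c ≠ 0 := fun hc => hw (by rw [hc, zero_smul])
    refine det_comm_eq_zero_of_common hv hXv (b := b) ?_
    rw [mulVec_smul, smul_comm] at hYw
    exact smul_right_injective _ hc hYw
  obtain ⟨M, hM⟩ : ∃ M, M = P⁻¹ * X * P := ⟨_, rfl⟩
  obtain ⟨N, hN⟩ : ∃ N, N = P⁻¹ * Y * P := ⟨_, rfl⟩
  have hu : IsUnit P.det := isUnit_iff_ne_zero.mpr hdet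
  have hXP : X * P = P * M := by
    rw [hM, Matrix.mul_assoc P⁻¹, Matrix.mul_nonsing_inv_cancel_left _ _ hu]
  have hYP : Y * P = P * N := by
    rw [hN, Matrix.mul_assoc P⁻¹, Matrix.mul_nonsing_inv_cancel_left _ _ hu]
  have hMtr : M.trace = X.trace := by
    rw [hM, trace_mul_cycle, Matrix.mul_nonsing_inv _ hu, Matrix.one_mul]
  have hNtr : N.trace = Y.trace := by
    rw [hN, trace_mul_cycle, Matrix.mul_nonsing_inv _ hu, Matrix.one_mul]
  have hPe0 : P *ᵥ ![1, 0] = v := by rw [hP]; ext i; fin_cases i <;> simp [mulVec, dotProduct]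
  have hPe1 : P *ᵥ ![0, 1] = w := by rw [hP]; ext i; fin_cases i <;> simp [mulVec, dotProduct]
  have hMe : M *ᵥ ![1, 0] = a • ![1, 0] := by
    rw [hM, ← mulVec_mulVec, ← mulVec_mulVec, hPe0, hXv, ← hPe0, mulVec_smul, mulVec_mulVec,
      Matrix.nonsing_inv_mul _ hu, one_mulVec]
  have hNe : N *ᵥ ![0, 1] = b • ![0, 1] := by
    rw [hN, ← mulVec_mulVec, ← mulVec_mulVec, hPe1, hYw, ← hPe1, mulVec_smul, mulVec_mulVec,
      Matrix.nonsing_inv_mul _ hu, one_mulVec]
  have m00 : M 0 0 = a := by simpa [mulVec, dotProduct] using congrFun hMe 0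
  have m10 : M 1 0 = 0 := by simpa [mulVec, dotProduct] using congrFun hMe 1
  have n11 : N 1 1 = b := by simpa [mulVec, dotProduct] using congrFun hNe 1
  have n01 : N 0 1 = 0 := by simpa [mulVec, dotProduct] using congrFun hNe 0
  have m11 : M 1 1 = X.trace - a := by rw [← hMtr, trace_fin_two, m00]; ring
  have n00 : N 0 0 = Y.trace - b := by rw [← hNtr, trace_fin_two, n11]; ring
  have hMN : M * N = P⁻¹ * (X * Y) * P := by
    rw [hM, hN]
    simp only [Matrix.mul_assoc, Matrix.mul_nonsing_inv_cancel_left _ _ hu]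
  have hu' : (X * Y).trace = a * (Y.trace - b) + M 0 1 * N 1 0 + (X.trace - a) * b := by
    have : (M * N).trace = (X * Y).trace := by
      rw [hMN, trace_mul_cycle, Matrix.mul_nonsing_inv _ hu, Matrix.one_mul]
    rw [← this, trace_fin_two]
    simp [Matrix.mul_apply, Fin.sum_univ_two, m00, m10, m11, n00, n01, n11]
  have h01 : M 0 1 * N 1 0 ≠ 0 := by
    intro h0
    apply h
    have hd : ∀ Z, (P⁻¹ * Z * P).det = Z.det := fun Z => by
      rw [det_mul, det_mul, Matrix.det_nonsing_inv]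
      rw [Ring.inverse_eq_inv', mul_right_comm, inv_mul_cancel₀ hdet, one_mul]
    rw [← hd, show P⁻¹ * (X * Y - Y * X) * P = M * N - N * M by
      rw [hMN, hM, hN, Matrix.mul_sub, Matrix.sub_mul]
      simp only [Matrix.mul_assoc, Matrix.mul_nonsing_inv_cancel_left _ _ hu]]
    rcases mul_eq_zero.mp h0 with e | e <;>
      simp [det_fin_two, Matrix.mul_apply, Fin.sum_univ_two, m00, m10, m11, n00, n01, n11, e] <;> ring_nf <;> simp
  obtain ⟨hm01, hn10⟩ := mul_ne_zero_iff.mp h01
  refine ⟨P * !![M 0 1, 0; 0, 1], M 0 1 * N 1 0, ?_, h01, by rw [hu']; ring, ?_, ?_⟩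
  · rw [det_mul, det_fin_two_of]; simp [hdet, hm01]
  · rw [← Matrix.mul_assoc, hXP, Matrix.mul_assoc, Matrix.mul_assoc]
    congr 1
    ext i j; fin_cases i <;> fin_cases j <;>
      simp [Matrix.mul_apply, Fin.sum_univ_two, m00, m10, m11, mul_comm]
  · rw [← Matrix.mul_assoc, hYP, Matrix.mul_assoc, Matrix.mul_assoc]
    congr 1
    ext i j; fin_cases i <;> fin_cases j <;>
      simp [Matrix.mul_apply, Fin.sum_univ_two, n00, n01, n11, mul_comm]

/-- **Rigidity.** Two irreducible pairs with the same invariants are conjugate over the field. -/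
theorem rigid {F : Type*} [Field F] (X Y X' Y' : Matrix (Fin 2) (Fin 2) F)
    (h : (X * Y - Y * X).det ≠ 0) (h1 : X.trace = X'.trace) (h2 : X.det = X'.det)
    (h3 : Y.trace = Y'.trace) (h4 : Y.det = Y'.det) (h5 : (X * Y).trace = (X' * Y').trace) :
    ∃ G : GL (Fin 2) F, (G : Matrix (Fin 2) (Fin 2) F) * X = X' * G ∧
      (G : Matrix (Fin 2) (Fin 2) F) * Y = Y' * G := by
  let k := AlgebraicClosure F
  let f : F →+* k := algebraMap F k
  let e := f.mapMatrix (m := Fin 2)
  have htr : ∀ Z : Matrix (Fin 2) (Fin 2) F, (e Z).trace = f Z.trace := fun Z => by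
    simp [e, trace_fin_two]
  have hdt : ∀ Z : Matrix (Fin 2) (Fin 2) F, (e Z).det = f Z.det := fun Z => (f.map_det Z).symm
  have hc : ∀ A B : Matrix (Fin 2) (Fin 2) F, (A * B - B * A).det ≠ 0 →
      (e A * e B - e B * e A).det ≠ 0 := fun A B hAB => by
    rw [← map_mul, ← map_mul, ← map_sub, hdt]
    exact (map_ne_zero f).mpr hAB
  have h' : (X' * Y' - Y' * X').det ≠ 0 := by
    rw [det_comm_eq, ← h1, ← h2, ← h3, ← h4, ← h5, ← det_comm_eq]; exact h
  obtain ⟨a, ha⟩ := exists_root_quadratic (e X).trace (e X).det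
  obtain ⟨b, hb⟩ := exists_root_quadratic (e Y).trace (e Y).det
  obtain ⟨P, r, hP, hr, hrdef, hX, hY⟩ := exists_canonical (e X) (e Y) (hc _ _ h) a b ha hb
  have et : (e X').trace = (e X).trace := by rw [htr, htr, h1]
  have ed : (e X').det = (e X).det := by rw [hdt, hdt, h2]
  have et' : (e Y').trace = (e Y).trace := by rw [htr, htr, h3]
  have ed' : (e Y').det = (e Y).det := by rw [hdt, hdt, h4]
  obtain ⟨P', r', hP', -, hrdef', hX', hY'⟩ := exists_canonical (e X') (e Y') (hc _ _ h') a b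
    (by rw [et, ed]; exact ha) (by rw [et', ed']; exact hb)
  have er : r' = r := by
    rw [hrdef', hrdef, et, et', ← map_mul, ← map_mul, htr (X' * Y'), htr (X * Y), h5]
  rw [et] at hX'
  rw [et', er] at hY'
  obtain ⟨G, hG⟩ : ∃ G, G = P' * P⁻¹ := ⟨_, rfl⟩
  have hu : IsUnit P.det := isUnit_iff_ne_zero.mpr hP
  have hGX : G * e X = e X' * G := by
    rw [hG, ← Matrix.mul_assoc, hX', Matrix.mul_assoc, Matrix.mul_assoc]
    congr 1
    calc P⁻¹ * e X = P⁻¹ * (e X * P) * P⁻¹ := by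
          rw [Matrix.mul_assoc, Matrix.mul_assoc, Matrix.mul_nonsing_inv _ hu, Matrix.mul_one]
      _ = _ := by rw [hX, Matrix.nonsing_inv_mul_cancel_left _ _ hu]
  have hGY : G * e Y = e Y' * G := by
    rw [hG, ← Matrix.mul_assoc, hY', Matrix.mul_assoc, Matrix.mul_assoc]
    congr 1
    calc P⁻¹ * e Y = P⁻¹ * (e Y * P) * P⁻¹ := by
          rw [Matrix.mul_assoc, Matrix.mul_assoc, Matrix.mul_nonsing_inv _ hu, Matrix.mul_one]
      _ = _ := by rw [hY, Matrix.nonsing_inv_mul_cancel_left _ _ hu]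
  have hGdet : G.det ≠ 0 := by
    rw [hG, det_mul, Matrix.det_nonsing_inv, Ring.inverse_eq_inv']
    exact mul_ne_zero hP' (inv_ne_zero hP)
  -- descend along a linear functional
  obtain ⟨i₀, j₀, hne⟩ : ∃ i j, G i j ≠ 0 := by
    by_contra hcon
    push Not at hcon
    exact hGdet (by rw [show G = 0 from Matrix.ext hcon]; simp)
  obtain ⟨φ, hφ⟩ : ∃ φ : k →ₗ[F] F, φ (G i₀ j₀) = 1 := by
    obtain ⟨g, hg⟩ := LinearMap.exists_extend (p := Submodule.span F {G i₀ j₀})
      (LinearEquiv.toSpanNonzeroSingleton F k (G i₀ j₀) hne).symm.toLinearMap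
    refine ⟨g, ?_⟩
    have := LinearMap.congr_fun hg ⟨G i₀ j₀, Submodule.mem_span_singleton_self _⟩
    simp only [LinearMap.comp_apply, Submodule.subtype_apply] at this
    rw [this]
    show (LinearEquiv.toSpanNonzeroSingleton F k (G i₀ j₀) hne).symm _ = 1
    rw [LinearEquiv.symm_apply_eq]
    ext
    simp
  let H : Matrix (Fin 2) (Fin 2) F := fun i j => φ (G i j)
  have hHl : ∀ Z Z' : Matrix (Fin 2) (Fin 2) F, G * e Z = e Z' * G → H * Z = Z' * H := by
    intro Z Z' hZ
    ext i j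
    have h0 := congrArg (fun M : Matrix (Fin 2) (Fin 2) k => φ (M i j)) hZ
    have e1 : ∀ (x : k) (c : F), φ (x * f c) = φ x * c := fun x c => by
      rw [mul_comm x, ← Algebra.smul_def, map_smul, smul_eq_mul, mul_comm]
    have e2 : ∀ (x : k) (c : F), φ (f c * x) = c * φ x := fun x c => by
      rw [← Algebra.smul_def, map_smul, smul_eq_mul]
    simp only [Matrix.mul_apply, Fin.sum_univ_two, e, RingHom.mapMatrix_apply, Matrix.map_apply,
      map_add, e1, e2] at h0
    rw [Matrix.mul_apply, Matrix.mul_apply, Fin.sum_univ_two, Fin.sum_univ_two]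
    exact h0
  have hHX := hHl X X' hGX
  have hHY := hHl Y Y' hGY
  -- `G⁻¹ H` commutes with an irreducible pair, so it is a scalar
  obtain ⟨S, hS⟩ : ∃ S, S = P'⁻¹ * e H * P := ⟨_, rfl⟩
  have hu' : IsUnit P'.det := isUnit_iff_ne_zero.mpr hP'
  have key : ∀ (Z Z' : Matrix (Fin 2) (Fin 2) F) (C : Matrix (Fin 2) (Fin 2) k),
      H * Z = Z' * H → e Z * P = P * C → e Z' * P' = P' * C → S * C = C * S := by
    intro Z Z' C hZ hC hC'
    have h0 : e H * e Z = e Z' * e H := by rw [← map_mul, ← map_mul, hZ]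
    have hC'' : P'⁻¹ * e Z' = C * P'⁻¹ := by
      calc P'⁻¹ * e Z' = P'⁻¹ * (e Z' * P') * P'⁻¹ := by
            rw [Matrix.mul_assoc, Matrix.mul_assoc, Matrix.mul_nonsing_inv _ hu', Matrix.mul_one]
        _ = C * P'⁻¹ := by rw [hC', Matrix.nonsing_inv_mul_cancel_left _ _ hu']
    rw [hS, Matrix.mul_assoc (P'⁻¹ * e H), ← hC, ← Matrix.mul_assoc, Matrix.mul_assoc P'⁻¹, h0,
      ← Matrix.mul_assoc, hC'', Matrix.mul_assoc C, Matrix.mul_assoc C]
  have k1 := key X X' _ hHX hX hX'
  have k2 := key Y Y' _ hHY hY hY'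
  have s10 : S 1 0 = 0 := by
    have := congrArg (fun M : Matrix (Fin 2) (Fin 2) k => M 0 0) k1
    simpa [Matrix.mul_apply, Fin.sum_univ_two, mul_comm] using this
  have s01 : S 0 1 = 0 := by
    have := congrArg (fun M : Matrix (Fin 2) (Fin 2) k => M 0 0) k2
    simpa [Matrix.mul_apply, Fin.sum_univ_two, mul_comm, hr] using this
  have s11 : S 1 1 = S 0 0 := by
    have := congrArg (fun M : Matrix (Fin 2) (Fin 2) k => M 0 1) k1
    simp [Matrix.mul_apply, Fin.sum_univ_two, s01] at this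
    exact this.symm
  have hHG : e H = S 0 0 • G := by
    have hS1 : S = S 0 0 • (1 : Matrix (Fin 2) (Fin 2) k) := by
      ext i j; fin_cases i <;> fin_cases j <;> simp [s10, s01, s11]
    calc e H = P' * S * P⁻¹ := by
          rw [hS, Matrix.mul_assoc P'⁻¹, Matrix.mul_nonsing_inv_cancel_left _ _ hu',
            Matrix.mul_assoc, Matrix.mul_nonsing_inv _ hu, Matrix.mul_one]
      _ = S 0 0 • G := by
          conv_lhs => rw [hS1]
          rw [Matrix.mul_smul, Matrix.mul_one, Matrix.smul_mul, hG]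
  have hs0 : S 0 0 ≠ 0 := by
    intro h0
    have := congrArg (fun M : Matrix (Fin 2) (Fin 2) k => M i₀ j₀) hHG
    simp only [h0, zero_smul, Matrix.zero_apply] at this
    have h9 : f (φ (G i₀ j₀)) = 0 := this
    rw [hφ, map_one] at h9
    exact one_ne_zero h9
  have hHdet : H.det ≠ 0 := by
    intro h0
    have := congrArg Matrix.det hHG
    rw [hdt, h0, map_zero, det_smul] at this
    exact mul_ne_zero (pow_ne_zero _ hs0) hGdet this.symm
  exact ⟨Matrix.GeneralLinearGroup.mkOfDetNeZero H hHdet, hHX, hHY⟩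

theorem exists_square_add [Finite k] (h2 : (2 : k) ≠ 0) {A : k} (hA : A ≠ 0) (b c e : k) :
    ∃ x y : k, x ^ 2 + A * y ^ 2 + b * x + c * y = e := by
  have := Fintype.ofFinite k
  obtain ⟨x, y, h⟩ := FiniteField.exists_root_sum_quadratic
    (f := Polynomial.C 1 * Polynomial.X ^ 2 + Polynomial.C b * Polynomial.X + Polynomial.C 0)
    (g := Polynomial.C A * Polynomial.X ^ 2 + Polynomial.C c * Polynomial.X + Polynomial.C (-e))
    (Polynomial.degree_quadratic one_ne_zero) (Polynomial.degree_quadratic hA)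
    (Nat.odd_iff.mp (Nat.not_even_iff_odd.mp fun he => h2 (by
      have : ringChar k = 2 := FiniteField.even_card_iff_char_two.mpr (Nat.even_iff.mp he)
      exact_mod_cast (ringChar.spec k 2).mpr (by rw [this]))))
  exact ⟨x, y, by simp at h; linear_combination h⟩

/-- Pairs with prescribed invariants, the first trace being zero. -/
theorem exists_pair [Finite k] (h2 : (2 : k) ≠ 0) {dX : k} (hdX : dX ≠ 0) (t dY u : k) :
    ∃ X Y : Matrix (Fin 2) (Fin 2) k, X.trace = 0 ∧ X.det = dX ∧ Y.trace = t ∧ Y.det = dY ∧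
      (X * Y).trace = u := by
  obtain ⟨a, c, h⟩ := exists_square_add h2 hdX (-t) u (-dY)
  refine ⟨!![0, -dX; 1, 0], !![a, u + dX * c; c, t - a], by simp [trace_fin_two],
    by simp [det_fin_two_of], by simp [trace_fin_two], ?_, ?_⟩
  · rw [det_fin_two_of]; linear_combination -h
  · simp [trace_fin_two, Matrix.mul_apply, Fin.sum_univ_two]

end Cfsg.Agent.Dickson
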