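import Cfsg.Agent.Lib.Dickson.Maximal
import Cfsg.Agent.Lib.Dickson.Rigid
import Cfsg.Agent.S0307

/-!
Conjugating subgroups of `PSL₂(F)` into subfield subgroups.
-/

set_option autoImplicit false
set_option linter.unusedSectionVars false

namespace Cfsg.Agent.Dickson

open Matrix
open scoped MatrixGroups

variable {F : Type*} [Field F] [Fintype F]

/-- `PSL₂ → PGL₂`. -/
noncomputable abbrev toP (F : Type*) [Field F] : PSL2 F →* ProjGenLinGroup (Fin 2) F :=
  ProjectiveSpecialLinearGroup.toPGL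

theorem toP_injective : Function.Injective (toP F) := ProjectiveSpecialLinearGroup.toPGL_injective

theorem toP_range_normal : (toP F).range.Normal := by
  obtain ⟨g, -, hg⟩ := S0307.result (F := F) rfl 2 (by norm_num)
  rw [← hg]
  infer_instance

/-- The elements of `PSL₂` conjugate by `D` into `S`. -/
noncomputable def pullBack (D : ProjGenLinGroup (Fin 2) F) (S : Subgroup (ProjGenLinGroup (Fin 2) F)) :
    Subgroup (PSL2 F) :=
  S.comap ((MulAut.conj D⁻¹).toMonoidHom.comp (toP F))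

theorem mem_pullBack {D : ProjGenLinGroup (Fin 2) F} {S : Subgroup (ProjGenLinGroup (Fin 2) F)}
    {g : PSL2 F} : g ∈ pullBack D S ↔ D⁻¹ * toP F g * D ∈ S := by
  show D⁻¹ * toP F g * D⁻¹⁻¹ ∈ S ↔ _
  rw [inv_inv]

theorem pullBack_mono {D : ProjGenLinGroup (Fin 2) F} {S S' : Subgroup (ProjGenLinGroup (Fin 2) F)}
    (h : S ≤ S') : pullBack D S ≤ pullBack D S' := Subgroup.comap_mono h

theorem card_pullBack_le (D : ProjGenLinGroup (Fin 2) F) (S : Subgroup (ProjGenLinGroup (Fin 2) F)) :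
    Nat.card (pullBack D S) ≤ Nat.card S := by
  haveI : Finite (ProjGenLinGroup (Fin 2) F) := Finite.of_surjective _ ProjGenLinGroup.mk_surjective
  refine Nat.card_le_card_of_injective
    (fun g : pullBack D S => (⟨D⁻¹ * toP F g * D, mem_pullBack.mp g.2⟩ : S)) fun x y h => ?_
  exact Subtype.ext (toP_injective (mul_left_cancel (mul_right_cancel (congrArg Subtype.val h))))

theorem exists_pullBack_equiv (D : ProjGenLinGroup (Fin 2) F)
    {S : Subgroup (ProjGenLinGroup (Fin 2) F)} (h : S ≤ (toP F).range) :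
    Nonempty (pullBack D S ≃* S) := by
  let φ : pullBack D S →* S :=
    ((MulAut.conj D⁻¹).toMonoidHom.comp ((toP F).comp (pullBack D S).subtype)).codRestrict S
      (fun g => g.2)
  refine ⟨MulEquiv.ofBijective φ ⟨fun x y e => ?_, fun s => ?_⟩⟩
  · exact Subtype.ext (toP_injective ((MulAut.conj D⁻¹).injective (congrArg Subtype.val e)))
  · obtain ⟨g, hg⟩ := toP_range_normal.conj_mem _ (h s.2) D
    have e : D⁻¹ * toP F g * D = s := by rw [hg]; group
    refine ⟨⟨g, mem_pullBack.mpr (by rw [e]; exact s.2)⟩, Subtype.ext ?_⟩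
    show D⁻¹ * toP F g * D⁻¹⁻¹ = s
    rw [inv_inv, e]

theorem card_le_pullBack (D : ProjGenLinGroup (Fin 2) F)
    {S S' : Subgroup (ProjGenLinGroup (Fin 2) F)} (hS : S' ≤ S) (h : S' ≤ (toP F).range) :
    Nat.card S' ≤ Nat.card (pullBack D S) := by
  obtain ⟨e⟩ := exists_pullBack_equiv D h
  rw [← Nat.card_congr e.toEquiv]
  exact Subgroup.card_le_of_le (pullBack_mono hS)

/-- `PGL₂(T)` inside `PGL₂(F)`. -/
noncomputable abbrev pglImage (T : Subfield F) : Subgroup (ProjGenLinGroup (Fin 2) F) :=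
  (ProjGenLinGroup.map (n := Fin 2) T.subtype).range

theorem card_pglImage (T : Subfield F) :
    Nat.card (pglImage T) = Nat.card T * (Nat.card T ^ 2 - 1) := by
  haveI : Fintype T := Fintype.ofFinite T
  rw [← Nat.card_congr (MonoidHom.ofInjective (map_pgl_injective (T := T))).toEquiv, S0265.result,
    LinearGroup.card_SL_two]

theorem pglImage_mono {T T' : Subfield F} (h : T ≤ T') : pglImage T ≤ pglImage T' := by
  rintro _ ⟨g, rfl⟩
  exact ⟨ProjGenLinGroup.map (n := Fin 2) (Subfield.inclusion h) g,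
    (DFunLike.congr_fun (ProjGenLinGroup.map_comp (n := Fin 2) (Subfield.inclusion h) T'.subtype) g).symm⟩

theorem card_psl_le_pullBack (D : ProjGenLinGroup (Fin 2) F) (T : Subfield F) :
    Nat.card (PSL2 T) ≤ Nat.card (pullBack D (pglImage T)) := by
  let φ : PSL2 T →* ProjGenLinGroup (Fin 2) F := (toP F).comp (extend T.subtype)
  have hφ : Function.Injective φ := toP_injective.comp (extend_injective _)
  rw [Nat.card_congr (MonoidHom.ofInjective hφ).toEquiv]
  refine card_le_pullBack D ?_ ?_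
  · rintro _ ⟨g, rfl⟩
    obtain ⟨A, rfl⟩ := QuotientGroup.mk_surjective g
    refine ⟨ProjGenLinGroup.mk (Matrix.SpecialLinearGroup.toGL A), ?_⟩
    rw [ProjGenLinGroup.map_mk]
    show _ = ProjGenLinGroup.mk (Matrix.SpecialLinearGroup.toGL (Matrix.SpecialLinearGroup.map T.subtype A))
    congr 1
    ext i j
    rfl
  · rintro _ ⟨g, rfl⟩
    exact ⟨_, rfl⟩

theorem pglImage_le_range {T : Subfield F} (hT : ∀ x : T, IsSquare ((x : F))) :
    pglImage T ≤ (toP F).range := by
  haveI : Fintype T := Fintype.ofFinite T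
  rintro _ ⟨g, rfl⟩
  obtain ⟨M, rfl⟩ := ProjGenLinGroup.mk_surjective g
  obtain ⟨r, hr⟩ := hT (M : Matrix (Fin 2) (Fin 2) T).det
  have hd : (M : Matrix (Fin 2) (Fin 2) T).det ≠ 0 :=
    ((Matrix.isUnit_iff_isUnit_det _).mp M.isUnit).ne_zero
  have hr0 : r ≠ 0 := fun e => hd (Subtype.ext (by rw [hr, e, mul_zero]; rfl))
  let N : SL(2, F) := ⟨r⁻¹ • (T.subtype.mapMatrix (M : Matrix (Fin 2) (Fin 2) T)), by
    rw [Matrix.det_smul, ← RingHom.map_det, Subfield.subtype_apply, hr, Fintype.card_fin]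
    field_simp⟩
  refine ⟨QuotientGroup.mk N, ?_⟩
  show ProjGenLinGroup.mk (Matrix.SpecialLinearGroup.toGL N) = _
  rw [ProjGenLinGroup.map_mk, ProjGenLinGroup.mk_eq_mk_iff]
  refine ⟨Units.mk0 r hr0, Units.ext (Matrix.ext fun i j => ?_)⟩
  fin_cases i <;> fin_cases j <;>
    simp [N, Matrix.mul_apply, Fin.sum_univ_two, GeneralLinearGroup.coe_scalar,
      Matrix.SpecialLinearGroup.toGL, GeneralLinearGroup.map] <;> field_simp

theorem isSquare_subfield {T : Subfield F} {m : ℕ} (h : Nat.card T ^ m = Fintype.card F) (hm : Even m)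
    (x : T) : IsSquare (x : F) := by
  haveI : Fintype T := Fintype.ofFinite T
  rw [Nat.card_eq_fintype_card] at h
  exact isSquare_map h hm T.subtype x

theorem pullBack_pgl_equiv (D : ProjGenLinGroup (Fin 2) F) {T : Subfield F} {m : ℕ}
    (h : Nat.card T ^ m = Fintype.card F) (hm : Even m) :
    Nonempty (pullBack D (pglImage T) ≃* ProjGenLinGroup (Fin 2) T) := by
  obtain ⟨e⟩ := exists_pullBack_equiv D (pglImage_le_range (isSquare_subfield h hm))
  exact ⟨e.trans (MonoidHom.ofInjective (map_pgl_injective (T := T))).symm⟩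

theorem pow_card_subfield {T : Subfield F} (x : F) (hx : x ∈ T) : x ^ Nat.card T = x := by
  haveI : Fintype T := Fintype.ofFinite T
  rw [Nat.card_eq_fintype_card]
  exact congrArg Subtype.val (FiniteField.pow_card (⟨x, hx⟩ : T))

theorem mem_subfield_iff {T : Subfield F} (x : F) : x ∈ T ↔ x ^ Nat.card T = x := by
  classical
  refine ⟨pow_card_subfield x, fun hx => ?_⟩
  haveI : Fintype T := Fintype.ofFinite T
  have h1 : 1 < Nat.card T := Finite.one_lt_card
  set P : Polynomial F := Polynomial.X ^ Nat.card T - Polynomial.X with hP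
  have hP0 : P ≠ 0 := FiniteField.X_pow_card_sub_X_ne_zero F h1
  have hsub : Finset.univ.image (fun a : T => (a : F)) ⊆ P.roots.toFinset := by
    intro a ha
    obtain ⟨b, -, rfl⟩ := Finset.mem_image.mp ha
    rw [Multiset.mem_toFinset, Polynomial.mem_roots hP0]
    simp [hP, pow_card_subfield _ b.2, -Nat.card_eq_fintype_card]
  have hcard : (P.roots.toFinset).card ≤ (Finset.univ.image (fun a : T => (a : F))).card := by
    rw [Finset.card_image_of_injective _ Subtype.val_injective, Finset.card_univ,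
      ← Nat.card_eq_fintype_card]
    exact (Multiset.toFinset_card_le _).trans ((Polynomial.card_roots' P).trans
      (FiniteField.X_pow_card_sub_X_natDegree_eq F h1).le)
  have hmem : x ∈ P.roots.toFinset := by
    rw [Multiset.mem_toFinset, Polynomial.mem_roots hP0]
    simp [hP, hx, -Nat.card_eq_fintype_card]
  rw [← Finset.eq_of_subset_of_card_le hsub hcard] at hmem
  obtain ⟨b, -, rfl⟩ := Finset.mem_image.mp hmem
  exact b.2

theorem le_of_card_pow {T T' : Subfield F} {r : ℕ} (h : Nat.card T' = Nat.card T ^ r) : T ≤ T' := by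
  intro x hx
  rw [mem_subfield_iff, h]
  clear h
  induction r with
  | zero => simp
  | succ r ih => rw [pow_succ, pow_mul, ih, pow_card_subfield x hx]

theorem exists_subfield_card {r m : ℕ} {p a : ℕ} [Fact p.Prime] (ha : 1 ≤ a)
    (h : (p ^ a) ^ (r * m) = Fintype.card F) (hr : 1 ≤ r) :
    ∃ T : Subfield F, Nat.card T = (p ^ a) ^ r := by
  haveI : Fintype (GaloisField p (a * r)) := Fintype.ofFinite _
  have hc : Fintype.card (GaloisField p (a * r)) = (p ^ a) ^ r := by
    rw [← Nat.card_eq_fintype_card, GaloisField.card p _ (Nat.mul_ne_zero (by omega) (by omega)), pow_mul]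
  obtain ⟨f⟩ := exists_ringHom (F := F) (K := GaloisField p (a * r)) (m := m) (by rw [hc, ← pow_mul, h])
  refine ⟨f.fieldRange, ?_⟩
  rw [← hc, ← Nat.card_eq_fintype_card]
  exact (Nat.card_congr f.rangeRestrictFieldEquiv.toEquiv).symm

/-- Intermediate fields. -/
theorem exists_intermediate {T : Subfield F} {m r : ℕ} (h : Nat.card T ^ m = Fintype.card F)
    (hr : r ∣ m) (hr0 : 1 ≤ r) : ∃ T' : Subfield F, T ≤ T' ∧ Nat.card T' = Nat.card T ^ r := by
  haveI : Fintype T := Fintype.ofFinite T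
  obtain ⟨p, hp⟩ := CharP.exists T
  obtain ⟨a, hpp, hT⟩ := FiniteField.card T p
  haveI := Fact.mk hpp
  obtain ⟨c, rfl⟩ := hr
  rw [Nat.card_eq_fintype_card, hT] at h
  obtain ⟨T', hT'⟩ := exists_subfield_card (F := F) (p := p) (a := a) a.pos h hr0
  have : Nat.card T' = Nat.card T ^ r := by rw [hT', Nat.card_eq_fintype_card, hT]
  exact ⟨T', le_of_card_pow this, this⟩

theorem pgl_card_lt {t : ℕ} (h2 : 2 ≤ t) (h : t ^ 2 ≤ Fintype.card F) :
    t * (t ^ 2 - 1) < Nat.card (PSL2 F) := by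
  have hG := card_psl_eq (F := F)
  have hd := Nat.le_of_dvd two_pos (Nat.gcd_dvd_left 2 (Fintype.card F - 1))
  have h1 : Nat.gcd 2 (Fintype.card F - 1) * (t * (t ^ 2 - 1)) <
      (Fintype.card F + 1) * (Fintype.card F * (Fintype.card F - 1)) := by
    calc Nat.gcd 2 (Fintype.card F - 1) * (t * (t ^ 2 - 1))
        ≤ 2 * (t * (t ^ 2 - 1)) := Nat.mul_le_mul_right _ hd
      _ ≤ t ^ 2 * (t ^ 2 - 1) := by rw [← mul_assoc]; exact Nat.mul_le_mul_right _ (by nlinarith)
      _ ≤ Fintype.card F * (Fintype.card F - 1) := Nat.mul_le_mul h (by omega)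
      _ < _ := by
          have : 0 < Fintype.card F * (Fintype.card F - 1) := by
            have := Fintype.one_lt_card (α := F)
            exact Nat.mul_pos (by omega) (by omega)
          have h3 : 2 * (Fintype.card F * (Fintype.card F - 1)) ≤
              (Fintype.card F + 1) * (Fintype.card F * (Fintype.card F - 1)) :=
            Nat.mul_le_mul_right _ (by have := Fintype.one_lt_card (α := F); omega)
          omega
  rw [← hG] at h1
  exact Nat.lt_of_mul_lt_mul_left h1

theorem false_of_le {M K : Subgroup (PSL2 F)} (hM : IsCoatom M) (hle : M ≤ K)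
    (h1 : Nat.card M < Nat.card K) (h2 : Nat.card K < Nat.card (PSL2 F)) : False := by
  rcases hle.eq_or_lt with h | h
  · rw [h] at h1; exact lt_irrefl _ h1
  · rw [hM.2 K h, Subgroup.card_top] at h2; exact lt_irrefl _ h2

theorem psl_ge (T : Type*) [Field T] [Fintype T] :
    Nat.card T * (Nat.card T ^ 2 - 1) ≤ 2 * Nat.card (PSL2 T) := by
  rw [← LinearGroup.gcd_mul_card_PSL_two (F := T)]
  exact Nat.mul_le_mul_right _ (Nat.le_of_dvd two_pos (Nat.gcd_dvd_left _ _))

/-- A subgroup inside a proper subfield subgroup is not maximal, unless it is big enough. -/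
theorem false_of_le_subfield {M : Subgroup (PSL2 F)} (hM : IsCoatom M)
    {D : ProjGenLinGroup (Fin 2) F} {T : Subfield F} (hle : M ≤ pullBack D (pglImage T))
    (hT : Nat.card T ^ 2 ≤ Fintype.card F)
    (hlt : 2 * Nat.card M < Nat.card T * (Nat.card T ^ 2 - 1)) : False := by
  haveI : Fintype T := Fintype.ofFinite T
  refine false_of_le hM hle ?_ ?_
  · have := card_psl_le_pullBack D T
    have := psl_ge T
    omega
  · calc Nat.card (pullBack D (pglImage T)) ≤ Nat.card (pglImage T) := card_pullBack_le _ _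
      _ < _ := by rw [card_pglImage]; exact pgl_card_lt Finite.one_lt_card hT

/-- Two elements with the invariants of a pair of matrices generate a conjugate of their group. -/
theorem conj_into_gen (S : Subgroup (ProjGenLinGroup (Fin 2) F)) (x y : SL(2, F)) {c : F} (hc : c ≠ 0)
    (X Y : GL (Fin 2) F) (hX : ProjGenLinGroup.mk X ∈ S) (hY : ProjGenLinGroup.mk Y ∈ S)
    (h1 : (X : Matrix (Fin 2) (Fin 2) F).trace = c * (x : Matrix (Fin 2) (Fin 2) F).trace)
    (h2 : (X : Matrix (Fin 2) (Fin 2) F).det = c ^ 2)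
    (h3 : (Y : Matrix (Fin 2) (Fin 2) F).trace = (y : Matrix (Fin 2) (Fin 2) F).trace)
    (h4 : (Y : Matrix (Fin 2) (Fin 2) F).det = 1)
    (h5 : ((X : Matrix (Fin 2) (Fin 2) F) * (Y : Matrix (Fin 2) (Fin 2) F)).trace =
      c * ((x * y : SL(2, F)) : Matrix (Fin 2) (Fin 2) F).trace)
    (hirr : ((x * y : SL(2, F)) : Matrix (Fin 2) (Fin 2) F).trace ^ 2
      - (x : Matrix (Fin 2) (Fin 2) F).trace * (y : Matrix (Fin 2) (Fin 2) F).trace *
        ((x * y : SL(2, F)) : Matrix (Fin 2) (Fin 2) F).trace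
      + (x : Matrix (Fin 2) (Fin 2) F).trace ^ 2 + (y : Matrix (Fin 2) (Fin 2) F).trace ^ 2 ≠ 4) :
    ∃ D : ProjGenLinGroup (Fin 2) F, (QuotientGroup.mk x : PSL2 F) ∈ pullBack D S ∧
      (QuotientGroup.mk y : PSL2 F) ∈ pullBack D S := by
  obtain ⟨G, hGX, hGY⟩ := rigid (c • (x : Matrix (Fin 2) (Fin 2) F)) (y : Matrix (Fin 2) (Fin 2) F)
    (X : Matrix (Fin 2) (Fin 2) F) (Y : Matrix (Fin 2) (Fin 2) F) (by
      rw [det_comm_eq, Matrix.smul_mul, trace_smul, trace_smul, det_smul, x.2, y.2, Fintype.card_fin,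
        smul_eq_mul, smul_eq_mul, ← Matrix.SpecialLinearGroup.coe_mul]
      intro e
      apply hirr
      refine mul_left_cancel₀ (pow_ne_zero 2 hc) ?_
      linear_combination -e)
    (by rw [trace_smul, smul_eq_mul, h1]) (by rw [det_smul, x.2, Fintype.card_fin, h2, mul_one])
    h3.symm (by rw [y.2, h4])
    (by rw [Matrix.smul_mul, trace_smul, smul_eq_mul, ← Matrix.SpecialLinearGroup.coe_mul, h5])
  refine ⟨(ProjGenLinGroup.mk G)⁻¹, ?_, ?_⟩
  · rw [mem_pullBack, inv_inv]
    show ProjGenLinGroup.mk G * ProjGenLinGroup.mk (Matrix.SpecialLinearGroup.toGL x)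
      * (ProjGenLinGroup.mk G)⁻¹ ∈ S
    suffices h : ProjGenLinGroup.mk G * ProjGenLinGroup.mk (Matrix.SpecialLinearGroup.toGL x)
        * (ProjGenLinGroup.mk G)⁻¹ = ProjGenLinGroup.mk X by rw [h]; exact hX
    rw [mul_inv_eq_iff_eq_mul, ← map_mul, ← map_mul, ProjGenLinGroup.mk_eq_mk_iff]
    refine ⟨Units.mk0 c hc, Units.ext ?_⟩
    rw [Units.val_mul, Units.val_mul, Units.val_mul, ← hGX, GeneralLinearGroup.coe_scalar]
    ext i j
    fin_cases i <;> fin_cases j <;>
      simp [Matrix.mul_apply, Fin.sum_univ_two, Matrix.SpecialLinearGroup.toGL] <;> ring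
  · rw [mem_pullBack, inv_inv]
    show ProjGenLinGroup.mk G * ProjGenLinGroup.mk (Matrix.SpecialLinearGroup.toGL y)
      * (ProjGenLinGroup.mk G)⁻¹ ∈ S
    suffices h : ProjGenLinGroup.mk G * ProjGenLinGroup.mk (Matrix.SpecialLinearGroup.toGL y)
        * (ProjGenLinGroup.mk G)⁻¹ = ProjGenLinGroup.mk Y by rw [h]; exact hY
    rw [mul_inv_eq_iff_eq_mul, ← map_mul, ← map_mul]
    congr 1
    exact Units.ext hGY

/-- Invariants in a subfield give a conjugate inside the subfield subgroup. -/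
theorem conj_into (T : Subfield F) (h2 : (2 : F) ≠ 0) (x y : SL(2, F)) {c : F} (hc : c ≠ 0)
    (hs : (x : Matrix (Fin 2) (Fin 2) F).trace = 0) (hd : c ^ 2 ∈ T)
    (ht : (y : Matrix (Fin 2) (Fin 2) F).trace ∈ T)
    (hu : c * ((x * y : SL(2, F)) : Matrix (Fin 2) (Fin 2) F).trace ∈ T)
    (hirr : ((x * y : SL(2, F)) : Matrix (Fin 2) (Fin 2) F).trace ^ 2
      + (y : Matrix (Fin 2) (Fin 2) F).trace ^ 2 ≠ 4) :
    ∃ D : ProjGenLinGroup (Fin 2) F, (QuotientGroup.mk x : PSL2 F) ∈ pullBack D (pglImage T) ∧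
      (QuotientGroup.mk y : PSL2 F) ∈ pullBack D (pglImage T) := by
  obtain ⟨X, Y, e1, e2, e3, e4, e5⟩ := exists_pair (k := T) (dX := ⟨c ^ 2, hd⟩)
    (fun e => h2 (by simpa [map_ofNat] using congrArg T.subtype e))
    (fun e => pow_ne_zero 2 hc (congrArg Subtype.val e)) ⟨_, ht⟩ 1 ⟨_, hu⟩
  have mtr : ∀ Z : Matrix (Fin 2) (Fin 2) T, (T.subtype.mapMatrix Z).trace = (Z.trace : F) := fun Z => by
    simp [trace_fin_two]
  have mdt : ∀ Z : Matrix (Fin 2) (Fin 2) T, (T.subtype.mapMatrix Z).det = (Z.det : F) := fun Z =>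
    (T.subtype.map_det Z).symm
  have hX : X.det ≠ 0 := by rw [e2]; exact fun e => pow_ne_zero 2 hc (congrArg Subtype.val e)
  have hY : Y.det ≠ 0 := by rw [e4]; exact one_ne_zero
  let X' := GeneralLinearGroup.map (n := Fin 2) T.subtype (GeneralLinearGroup.mkOfDetNeZero X hX)
  let Y' := GeneralLinearGroup.map (n := Fin 2) T.subtype (GeneralLinearGroup.mkOfDetNeZero Y hY)
  refine conj_into_gen (pglImage T) x y hc X' Y' ⟨_, ProjGenLinGroup.map_mk _ _⟩
    ⟨_, ProjGenLinGroup.map_mk _ _⟩ ?_ ?_ ?_ ?_ ?_ (by rw [hs]; simpa using hirr)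
  · show (T.subtype.mapMatrix X).trace = _
    rw [mtr, e1, hs, mul_zero]; rfl
  · show (T.subtype.mapMatrix X).det = _
    rw [mdt, e2]
  · show (T.subtype.mapMatrix Y).trace = _
    rw [mtr, e3]
  · show (T.subtype.mapMatrix Y).det = _
    rw [mdt, e4]; rfl
  · show (T.subtype.mapMatrix X * T.subtype.mapMatrix Y).trace = _
    rw [← map_mul, mtr, e5]

end Cfsg.Agent.Dickson
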