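import Cfsg.Agent.Lib.Dickson.Fields
import Cfsg.Agent.Lib.RootSubgroups.SL2
import Cfsg.Agent.Lib.FischerSpace.Sym4
import Cfsg.Agent.SL2Tor.PSLOrders

/-!
Subgroups `A₄`, `S₄`, `A₅` of `PSL₂(F)`.
-/

set_option autoImplicit false
set_option linter.unusedSectionVars false

namespace Cfsg.Agent.Dickson

open Matrix
open scoped MatrixGroups

variable {F : Type*} [Field F]

/-- Trace of an element of `SL₂`. -/
abbrev str (x : SL(2, F)) : F := (x : Matrix (Fin 2) (Fin 2) F).trace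

theorem sl_sq (x : SL(2, F)) : (x : Matrix (Fin 2) (Fin 2) F) * x = str x • (x : Matrix (Fin 2) (Fin 2) F) - 1 := by
  rw [SL2Tor.two_sq, x.2, one_smul]

theorem sl_inv (x : SL(2, F)) :
    ((x⁻¹ : SL(2, F)) : Matrix (Fin 2) (Fin 2) F) = str x • 1 - (x : Matrix (Fin 2) (Fin 2) F) := by
  have h : (x : Matrix (Fin 2) (Fin 2) F) * (str x • 1 - (x : Matrix (Fin 2) (Fin 2) F)) = 1 := by
    rw [mul_sub, Matrix.mul_smul, Matrix.mul_one, sl_sq]; abel
  have h2 : (x : Matrix (Fin 2) (Fin 2) F) * ((x⁻¹ : SL(2, F)) : Matrix (Fin 2) (Fin 2) F) = 1 := by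
    rw [← Matrix.SpecialLinearGroup.coe_mul, mul_inv_cancel, Matrix.SpecialLinearGroup.coe_one]
  exact (left_inv_eq_right_inv (a := (x : Matrix (Fin 2) (Fin 2) F))
    (mul_eq_one_comm.mp h2) h)

theorem str_inv (x : SL(2, F)) : str x⁻¹ = str x := by
  rw [str, sl_inv, trace_sub, trace_smul, trace_one, Fintype.card_fin]
  simp [str]
  ring

theorem str_sq (x : SL(2, F)) : str (x * x) = str x ^ 2 - 2 := by
  rw [str, Matrix.SpecialLinearGroup.coe_mul, sl_sq, trace_sub, trace_smul, trace_one, Fintype.card_fin]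
  simp [str]
  ring

theorem str_comm (x y : SL(2, F)) : str (x * y) = str (y * x) := by
  rw [str, str, Matrix.SpecialLinearGroup.coe_mul, Matrix.SpecialLinearGroup.coe_mul, trace_mul_comm]

theorem str_sq_mul_sq (x y : SL(2, F)) :
    str (x * x * (y * y)) = str x * str y * str (x * y) - str x ^ 2 - str y ^ 2 + 2 := by
  rw [str, Matrix.SpecialLinearGroup.coe_mul, Matrix.SpecialLinearGroup.coe_mul, Matrix.SpecialLinearGroup.coe_mul,
    sl_sq, sl_sq]
  simp only [sub_mul, mul_sub, Matrix.smul_mul, Matrix.mul_smul, Matrix.one_mul, Matrix.mul_one,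
    trace_sub, trace_smul, trace_one, Fintype.card_fin, smul_eq_mul]
  simp [str, Matrix.SpecialLinearGroup.coe_mul]
  ring

theorem xyx_eq {x y : SL(2, F)} (h : str (x * y) = 1) (hs : str x = str y) :
    ((x * y * x : SL(2, F)) : Matrix (Fin 2) (Fin 2) F)
      = (x : Matrix (Fin 2) (Fin 2) F) + y - str x • 1 := by
  have e : x * y * x = (x * y) * (x * y) * y⁻¹ := by group
  rw [e, Matrix.SpecialLinearGroup.coe_mul, Matrix.SpecialLinearGroup.coe_mul (x * y) (x * y), sl_sq, h, one_smul,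
    sl_inv, Matrix.SpecialLinearGroup.coe_mul, sub_mul, mul_sub, Matrix.mul_smul, Matrix.mul_one,
    Matrix.mul_assoc, sl_sq, mul_sub, Matrix.mul_smul, Matrix.mul_one, Matrix.one_mul, hs]
  abel

/-- Equal traces and `tr(xy) = 1` give the braid relation. -/
theorem braid_of_trace {x y : SL(2, F)} (h : str (x * y) = 1) (hs : str x = str y) :
    x * y * x = y * x * y := by
  apply Subtype.ext
  rw [xyx_eq h hs, xyx_eq (str_comm x y ▸ h) hs.symm, hs, add_comm]

theorem mk_xyx_sq {x y : SL(2, F)} (h : str (x * y) = 1) (hs : str x = str y) :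
    (QuotientGroup.mk (x * y * x) : PSL2 F) * QuotientGroup.mk (x * y * x) = 1 := by
  rw [← QuotientGroup.mk_mul, SL2Tor.psl_mk_eq_one_iff, Matrix.SpecialLinearGroup.coe_mul, sl_sq]
  have : str (x * y * x) = 0 := by
    rw [str, xyx_eq h hs, trace_sub, trace_add, trace_smul, trace_one, Fintype.card_fin]
    simp [str] at hs ⊢
    rw [← hs]; ring
  rw [this, zero_smul, zero_sub]
  simp [SL2Tor.IsScalar]

theorem braid_inv {G : Type*} [Group G] {a b : G} (h : a * b * a = b * a * b) :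
    a⁻¹ * b⁻¹ * a⁻¹ = b⁻¹ * a⁻¹ * b⁻¹ := by
  have := congrArg (fun z => z⁻¹) h
  simpa [mul_assoc] using this

theorem pow_val_add {G : Type*} [Group G] {n : ℕ} [NeZero n] {a : G} (h : a ^ n = 1) (i j : ZMod n) :
    a ^ (i + j).val = a ^ i.val * a ^ j.val := by
  rw [← pow_add, ZMod.val_add, ← pow_eq_pow_mod _ h]

theorem str_ne_of_ne (h2 : (2 : F) ≠ 0) : ((0 : F)) ^ 2 ≠ 4 := by
  intro e
  have : (2 : F) * 2 = 0 := by linear_combination -e
  exact mul_ne_zero h2 h2 this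

theorem exists_str_eq (s : F) : ∃ x : SL(2, F), str x = s := by
  refine ⟨⟨!![0, -1; 1, s], by simp [det_fin_two_of]⟩, ?_⟩
  simp [str, trace_fin_two]

/-- A pair satisfying the braid relation gives a map from `SL₂(p)`, trivial on the centre. -/
theorem exists_hom_of_braid {p : ℕ} [Fact p.Prime] {x y : SL(2, F)} (hs : str x = str y)
    (h1 : str (x * y) = 1) (hx : (QuotientGroup.mk x : PSL2 F) ^ p = 1)
    (hy : (QuotientGroup.mk y : PSL2 F) ^ p = 1)
    (hbr : ∀ t : ZMod p, t ≠ 0 →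
      (QuotientGroup.mk x : PSL2 F) ^ t.val * (QuotientGroup.mk y : PSL2 F)⁻¹ ^ (-t⁻¹).val
          * (QuotientGroup.mk x : PSL2 F) ^ t.val =
        (QuotientGroup.mk y : PSL2 F)⁻¹ ^ (-t⁻¹).val * (QuotientGroup.mk x : PSL2 F) ^ t.val *
          (QuotientGroup.mk y : PSL2 F)⁻¹ ^ (-t⁻¹).val) :
    ∃ ψ : PSL2 (ZMod p) →* PSL2 F, QuotientGroup.mk x ∈ ψ.range ∧ QuotientGroup.mk y ∈ ψ.range := by
  set a : PSL2 F := QuotientGroup.mk x
  set b : PSL2 F := QuotientGroup.mk y
  have hb : b⁻¹ ^ p = 1 := by rw [inv_pow, hy, inv_one]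
  obtain ⟨φ, hφu, hφv⟩ := RootSubgroups.SL2.exists_hom (fun i : ZMod p => a ^ i.val)
    (fun i : ZMod p => b⁻¹ ^ i.val) (pow_val_add hx) (pow_val_add hb) hbr
  have h1v : (1 : ZMod p).val = 1 := ZMod.val_one p
  have hneg : φ (-1) = 1 := by
    have e : (-1 : SL(2, ZMod p)) = (RootSubgroups.SL2.u 1 * RootSubgroups.SL2.v (-1) *
        RootSubgroups.SL2.u 1) * (RootSubgroups.SL2.u 1 * RootSubgroups.SL2.v (-1) *
        RootSubgroups.SL2.u 1) := by
      apply Subtype.ext
      simp [Matrix.SpecialLinearGroup.coe_mul, Matrix.mul_fin_two]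
      ext i j; fin_cases i <;> fin_cases j <;> simp
    have hv : φ (RootSubgroups.SL2.v (-1)) = b := by
      have : RootSubgroups.SL2.v (-1 : ZMod p) = (RootSubgroups.SL2.v 1)⁻¹ := by
        rw [RootSubgroups.SL2.v_inv]
      rw [this, map_inv, hφv, h1v, pow_one, inv_inv]
    rw [e, map_mul, map_mul, map_mul, hv, hφu, h1v, pow_one]
    show a * b * a * (a * b * a) = 1
    exact mk_xyx_sq h1 hs
  have hker : Subgroup.center SL(2, ZMod p) ≤ φ.ker := by
    intro z hz
    rcases eq_or_eq_neg_of_isScalar ((SL2Tor.psl_mk_eq_one_iff z).mp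
      ((QuotientGroup.eq_one_iff z).mpr hz)) with rfl | rfl
    · exact one_mem _
    · exact hneg
  refine ⟨QuotientGroup.lift _ φ hker, ⟨QuotientGroup.mk (RootSubgroups.SL2.u 1), ?_⟩,
    ⟨(QuotientGroup.mk (RootSubgroups.SL2.v 1))⁻¹, ?_⟩⟩
  · show φ _ = a
    rw [hφu, h1v, pow_one]
  · rw [map_inv]
    show (φ _)⁻¹ = b
    rw [hφv, h1v, pow_one, inv_inv]

theorem mk_ne_one_of_str {x : SL(2, F)} (h : str x ^ 2 ≠ 4) :
    (QuotientGroup.mk x : PSL2 F) ≠ 1 := by
  intro e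
  obtain ⟨h1, h2, h3⟩ := (SL2Tor.psl_mk_eq_one_iff x).mp e
  have hd := PLocalB.det_entries x
  rw [h1, h2, ← h3] at hd
  apply h
  rw [str, trace_fin_two, ← h3]
  linear_combination 4 * hd

theorem zmod3_facts : (∀ i : ZMod 3, i ≠ 0 → i = 1 ∨ i = 2) ∧ (2 : ZMod 3) * 2 = 1 := by decide

theorem zmod5_facts : (∀ i : ZMod 5, i ≠ 0 → i = 1 ∨ i = 2 ∨ i = 3 ∨ i = 4) ∧
    (2 : ZMod 5) * 3 = 1 ∧ (3 : ZMod 5) * 2 = 1 ∧ (4 : ZMod 5) * 4 = 1 := by decide

theorem commutator_closure_alt4 : ∀ k a b : alternatingGroup (Fin 4), k ≠ 1 → ∃ g,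
    a * b * a⁻¹ * b⁻¹ = g * k * g⁻¹ * k⁻¹ ∨ a * b * a⁻¹ * b⁻¹ = g * k * g⁻¹ := by
  decide +kernel

/-- `A₄` in odd characteristic not three. -/
theorem exists_A4 [Finite F] (h2 : (2 : F) ≠ 0) (h3 : (3 : F) ≠ 0) :
    ∃ H : Subgroup (PSL2 F), Nonempty (H ≃* alternatingGroup (Fin 4)) := by
  haveI : Fact (Nat.Prime 3) := ⟨Nat.prime_three⟩
  obtain ⟨x, hx⟩ := exists_str_eq (-1 : F)
  have h4 : str x ^ 2 ≠ 4 := fun e => h3 (by rw [hx] at e; linear_combination -e)
  obtain ⟨z, hz⟩ := SL2Tor.exists_trace_mul x x h4 h4 1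
  set y := z * x * z⁻¹ with hy
  have hsy : str y = str x := SL2Tor.trace_conj z x
  have hcube : ∀ w : SL(2, F), str w = -1 → (QuotientGroup.mk w : PSL2 F) ^ 3 = 1 := by
    intro w hw
    refine SL2Tor.psl_pow_eq_one_of_eq_smul w 3 1 ?_
    rw [pow_three, sl_sq, hw, mul_sub, Matrix.mul_smul, sl_sq, hw, Matrix.mul_one]
    simp [smul_sub, smul_smul]
  have hbr := braid_of_trace hz hsy.symm
  obtain ⟨ψ, hxr, hyr⟩ := exists_hom_of_braid (p := 3) hsy.symm hz (hcube x hx)
    (hcube y (hsy.trans hx)) (fun t ht => by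
      have e1 : (QuotientGroup.mk x : PSL2 F) * QuotientGroup.mk y * QuotientGroup.mk x
          = QuotientGroup.mk y * QuotientGroup.mk x * QuotientGroup.mk y :=
        congrArg (QuotientGroup.mk : SL(2, F) → PSL2 F) hbr
      have hb2 : (QuotientGroup.mk y : PSL2 F)⁻¹ ^ 2 = QuotientGroup.mk y := by
        rw [inv_pow, inv_eq_iff_mul_eq_one, ← pow_succ]
        exact hcube y (hsy.trans hx)
      have ha2 : (QuotientGroup.mk x : PSL2 F) ^ 2 = (QuotientGroup.mk x)⁻¹ := by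
        rw [eq_inv_iff_mul_eq_one, ← pow_succ]
        exact hcube x hx
      rcases zmod3_facts.1 t ht with rfl | rfl
      · rw [inv_one]
        show (QuotientGroup.mk x : PSL2 F) ^ 1 * (QuotientGroup.mk y : PSL2 F)⁻¹ ^ 2 *
          (QuotientGroup.mk x : PSL2 F) ^ 1 = (QuotientGroup.mk y : PSL2 F)⁻¹ ^ 2 *
          (QuotientGroup.mk x : PSL2 F) ^ 1 * (QuotientGroup.mk y : PSL2 F)⁻¹ ^ 2
        rw [hb2, pow_one, e1]
      · rw [inv_eq_of_mul_eq_one_right zmod3_facts.2]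
        show (QuotientGroup.mk x : PSL2 F) ^ 2 * (QuotientGroup.mk y : PSL2 F)⁻¹ ^ 1 *
          (QuotientGroup.mk x : PSL2 F) ^ 2 = (QuotientGroup.mk y : PSL2 F)⁻¹ ^ 1 *
          (QuotientGroup.mk x : PSL2 F) ^ 2 * (QuotientGroup.mk y : PSL2 F)⁻¹ ^ 1
        rw [ha2, pow_one]
        exact braid_inv e1)
  obtain ⟨e⟩ := LinearGroup.psl_two_small (F := ZMod 3) (Or.inl (Nat.card_zmod 3))
  rw [Nat.card_zmod] at e
  let θ : alternatingGroup (Fin 4) →* PSL2 F := ψ.comp e.symm.toMonoidHom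
  have hθr : θ.range = ψ.range := by
    rw [MonoidHom.range_comp, MonoidHom.range_eq_top.mpr e.symm.surjective, MonoidHom.range_eq_map]
  suffices hθ : Function.Injective θ from ⟨θ.range, ⟨(MonoidHom.ofInjective hθ).symm⟩⟩
  rw [injective_iff_map_eq_one]
  intro k hk
  by_contra hk1
  have hab : ∀ a b, θ a * θ b = θ b * θ a := by
    intro a b
    have : θ (a * b * a⁻¹ * b⁻¹) = 1 := by
      obtain ⟨g, hg | hg⟩ := commutator_closure_alt4 k a b hk1 <;> rw [hg] <;> simp [hk]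
    simp only [map_mul, map_inv, mul_inv_eq_one] at this
    rwa [mul_inv_eq_iff_eq_mul] at this
  rw [← hθr] at hxr hyr
  obtain ⟨a, ha⟩ := hxr
  obtain ⟨b, hb⟩ := hyr
  have hc : (QuotientGroup.mk x : PSL2 F) * QuotientGroup.mk y
      = QuotientGroup.mk y * QuotientGroup.mk x := by rw [← ha, ← hb, hab]
  have e1 : (QuotientGroup.mk x : PSL2 F) * QuotientGroup.mk y * QuotientGroup.mk x
      = QuotientGroup.mk y * QuotientGroup.mk x * QuotientGroup.mk y :=
    congrArg (QuotientGroup.mk : SL(2, F) → PSL2 F) hbr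
  rw [hc] at e1
  rcases mk_eq_mk_iff.mp (mul_left_cancel e1) with e' | e'
  · apply h2
    have : str (x * x) = 1 := by rw [← hz]; exact congrArg (fun w => str (x * w)) e'
    rw [str_sq, hx] at this
    linear_combination -this
  · have : str x = - str y := by
      rw [e']; simp [str, Matrix.SpecialLinearGroup.coe_neg]
    rw [hsy, hx] at this
    exact h2 (by linear_combination -this)

/-- `A₅` when five divides `q ± 1`. -/
theorem exists_A5 [Finite F] (h5 : 5 ∣ Nat.card F - 1 ∨ 5 ∣ Nat.card F + 1) (hc5 : (5 : F) ≠ 0) :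
    ∃ H : Subgroup (PSL2 F), Nonempty (H ≃* alternatingGroup (Fin 5)) := by
  haveI : Fact (Nat.Prime 5) := ⟨by norm_num⟩
  obtain ⟨C, hC, hdvd⟩ := LinearGroup.exists_cyclic_subgroup (F := F) 5 h5
  obtain ⟨c, hc⟩ := exists_prime_orderOf_dvd_card' 5 hdvd
  have hcord : orderOf (c : SL(2, F)) = 5 := by rwa [Subgroup.orderOf_coe]
  obtain ⟨s, hs⟩ : ∃ s : F, s ^ 2 = s + 1 := by
    set u : SL(2, F) := (c : SL(2, F)) with hu
    set t := str u with ht
    have h2' : (u : Matrix (Fin 2) (Fin 2) F) * u = t • (u : Matrix (Fin 2) (Fin 2) F) - 1 := sl_sq u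
    have h5' : ((u : Matrix (Fin 2) (Fin 2) F)) ^ 5 = 1 := by
      rw [← Matrix.SpecialLinearGroup.coe_pow, ← hcord, pow_orderOf_eq_one, Matrix.SpecialLinearGroup.coe_one]
    have key : (t ^ 4 - 3 * t ^ 2 + 1) • (u : Matrix (Fin 2) (Fin 2) F)
        = (t ^ 3 - 2 * t + 1) • (1 : Matrix (Fin 2) (Fin 2) F) := by
      have : ∀ a b : F, (a • (u : Matrix (Fin 2) (Fin 2) F) + b • 1) * u
          = (a * t + b) • (u : Matrix (Fin 2) (Fin 2) F) + (-a) • 1 := by
        intro a b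
        rw [add_mul, Matrix.smul_mul, Matrix.smul_mul, h2', Matrix.one_mul]
        module
      have e : ((u : Matrix (Fin 2) (Fin 2) F)) ^ 5
          = (((1 : F) • (u : Matrix (Fin 2) (Fin 2) F) + (0 : F) • 1) * u * u * u * u) := by
        simp only [one_smul, zero_smul, add_zero, pow_succ, pow_zero, one_mul]
      rw [e, this, this, this, this] at h5'
      linear_combination (norm := module) h5'
    by_cases h0 : t ^ 4 - 3 * t ^ 2 + 1 = 0
    · have : (t ^ 2 - t - 1) * (t ^ 2 + t - 1) = 0 := by linear_combination h0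
      rcases mul_eq_zero.mp this with e | e
      · exact ⟨t, by linear_combination e⟩
      · exact ⟨-t, by linear_combination e⟩
    · exfalso
      have hsc : SL2Tor.IsScalar (u : Matrix (Fin 2) (Fin 2) F) := by
        have he : (u : Matrix (Fin 2) (Fin 2) F)
            = ((t ^ 4 - 3 * t ^ 2 + 1)⁻¹ * (t ^ 3 - 2 * t + 1)) • 1 := by
          rw [← smul_smul, ← key, smul_smul, inv_mul_cancel₀ h0, one_smul]
        rw [he]; exact SL2Tor.isScalar_smul_one _
      rcases eq_or_eq_neg_of_isScalar hsc with e | e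
      · rw [e, orderOf_one] at hcord; omega
      · have : orderOf u ∣ 2 := orderOf_dvd_of_pow_eq_one (by rw [e, neg_one_sq])
        rw [hcord] at this; omega
  obtain ⟨x, hx⟩ := exists_str_eq s
  have h4 : str x ^ 2 ≠ 4 := fun e => hc5 (by rw [hx] at e; linear_combination (s + 3) * hs - (s + 2) * e)
  obtain ⟨z, hz⟩ := SL2Tor.exists_trace_mul x x h4 h4 1
  set y := z * x * z⁻¹ with hy
  have hsy : str y = str x := SL2Tor.trace_conj z x
  have hfive : ∀ w : SL(2, F), str w = s → (QuotientGroup.mk w : PSL2 F) ^ 5 = 1 := by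
    intro w hw
    refine SL2Tor.psl_pow_eq_one_of_eq_smul w 5 (-1) ?_
    have : ∀ a b : F, (a • (w : Matrix (Fin 2) (Fin 2) F) + b • 1) * w
        = (a * s + b) • (w : Matrix (Fin 2) (Fin 2) F) + (-a) • 1 := by
      intro a b
      rw [add_mul, Matrix.smul_mul, Matrix.smul_mul, sl_sq, hw, Matrix.one_mul]
      module
    have e : ((w : Matrix (Fin 2) (Fin 2) F)) ^ 5
        = (((1 : F) • (w : Matrix (Fin 2) (Fin 2) F) + (0 : F) • 1) * w * w * w * w) := by
      simp only [one_smul, zero_smul, add_zero, pow_succ, pow_zero, one_mul]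
    rw [e, this, this, this, this]
    match_scalars
    · linear_combination (s ^ 2 + s - 1) * hs
    · linear_combination (-(s + 1)) * hs
  set a : PSL2 F := QuotientGroup.mk x with ha
  set b : PSL2 F := QuotientGroup.mk y with hb
  have e1 : a * b * a = b * a * b :=
    congrArg (QuotientGroup.mk : SL(2, F) → PSL2 F) (braid_of_trace hz hsy.symm)
  have e2 : a ^ 2 * (b⁻¹) ^ 2 * a ^ 2 = (b⁻¹) ^ 2 * a ^ 2 * (b⁻¹) ^ 2 := by
    have hs2 : str (x * x) = str (y⁻¹ * y⁻¹) := by rw [str_sq, str_sq, str_inv, hsy]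
    have hp : str (x * x * (y⁻¹ * y⁻¹)) = 1 := by
      rw [str_sq_mul_sq, str_inv, hsy, hx]
      have : str (x * y⁻¹) = s ^ 2 - 1 := by
        rw [str, Matrix.SpecialLinearGroup.coe_mul, sl_inv, mul_sub, Matrix.mul_smul, Matrix.mul_one,
          trace_sub, trace_smul, hsy, hx, ← Matrix.SpecialLinearGroup.coe_mul]
        show s • str x - str (x * y) = _
        rw [show str (x * y) = 1 from hz, hx, smul_eq_mul]; ring
      rw [this]
      linear_combination (s ^ 2 + s - 1) * hs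
    have := congrArg (QuotientGroup.mk : SL(2, F) → PSL2 F) (braid_of_trace hp hs2)
    simp only [pow_two]
    exact this
  have ha5 : a ^ 5 = 1 := hfive x hx
  have hb5 : b ^ 5 = 1 := hfive y (hsy.trans hx)
  obtain ⟨ψ, hxr, hyr⟩ := exists_hom_of_braid (p := 5) hsy.symm hz ha5 hb5 (fun t ht => by
    have a4 : a ^ 4 = a⁻¹ := by rw [eq_inv_iff_mul_eq_one, ← pow_succ, ha5]
    have a3 : a ^ 3 = (a ^ 2)⁻¹ := by rw [eq_inv_iff_mul_eq_one, ← pow_add, ha5]
    have b4 : b⁻¹ ^ 4 = b := by rw [inv_pow, inv_eq_iff_mul_eq_one, ← pow_succ, hb5]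
    have b3 : b⁻¹ ^ 3 = (b⁻¹ ^ 2)⁻¹ := by
      rw [eq_inv_iff_mul_eq_one, ← pow_add, inv_pow, hb5, inv_one]
    rcases zmod5_facts.1 t ht with rfl | rfl | rfl | rfl
    · rw [inv_one]
      show a ^ 1 * b⁻¹ ^ 4 * a ^ 1 = b⁻¹ ^ 4 * a ^ 1 * b⁻¹ ^ 4
      rw [b4, pow_one, e1]
    · rw [inv_eq_of_mul_eq_one_right zmod5_facts.2.1]
      show a ^ 2 * b⁻¹ ^ 2 * a ^ 2 = b⁻¹ ^ 2 * a ^ 2 * b⁻¹ ^ 2
      exact e2
    · rw [inv_eq_of_mul_eq_one_right zmod5_facts.2.2.1]
      show a ^ 3 * b⁻¹ ^ 3 * a ^ 3 = b⁻¹ ^ 3 * a ^ 3 * b⁻¹ ^ 3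
      rw [a3, b3]
      exact braid_inv e2
    · rw [inv_eq_of_mul_eq_one_right zmod5_facts.2.2.2]
      show a ^ 4 * b⁻¹ ^ 1 * a ^ 4 = b⁻¹ ^ 1 * a ^ 4 * b⁻¹ ^ 1
      rw [a4, pow_one]
      exact braid_inv e1)
  haveI : IsSimpleGroup (PSL2 (ZMod 5)) :=
    Matrix.ProjectiveSpecialLinearGroup.rank_two_simple (by simp)
  have hψ : Function.Injective ψ := by
    rw [← MonoidHom.ker_eq_bot_iff]
    refine (IsSimpleGroup.eq_bot_or_eq_top_of_normal _ inferInstance).resolve_right fun h => ?_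
    obtain ⟨w, hw⟩ := hxr
    exact mk_ne_one_of_str h4 (by rw [← hw]; exact MonoidHom.mem_ker.mp (h ▸ Subgroup.mem_top w))
  obtain ⟨e⟩ := LinearGroup.psl_two_five (F := ZMod 5) (Nat.card_zmod 5)
  exact ⟨ψ.range, ⟨(MonoidHom.ofInjective hψ).symm.trans e⟩⟩

/-- `S₄` when two is a square in odd characteristic. -/
theorem exists_S4 [Finite F] (h2 : (2 : F) ≠ 0) {w : F} (hw : w ^ 2 = 2) :
    ∃ H : Subgroup (PSL2 F), Nonempty (H ≃* Equiv.Perm (Fin 4)) := by
  obtain ⟨x, hx⟩ := exists_str_eq (0 : F)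
  have h4 : str x ^ 2 ≠ 4 := by rw [hx]; exact str_ne_of_ne h2
  obtain ⟨r, hr⟩ := SL2Tor.exists_trace_mul x x h4 h4 0
  set y := r * x * r⁻¹ with hy
  have hsy : str y = 0 := (SL2Tor.trace_conj r x).trans hx
  have hxx : (x : Matrix (Fin 2) (Fin 2) F) * x = -1 := by rw [sl_sq, hx, zero_smul, zero_sub]
  have hyy : (y : Matrix (Fin 2) (Fin 2) F) * y = -1 := by rw [sl_sq, hsy, zero_smul, zero_sub]
  have hxy0 : str (x * y) = 0 := hr
  have hk : ((x : Matrix (Fin 2) (Fin 2) F) * y) * ((x : Matrix (Fin 2) (Fin 2) F) * y) = -1 := by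
    rw [← Matrix.SpecialLinearGroup.coe_mul, sl_sq, hxy0, zero_smul, zero_sub]
  have hanti : (y : Matrix (Fin 2) (Fin 2) F) * x = -((x : Matrix (Fin 2) (Fin 2) F) * y) := by
    have := congrArg (fun m => (x : Matrix (Fin 2) (Fin 2) F) * m * (y : Matrix (Fin 2) (Fin 2) F)) hk
    simp only [Matrix.mul_neg, Matrix.mul_one, Matrix.neg_mul, ← Matrix.mul_assoc, hxx] at this
    simp only [Matrix.neg_mul, Matrix.one_mul, Matrix.mul_assoc, hyy, Matrix.mul_neg, Matrix.mul_one] at this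
    simpa using this
  set u : F := -(1 / 2) with hu
  set v : F := w / 2 with hv
  set B : Matrix (Fin 2) (Fin 2) F := u • (x : Matrix (Fin 2) (Fin 2) F) + u • (y : Matrix (Fin 2) (Fin 2) F)
    + v • ((x : Matrix (Fin 2) (Fin 2) F) * y) with hB
  have hBB : B * B = -1 := by
    have h1 : (x : Matrix (Fin 2) (Fin 2) F) * ((x : Matrix (Fin 2) (Fin 2) F) * y) = -(y : Matrix (Fin 2) (Fin 2) F) := by
      rw [← Matrix.mul_assoc, hxx, Matrix.neg_mul, Matrix.one_mul]
    have h2' : ((x : Matrix (Fin 2) (Fin 2) F) * y) * x = (y : Matrix (Fin 2) (Fin 2) F) := by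
      rw [Matrix.mul_assoc, hanti, Matrix.mul_neg, h1, neg_neg]
    have h3 : (y : Matrix (Fin 2) (Fin 2) F) * ((x : Matrix (Fin 2) (Fin 2) F) * y) = (x : Matrix (Fin 2) (Fin 2) F) := by
      rw [← Matrix.mul_assoc, hanti, Matrix.neg_mul, Matrix.mul_assoc, hyy, Matrix.mul_neg, Matrix.mul_one, neg_neg]
    have h4' : ((x : Matrix (Fin 2) (Fin 2) F) * y) * y = -(x : Matrix (Fin 2) (Fin 2) F) := by
      rw [Matrix.mul_assoc, hyy, Matrix.mul_neg, Matrix.mul_one]
    simp only [hB, add_mul, mul_add, Matrix.smul_mul, Matrix.mul_smul, hxx, hyy, hk, h1, h2', h3, h4', hanti]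
    have e : u * u + u * u + v * v = 1 := by
      rw [hu, hv]; field_simp; linear_combination hw
    match_scalars <;> first | ring1 | linear_combination -e | linear_combination e
  have hBtr : B.trace = 0 := by
    rw [hB, trace_add, trace_add, trace_smul, trace_smul, trace_smul, ← Matrix.SpecialLinearGroup.coe_mul]
    show u • str x + u • str y + v • str (x * y) = 0
    rw [hx, hsy, hxy0]; simp
  have hBdet : B.det = 1 := by
    have := SL2Tor.two_sq B
    rw [hBB, hBtr, zero_smul, zero_sub] at this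
    have h' := congrArg (fun m : Matrix (Fin 2) (Fin 2) F => m 0 0) this
    simp at h'
    exact h'.symm
  let z : SL(2, F) := ⟨B, hBdet⟩
  have hxz : str (x * z) = 1 := by
    rw [str, Matrix.SpecialLinearGroup.coe_mul]
    show ((x : Matrix (Fin 2) (Fin 2) F) * B).trace = 1
    rw [hB, mul_add, mul_add, Matrix.mul_smul, Matrix.mul_smul, Matrix.mul_smul, ← Matrix.mul_assoc,
      hxx, Matrix.neg_mul, Matrix.one_mul, trace_add, trace_add, trace_smul, trace_smul, trace_smul,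
      trace_neg, trace_neg, trace_one, ← Matrix.SpecialLinearGroup.coe_mul]
    show u • -(Fintype.card (Fin 2) : F) + u • str (x * y) + v • -str y = 1
    rw [hxy0, hsy, Fintype.card_fin, hu]
    simp
    field_simp
  have hzy : str (z * y) = 1 := by
    rw [str, Matrix.SpecialLinearGroup.coe_mul]
    show (B * (y : Matrix (Fin 2) (Fin 2) F)).trace = 1
    rw [hB, add_mul, add_mul, Matrix.smul_mul, Matrix.smul_mul, Matrix.smul_mul, Matrix.mul_assoc,
      hyy, Matrix.mul_neg, Matrix.mul_one, trace_add, trace_add, trace_smul, trace_smul, trace_smul,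
      trace_neg, trace_neg, trace_one, ← Matrix.SpecialLinearGroup.coe_mul]
    show u • str (x * y) + u • -(Fintype.card (Fin 2) : F) + v • -str x = 1
    rw [hxy0, hx, Fintype.card_fin, hu]
    simp
    field_simp
  set a : PSL2 F := QuotientGroup.mk x
  set b : PSL2 F := QuotientGroup.mk z
  set c : PSL2 F := QuotientGroup.mk y
  have hinv : ∀ g : SL(2, F), str g = 0 → (QuotientGroup.mk g : PSL2 F) * QuotientGroup.mk g = 1 := by
    intro g hg
    rw [← QuotientGroup.mk_mul, SL2Tor.psl_mk_eq_one_iff, Matrix.SpecialLinearGroup.coe_mul, sl_sq, hg,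
      zero_smul, zero_sub]
    simp [SL2Tor.IsScalar]
  have haa := hinv x hx
  have hbb := hinv z hBtr
  have hcc := hinv y hsy
  have hbab : b * a * b = a * b * a :=
    (congrArg (QuotientGroup.mk : SL(2, F) → PSL2 F)
      (braid_of_trace hxz (hx.trans hBtr.symm))).symm
  have hcbc : c * b * c = b * c * b :=
    (congrArg (QuotientGroup.mk : SL(2, F) → PSL2 F)
      (braid_of_trace hzy (hBtr.trans hsy.symm))).symm
  have hca : c * a = a * c :=
    mk_eq_mk_iff.mpr (Or.inr (Subtype.ext (by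
      rw [Matrix.SpecialLinearGroup.coe_neg, Matrix.SpecialLinearGroup.coe_mul y x, Matrix.SpecialLinearGroup.coe_mul x y, hanti])))
  have hr : FischerSpace.Sym4.Rules a b c := by
    refine ⟨fun g => by rw [← mul_assoc, haa, one_mul], fun g => by rw [← mul_assoc, hbb, one_mul],
      fun g => by rw [← mul_assoc, hcc, one_mul], fun g => by rw [← mul_assoc, hca, mul_assoc],
      fun g => by simpa only [mul_assoc] using congrArg (· * g) hbab,
      fun g => by simpa only [mul_assoc] using congrArg (· * g) hcbc, fun g => ?_⟩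
    have e1 : c * b * a * c = b * c * b * a := by
      rw [mul_assoc (c * b) a c, ← hca, ← mul_assoc, hcbc]
    simpa only [mul_assoc] using congrArg (· * g) e1
  have hne : ∀ g g' : SL(2, F), str g = 0 → str (g * g') ^ 2 ≠ 4 →
      (QuotientGroup.mk g : PSL2 F) ≠ QuotientGroup.mk g' := by
    intro g g' hg h e
    apply mk_ne_one_of_str h
    rw [QuotientGroup.mk_mul, ← e]
    exact hinv g hg
  have hac : a ≠ c := hne x y hx (by rw [hxy0]; exact str_ne_of_ne h2)
  have hab : a ≠ b := by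
    intro e
    apply hac
    rw [← e] at hcbc
    rw [hca, mul_assoc, hcc, mul_one, mul_assoc, hca, ← mul_assoc, haa, one_mul] at hcbc
    exact hcbc
  exact ⟨_, ⟨(MonoidHom.ofInjective (FischerSpace.Sym4.hom_injective hr hac hab)).symm⟩⟩

end Cfsg.Agent.Dickson
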