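import Cfsg.Agent.Lib.Dickson.Action
import Cfsg.Agent.PLocalB.SL2Basic
import Cfsg.Agent.SL2Tor.PSL

/-!
`PSL₂(k)` on the projective line: the hypotheses of a sharp action.
-/

set_option autoImplicit false
set_option linter.unusedSectionVars false

namespace Cfsg.Agent.Dickson

open Matrix MulAction OnePoint
open scoped MatrixGroups Classical
open Cfsg.Agent.PLocalB (upper lineAction)

attribute [local instance] Cfsg.Agent.PLocalB.lineAction

variable {k : Type*} [Field k]

/-- `PSL₂(k)`. -/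
abbrev PSL2 (k : Type*) [Field k] : Type _ := Matrix.ProjectiveSpecialLinearGroup (Fin 2) k

theorem eq_or_eq_neg_of_isScalar {A : SL(2, k)}
    (h : SL2Tor.IsScalar (A : Matrix (Fin 2) (Fin 2) k)) : A = 1 ∨ A = -1 := by
  obtain ⟨h01, h10, hd⟩ := h
  have hdet := PLocalB.det_entries A
  rw [h01, h10, ← hd] at hdet
  have : A 0 0 * A 0 0 = 1 := by linear_combination hdet
  rcases mul_self_eq_one_iff.mp this with e | e
  · exact Or.inl (PLocalB.eq_one_of_diag A h01 h10 e)
  · exact Or.inr (PLocalB.eq_neg_one_of_diag A h01 h10 e)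

theorem mk_eq_mk_iff {A B : SL(2, k)} :
    (QuotientGroup.mk A : PSL2 k) = QuotientGroup.mk B ↔ A = B ∨ A = -B := by
  constructor
  · intro h
    have h1 : (QuotientGroup.mk (B⁻¹ * A) : PSL2 k) = 1 := by
      rw [QuotientGroup.mk_mul, QuotientGroup.mk_inv, h, inv_mul_cancel]
    rcases eq_or_eq_neg_of_isScalar ((SL2Tor.psl_mk_eq_one_iff _).mp h1) with e | e
    · exact Or.inl (inv_mul_eq_one.mp e).symm
    · exact Or.inr (by rw [inv_mul_eq_iff_eq_mul.mp e, mul_neg, mul_one])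
  · rintro (rfl | rfl)
    · rfl
    · exact SL2Tor.psl_mk_neg B

theorem mk_ne_one {A : SL(2, k)} (h : (QuotientGroup.mk A : PSL2 k) ≠ 1) : A ≠ 1 ∧ A ≠ -1 := by
  constructor
  · rintro rfl; exact h rfl
  · rintro rfl
    exact h (mk_eq_mk_iff.mpr (Or.inr rfl))

/-- The action of `SL₂(k)` on the projective line, as a homomorphism. -/
noncomputable def slPerm (k : Type*) [Field k] : SL(2, k) →* Equiv.Perm (OnePoint k) :=
  toPermHom SL(2, k) (OnePoint k)

theorem center_le_ker : Subgroup.center SL(2, k) ≤ (slPerm k).ker := by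
  intro A hA
  rw [MonoidHom.mem_ker]
  ext w
  show A • w = w
  have h1 : (QuotientGroup.mk A : PSL2 k) = 1 := (QuotientGroup.eq_one_iff A).mpr hA
  rcases eq_or_eq_neg_of_isScalar ((SL2Tor.psl_mk_eq_one_iff A).mp h1) with rfl | rfl
  · exact one_smul _ _
  · exact PLocalB.neg_one_smul_line w

/-- The action of `PSL₂(k)` on the projective line, as a homomorphism. -/
noncomputable def pslPerm (k : Type*) [Field k] : PSL2 k →* Equiv.Perm (OnePoint k) :=
  QuotientGroup.lift _ (slPerm k) center_le_ker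

/-- The action of `PSL₂(k)` on the projective line. -/
@[reducible] noncomputable def pslLine (k : Type*) [Field k] : MulAction (PSL2 k) (OnePoint k) :=
  MulAction.compHom _ (pslPerm k)

attribute [local instance] pslLine

theorem mk_smul (A : SL(2, k)) (w : OnePoint k) : (QuotientGroup.mk A : PSL2 k) • w = A • w := rfl

theorem exists_smul_infty (w : OnePoint k) : ∃ h : PSL2 k, h • w = ∞ := by
  obtain ⟨h, hh⟩ := PLocalB.exists_smul_eq_infty w
  exact ⟨QuotientGroup.mk h, hh⟩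

theorem exists_upper_rep {g : PSL2 k} (h : g • (∞ : OnePoint k) = ∞) :
    ∃ A : SL(2, k), QuotientGroup.mk A = g ∧ A 1 0 = 0 := by
  obtain ⟨A, rfl⟩ := QuotientGroup.mk_surjective g
  exact ⟨A, rfl, (PLocalB.smul_infty_iff A).mp h⟩

theorem upper_diag {A : SL(2, k)} (h : A 1 0 = 0) : A 0 0 * A 1 1 = 1 := by
  have := PLocalB.det_entries A
  rw [h, mul_zero, sub_zero] at this
  exact this

theorem isUni_infty_iff {A : SL(2, k)} (h10 : A 1 0 = 0) :
    IsUni (∞ : OnePoint k) (QuotientGroup.mk A : PSL2 k) ↔ A 0 0 ^ 2 = 1 := by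
  have hd := upper_diag h10
  by_cases h1 : (QuotientGroup.mk A : PSL2 k) = 1
  · obtain ⟨-, -, hdiag⟩ := (SL2Tor.psl_mk_eq_one_iff A).mp h1
    refine iff_of_true (Or.inl h1) ?_
    rw [pow_two]
    nth_rewrite 2 [hdiag]
    exact hd
  obtain ⟨hA1, hA2⟩ := mk_ne_one h1
  obtain ⟨hpar, hsemi⟩ := PLocalB.fixed_upper_triangular A h10 hA1 hA2
  constructor
  · intro hu
    have hu' := hu.resolve_left h1
    by_cases ht : (A 0 0 + A 1 1) ^ 2 = 4
    · have hz : (A 0 0 - A 1 1) ^ 2 = 0 := by linear_combination ht - 4 * hd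
      rw [pow_eq_zero_iff two_ne_zero, sub_eq_zero] at hz
      rw [pow_two]; nth_rewrite 2 [hz]; exact hd
    · obtain ⟨z, hz⟩ := hsemi ht
      exact absurd ((hu' z).mp ((hz z).mpr (Or.inr rfl))) (OnePoint.coe_ne_infty z)
  · intro h2
    have heq : A 1 1 = A 0 0 := by
      have h0 : A 0 0 ≠ 0 := left_ne_zero_of_mul_eq_one hd
      apply mul_left_cancel₀ h0
      rw [hd, ← pow_two, h2]
    have ht : (A 0 0 + A 1 1) ^ 2 = 4 := by rw [heq]; linear_combination 4 * h2
    exact Or.inr fun v => ⟨hpar ht v, fun hv => hv ▸ (PLocalB.smul_infty_iff A).mpr h10⟩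

theorem uni_mul_infty {g h : PSL2 k} (hg : IsUni (∞ : OnePoint k) g) (hh : IsUni (∞ : OnePoint k) h) :
    IsUni (∞ : OnePoint k) (g * h) := by
  obtain ⟨A, rfl, hA⟩ := exists_upper_rep hg.smul_eq
  obtain ⟨B, rfl, hB⟩ := exists_upper_rep hh.smul_eq
  rw [isUni_infty_iff hA] at hg
  rw [isUni_infty_iff hB] at hh
  have h10 : (A * B) 1 0 = 0 := by simp [Matrix.mul_apply, Fin.sum_univ_two, hA, hB]
  rw [← QuotientGroup.mk_mul, isUni_infty_iff h10]
  have : (A * B) 0 0 = A 0 0 * B 0 0 := by simp [Matrix.mul_apply, Fin.sum_univ_two, hB]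
  rw [this, mul_pow, hg, hh, one_mul]

theorem uni_comm_infty {g h : PSL2 k} (hg : IsUni (∞ : OnePoint k) g) (hh : IsUni (∞ : OnePoint k) h) :
    g * h = h * g := by
  obtain ⟨A, rfl, hA⟩ := exists_upper_rep hg.smul_eq
  obtain ⟨B, rfl, hB⟩ := exists_upper_rep hh.smul_eq
  rw [isUni_infty_iff hA] at hg
  rw [isUni_infty_iff hB] at hh
  have eA : A 1 1 = A 0 0 := by
    apply mul_left_cancel₀ (left_ne_zero_of_mul_eq_one (upper_diag hA))
    rw [upper_diag hA, ← pow_two, hg]
  have eB : B 1 1 = B 0 0 := by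
    apply mul_left_cancel₀ (left_ne_zero_of_mul_eq_one (upper_diag hB))
    rw [upper_diag hB, ← pow_two, hh]
  rw [← QuotientGroup.mk_mul, ← QuotientGroup.mk_mul]
  congr 1
  ext i j
  fin_cases i <;> fin_cases j <;>
    simp [Matrix.mul_apply, Fin.sum_univ_two, hA, hB, eA, eB] <;> ring

theorem uni_mul_psl (w : OnePoint k) (g h : PSL2 k) (hg : IsUni w g) (hh : IsUni w h) :
    IsUni w (g * h) := by
  obtain ⟨t, ht⟩ := exists_smul_infty w
  have hg' := isUni_conj (g := t) hg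
  have hh' := isUni_conj (g := t) hh
  rw [ht] at hg' hh'
  rw [← isUni_conj_iff (g := t), ht, show t * (g * h) * t⁻¹ = (t * g * t⁻¹) * (t * h * t⁻¹) by group]
  exact uni_mul_infty hg' hh'

theorem uni_comm_psl (w : OnePoint k) (g h : PSL2 k) (hg : IsUni w g) (hh : IsUni w h) :
    g * h = h * g := by
  obtain ⟨t, ht⟩ := exists_smul_infty w
  have hg' := isUni_conj (g := t) hg
  have hh' := isUni_conj (g := t) hh
  rw [ht] at hg' hh'
  have := uni_comm_infty hg' hh'
  apply (MulAut.conj t).injective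
  rw [map_mul, map_mul]
  simpa using this

theorem exists_fixed_any [IsAlgClosed k] (g : SL(2, k)) : ∃ w : OnePoint k, g • w = w := by
  by_cases hc : g 1 0 = 0
  · exact ⟨∞, (PLocalB.smul_infty_iff g).mpr hc⟩
  · open Polynomial in
    obtain ⟨z, hz⟩ := IsAlgClosed.exists_root
      (C (g 1 0) * X ^ 2 + C (g 1 1 - g 0 0) * X + C (-g 0 1)) (by
        rw [degree_quadratic hc]; decide)
    simp only [Polynomial.IsRoot.def, Polynomial.eval_add, Polynomial.eval_mul, Polynomial.eval_C,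
      Polynomial.eval_pow, Polynomial.eval_X] at hz
    refine ⟨(z : OnePoint k), ?_⟩
    have hd := PLocalB.det_entries g
    have hne : g 1 0 * z + g 1 1 ≠ 0 := by
      intro h0
      apply one_ne_zero (α := k)
      linear_combination (-1 : k) * hd + g 1 0 * hz - (g 1 0 * z - g 0 0) * h0
    rw [PLocalB.smul_coe_eq, if_neg hne, OnePoint.coe_eq_coe, div_eq_iff hne]
    linear_combination -hz

theorem fix_two_psl [IsAlgClosed k] (g : PSL2 k) (hg : g ≠ 1) :
    ∃ a b : OnePoint k, ∀ v, g • v = v ↔ v = a ∨ v = b := by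
  obtain ⟨A, rfl⟩ := QuotientGroup.mk_surjective g
  obtain ⟨h1, h2⟩ := mk_ne_one hg
  obtain ⟨w, hw⟩ := exists_fixed_any A
  obtain ⟨h, hh⟩ := PLocalB.exists_smul_eq_infty w
  have h10 : (h * A * h⁻¹) 1 0 = 0 := by
    rw [← PLocalB.smul_infty_iff, ← hh, PLocalB.smul_conj_fixed]; exact hw
  obtain ⟨hpar, hsemi⟩ := PLocalB.fixed_upper_triangular _ h10 (PLocalB.conj_ne_one' h1)
    (PLocalB.conj_ne_neg_one h2)
  have key : ∀ v, (QuotientGroup.mk A : PSL2 k) • v = v ↔ (h * A * h⁻¹) • (h • v) = h • v :=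
    fun v => by rw [PLocalB.smul_conj_fixed]; rfl
  by_cases ht : ((h * A * h⁻¹) 0 0 + (h * A * h⁻¹) 1 1) ^ 2 = 4
  · refine ⟨w, w, fun v => ?_⟩
    rw [or_self, key]
    refine ⟨fun hv => ?_, fun hv => ?_⟩
    · have := hpar ht _ hv
      rw [← hh] at this
      exact smul_left_cancel h this
    · subst hv; rwa [PLocalB.smul_conj_fixed]
  · obtain ⟨z, hz⟩ := hsemi ht
    refine ⟨w, h⁻¹ • (z : OnePoint k), fun v => ?_⟩
    rw [key, hz, ← hh, smul_left_cancel_iff, eq_inv_smul_iff]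

/-- The square of the diagonal entry, on the stabiliser of infinity. -/
theorem exists_lam : ∃ f : stabilizer (PSL2 k) (∞ : OnePoint k) →* kˣ,
    ∀ x : stabilizer (PSL2 k) (∞ : OnePoint k), f x = 1 ↔ IsUni (∞ : OnePoint k) (x : PSL2 k) := by
  have hrep : ∀ x : stabilizer (PSL2 k) (∞ : OnePoint k),
      ∃ A : SL(2, k), QuotientGroup.mk A = (x : PSL2 k) ∧ A 1 0 = 0 := fun x => exists_upper_rep x.2
  choose R hR h10 using hrep
  have hne : ∀ x, R x 0 0 ≠ 0 := fun x => left_ne_zero_of_mul_eq_one (upper_diag (h10 x))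
  have hwd : ∀ (x : stabilizer (PSL2 k) (∞ : OnePoint k)) (B : SL(2, k)), QuotientGroup.mk B = (x : PSL2 k) → R x 0 0 ^ 2 = B 0 0 ^ 2 := by
    intro x B hB
    rcases mk_eq_mk_iff.mp ((hR x).trans hB.symm) with e | e <;>
      simp [e, Matrix.SpecialLinearGroup.coe_neg]
  refine ⟨MonoidHom.mk' (fun x => Units.mk0 (R x 0 0 ^ 2) (pow_ne_zero _ (hne x))) fun x y => ?_,
    fun x => ?_⟩
  · apply Units.ext
    show R (x * y) 0 0 ^ 2 = R x 0 0 ^ 2 * R y 0 0 ^ 2
    rw [hwd (x * y) (R x * R y) (by rw [QuotientGroup.mk_mul, hR, hR, Subgroup.coe_mul])]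
    simp [Matrix.mul_apply, Fin.sum_univ_two, h10, mul_pow]
  · conv_rhs => rw [← hR x, isUni_infty_iff (h10 x)]
    exact ⟨fun h => congrArg Units.val h, fun h => Units.ext h⟩

/-- A finite group mapped injectively into `PSL₂(k)` acts sharply on the line. -/
theorem sharp_of_injective [IsAlgClosed k] {G : Type*} [Group G] [Finite G] (ι : G →* PSL2 k)
    (hι : Function.Injective ι) :
    @Sharp G (OnePoint k) _ (MulAction.compHom (OnePoint k) ι) := by
  letI : MulAction G (OnePoint k) := MulAction.compHom (OnePoint k) ι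
  have hsmul : ∀ (g : G) (v : OnePoint k), g • v = ι g • v := fun _ _ => rfl
  have hU : ∀ (w : OnePoint k) (g : G), IsUni w g ↔ IsUni w (ι g) := fun w g => by
    simp only [IsUni, hsmul, map_eq_one_iff ι hι]
  refine ⟨fun g hg => fix_two_psl (ι g) (fun e => hg (hι (by rw [e, map_one]))),
    fun w g h hg hh => ?_, fun w g h hg hh => ?_, fun w => ?_⟩
  · rw [hU, map_mul]
    exact uni_mul_psl w _ _ ((hU w g).mp hg) ((hU w h).mp hh)
  · apply hι
    rw [map_mul, map_mul]
    exact uni_comm_psl w _ _ ((hU w g).mp hg) ((hU w h).mp hh)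
  · obtain ⟨t, ht⟩ := exists_smul_infty w
    obtain ⟨f, hf⟩ := exists_lam (k := k)
    have hmem : ∀ g : stabilizer G w, t * ι g * t⁻¹ ∈ stabilizer (PSL2 k) (∞ : OnePoint k) := by
      intro g
      rw [mem_stabilizer_iff, ← ht, mul_smul, mul_smul, inv_smul_smul]
      congr 1
      exact g.2
    let φ : stabilizer G w →* kˣ := f.comp
      (((MulAut.conj t).toMonoidHom.comp (ι.comp (stabilizer G w).subtype)).codRestrict _ hmem)
    have hφ : ∀ g : stabilizer G w, φ g = 1 ↔ IsUni w (g : G) := fun g => by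
      show f ⟨t * ι g * t⁻¹, hmem g⟩ = 1 ↔ _
      rw [hf, hU, ← isUni_conj_iff (g := t) (w := w), ht]
    haveI : Finite φ.range := Finite.of_surjective φ.rangeRestrict φ.rangeRestrict_surjective
    obtain ⟨⟨_, s, rfl⟩, hs⟩ := IsCyclic.exists_generator (α := φ.range)
    refine ⟨(s : G), s.2, fun g hg => ?_⟩
    obtain ⟨i, hi⟩ := Submonoid.mem_powers_iff _ _ |>.mp
      ((mem_powers_iff_mem_zpowers).mpr (hs ⟨φ ⟨g, hg⟩, ⟨g, hg⟩, rfl⟩))
    refine ⟨i, ?_⟩
    have h1 : φ ((s ^ i)⁻¹ * ⟨g, hg⟩) = 1 := by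
      rw [map_mul, map_inv, map_pow]
      have := congrArg Subtype.val hi
      simp at this
      rw [this, inv_mul_cancel]
    exact (hφ _).mp h1

end Cfsg.Agent.Dickson
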