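import Cfsg.Agent.Lib.Dickson.Lifts

/-!
Tools for reading off the maximal subgroups of `PSL₂(F)`.
-/

set_option autoImplicit false
set_option linter.unusedSectionVars false

namespace Cfsg.Agent.Dickson

open Matrix
open scoped MatrixGroups

variable {F : Type*} [Field F] [Fintype F]

theorem A4_involutions : ∃ a b : alternatingGroup (Fin 4),
    a ^ 2 = 1 ∧ a ≠ 1 ∧ b ^ 2 = 1 ∧ b ≠ 1 ∧ (a * b) ^ 2 = 1 ∧ a * b ≠ 1 := by decide +kernel

theorem S4_involutions_three : ∃ a b : Equiv.Perm (Fin 4),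
    a ^ 2 = 1 ∧ a ≠ 1 ∧ b ^ 2 = 1 ∧ b ≠ 1 ∧ (a * b) ^ 3 = 1 ∧ a * b ≠ 1 :=
  ⟨Equiv.swap 0 1, Equiv.swap 1 2, by decide +kernel⟩

theorem S4_involutions_four : ∃ a b : Equiv.Perm (Fin 4),
    a ^ 2 = 1 ∧ a ≠ 1 ∧ b ^ 2 = 1 ∧ b ≠ 1 ∧ (a * b) ^ 4 = 1 ∧ (a * b) ^ 2 ≠ 1 :=
  ⟨Equiv.swap 0 1, Equiv.swap 0 2 * Equiv.swap 1 3, by decide +kernel⟩

theorem A5_involutions : ∃ a b : alternatingGroup (Fin 5),
    a ^ 2 = 1 ∧ a ≠ 1 ∧ b ^ 2 = 1 ∧ b ≠ 1 ∧ (a * b) ^ 5 = 1 ∧ a * b ≠ 1 :=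
  ⟨⟨Equiv.swap 0 1 * Equiv.swap 2 3, Equiv.Perm.mem_alternatingGroup.mpr (by decide +kernel)⟩,
    ⟨Equiv.swap 1 2 * Equiv.swap 3 4, Equiv.Perm.mem_alternatingGroup.mpr (by decide +kernel)⟩, by decide +kernel⟩

/-- Two involutions with product of order `n`. -/
def HasDihedral (K : Subgroup (PSL2 F)) (n : ℕ) : Prop :=
  ∃ a b, a ∈ K ∧ b ∈ K ∧ orderOf a = 2 ∧ orderOf b = 2 ∧ orderOf (a * b) = n

theorem hasDihedral_of_equiv {K : Subgroup (PSL2 F)} {G : Type*} [Group G] (e : K ≃* G) {n : ℕ}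
    {a b : G} (ha : orderOf a = 2) (hb : orderOf b = 2) (hab : orderOf (a * b) = n) :
    HasDihedral K n :=
  ⟨e.symm a, e.symm b, SetLike.coe_mem _, SetLike.coe_mem _,
    by rw [Subgroup.orderOf_coe, MulEquiv.orderOf_eq, ha],
    by rw [Subgroup.orderOf_coe, MulEquiv.orderOf_eq, hb],
    by rw [← Subgroup.coe_mul, Subgroup.orderOf_coe, ← map_mul, MulEquiv.orderOf_eq, hab]⟩

theorem hasDihedral_A4 {K : Subgroup (PSL2 F)} (h : Nonempty (K ≃* alternatingGroup (Fin 4))) :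
    HasDihedral K 2 := by
  obtain ⟨e⟩ := h
  obtain ⟨a, b, h1, h1', h2, h2', h3, h3'⟩ := A4_involutions
  exact hasDihedral_of_equiv e (orderOf_eq_prime h1 h1') (orderOf_eq_prime h2 h2')
    (orderOf_eq_prime h3 h3')

theorem hasDihedral_S4 {K : Subgroup (PSL2 F)} (h : Nonempty (K ≃* Equiv.Perm (Fin 4))) :
    HasDihedral K 3 ∧ HasDihedral K 4 := by
  haveI : Fact (Nat.Prime 3) := ⟨by norm_num⟩
  obtain ⟨e⟩ := h
  constructor
  · obtain ⟨a, b, h1, h1', h2, h2', h3, h3'⟩ := S4_involutions_three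
    exact hasDihedral_of_equiv e (orderOf_eq_prime h1 h1') (orderOf_eq_prime h2 h2')
      (orderOf_eq_prime h3 h3')
  · obtain ⟨a, b, h1, h1', h2, h2', h3, h3'⟩ := S4_involutions_four
    exact hasDihedral_of_equiv e (orderOf_eq_prime h1 h1') (orderOf_eq_prime h2 h2')
      (orderOf_eq_prime_pow (p := 2) (n := 1) (by simpa using h3') (by simpa using h3))

theorem hasDihedral_A5 {K : Subgroup (PSL2 F)} (h : Nonempty (K ≃* alternatingGroup (Fin 5))) :
    HasDihedral K 5 := by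
  haveI : Fact (Nat.Prime 5) := ⟨by norm_num⟩
  obtain ⟨e⟩ := h
  obtain ⟨a, b, h1, h1', h2, h2', h3, h3'⟩ := A5_involutions
  exact hasDihedral_of_equiv e (orderOf_eq_prime h1 h1') (orderOf_eq_prime h2 h2')
    (orderOf_eq_prime h3 h3')

/-- A small dihedral subgroup lies in a conjugate of any subgroup having one of the same order. -/
theorem dihedral_le_conj (h2 : (2 : F) ≠ 0) {N K : Subgroup (PSL2 F)} {n : ℕ}
    (hn : n = 2 ∨ n = 3 ∨ n = 4 ∨ n = 5) (hnF : (n : F) ≠ 0)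
    (hN : Nonempty (N ≃* DihedralGroup n)) (hK : HasDihedral K n) :
    ∃ K' : Subgroup (PSL2 F), N ≤ K' ∧ Nat.card K' = Nat.card K := by
  obtain ⟨e⟩ := hN
  set a : PSL2 F := ((e.symm (DihedralGroup.sr 0) : N) : PSL2 F) with ha_def
  set b : PSL2 F := ((e.symm (DihedralGroup.sr 1) : N) : PSL2 F) with hb_def
  have hab_def : a * b = ((e.symm (DihedralGroup.r 1) : N) : PSL2 F) := by
    rw [ha_def, hb_def, ← Subgroup.coe_mul, ← map_mul, DihedralGroup.sr_mul_sr, sub_zero]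
  have hgen : ∀ S : Subgroup (PSL2 F), a ∈ S → b ∈ S → N ≤ S := by
    intro S hSa hSb
    let φ : DihedralGroup n →* PSL2 F := N.subtype.comp e.symm.toMonoidHom
    have h01 : DihedralGroup.r (1 : ZMod n) ∈ S.comap φ := by
      show ((e.symm (DihedralGroup.r 1) : N) : PSL2 F) ∈ S
      rw [← hab_def]; exact mul_mem hSa hSb
    have h0 : DihedralGroup.sr (0 : ZMod n) ∈ S.comap φ := hSa
    have : ∀ z, z ∈ S.comap φ := by
      haveI : NeZero n := ⟨by omega⟩
      have hr : ∀ i : ZMod n, DihedralGroup.r i ∈ S.comap φ := fun i => by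
        have := pow_mem h01 i.val
        rwa [DihedralGroup.r_one_pow, ZMod.natCast_zmod_val] at this
      rintro (i | i)
      · exact hr i
      · have := mul_mem h0 (hr i)
        rwa [DihedralGroup.sr_mul_r, zero_add] at this
    intro g hg
    have h := this (e ⟨g, hg⟩)
    rw [Subgroup.mem_comap] at h
    simpa [φ] using h
  have ha : orderOf a = 2 := by
    rw [ha_def, Subgroup.orderOf_coe, MulEquiv.orderOf_eq, DihedralGroup.orderOf_sr]
  have hb : orderOf b = 2 := by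
    rw [hb_def, Subgroup.orderOf_coe, MulEquiv.orderOf_eq, DihedralGroup.orderOf_sr]
  have hab : orderOf (a * b) = n := by
    rw [hab_def, Subgroup.orderOf_coe, MulEquiv.orderOf_eq, DihedralGroup.orderOf_r_one]
  obtain ⟨y, hy, hy0⟩ := lift_two hb
  obtain ⟨a', b', haK, hbK, ha', hb', hab'⟩ := hK
  have key : ∃ (w : SL(2, F)) (b'' : PSL2 F) (w' : SL(2, F)) (c : F), QuotientGroup.mk w = a * b ∧
      b'' ∈ K ∧ orderOf b'' = 2 ∧ QuotientGroup.mk w' = a' * b'' ∧
      c ^ 2 = 1 ∧ str w' = c * str w ∧ str w ^ 2 ≠ 4 := by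
    rcases hn with rfl | rfl | rfl | rfl
    · obtain ⟨w, hw, hw1⟩ := lift_two hab
      obtain ⟨w', hw', hw1'⟩ := lift_two hab'
      refine ⟨w, b', w', 1, hw, hbK, hb', hw', one_pow 2, by rw [hw1, hw1', mul_zero], fun e => ?_⟩
      rw [hw1] at e
      exact mul_ne_zero h2 h2 (by linear_combination -e)
    · obtain ⟨w, hw, hw1⟩ := lift_three hab
      obtain ⟨w', hw', hw1'⟩ := lift_three hab'
      refine ⟨w, b', w', 1, hw, hbK, hb', hw', one_pow 2, by rw [hw1, hw1', one_mul], fun e => ?_⟩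
      rw [hw1] at e
      exact hnF (by push_cast; linear_combination -e)
    · obtain ⟨w, hw, hw1⟩ := lift_four hab
      obtain ⟨w', hw', hw1'⟩ := lift_four hab'
      obtain ⟨c, hc, hc'⟩ : ∃ c : F, c ^ 2 = 1 ∧ str w' = c * str w := by
        rcases sq_eq_sq_iff_eq_or_eq_neg.mp (hw1'.trans hw1.symm) with e | e
        · exact ⟨1, one_pow 2, by rw [e, one_mul]⟩
        · exact ⟨-1, neg_one_sq, by rw [e, neg_one_mul]⟩
      refine ⟨w, b', w', c, hw, hbK, hb', hw', hc, hc', fun e => h2 ?_⟩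
      linear_combination hw1 - e
    · obtain ⟨w, hw, hw1⟩ := lift_five hab
      obtain ⟨w', hw', hw1'⟩ := lift_five hab'
      have hne : str w ^ 2 ≠ 4 := fun e => by
        have h3 : str w = 3 := by linear_combination e - hw1
        rw [h3] at e
        exact hnF (by push_cast; linear_combination e)
      have : (str w' - str w) * (str w' + str w - 1) = 0 := by linear_combination hw1' - hw1
      rcases mul_eq_zero.mp this with e | e
      · exact ⟨w, b', w', 1, hw, hbK, hb', hw', one_pow 2, by linear_combination e, hne⟩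
      · have hbb : b'⁻¹ = b' := inv_eq_of_mul_eq_one_right (by
          rw [← pow_two]; exact orderOf_dvd_iff_pow_eq_one.mp (dvd_of_eq hb'))
        refine ⟨w, b' * a' * b', w' * w', -1, hw, mul_mem (mul_mem hbK haK) hbK, ?_, ?_, neg_one_sq,
          ?_, hne⟩
        · conv_lhs => rw [show b' * a' * b' = MulAut.conj b' a' by rw [MulAut.conj_apply, hbb]]
          exact (MulEquiv.orderOf_eq _ _).trans ha'
        · rw [QuotientGroup.mk_mul, hw']; group
        · rw [str_sq, hw1']; linear_combination e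
  obtain ⟨w, b'', w', c, hw, hbK', hb'', hw', hc, hcw, hne⟩ := key
  obtain ⟨x, hx, hx0, hxy⟩ := lift_triple ha hy hw
  obtain ⟨y', hy', hy0'⟩ := lift_two hb''
  obtain ⟨x', hx', hx0', hxy'⟩ := lift_triple ha' hy' hw'
  have hc0 : c ≠ 0 := fun e => by rw [e] at hc; simp at hc
  obtain ⟨D, h1, h1'⟩ := conj_into_gen (K.map (toP F)) x y hc0
    (Matrix.SpecialLinearGroup.toGL x') (Matrix.SpecialLinearGroup.toGL y')
    ⟨_, hx'.symm ▸ haK, rfl⟩ ⟨_, hy'.symm ▸ hbK', rfl⟩
    (by show str x' = c * str x; rw [hx0, hx0', mul_zero])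
    (by show (x' : Matrix (Fin 2) (Fin 2) F).det = c ^ 2; rw [x'.2, hc])
    (by show str y' = str y; rw [hy0, hy0'])
    y'.2
    (by
      show ((x' : Matrix (Fin 2) (Fin 2) F) * (y' : Matrix (Fin 2) (Fin 2) F)).trace = c * str (x * y)
      rw [← Matrix.SpecialLinearGroup.coe_mul, hxy]
      exact hxy'.trans hcw)
    (by
      show str (x * y) ^ 2 - str x * str y * str (x * y) + str x ^ 2 + str y ^ 2 ≠ 4
      rw [hx0, hy0, hxy]
      simpa using hne)
  refine ⟨_, hgen _ (hx ▸ h1) (hy ▸ h1'), ?_⟩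
  obtain ⟨e'⟩ := exists_pullBack_equiv D (S := K.map (toP F)) (Subgroup.map_le_range _ _)
  rw [Nat.card_congr e'.toEquiv, Subgroup.card_map_of_injective toP_injective]

/-- Such a dihedral subgroup is not maximal. -/
theorem not_isCoatom_dihedral (h2 : (2 : F) ≠ 0) {N K : Subgroup (PSL2 F)} {n : ℕ}
    (hn : n = 2 ∨ n = 3 ∨ n = 4 ∨ n = 5) (hnF : (n : F) ≠ 0)
    (hN : Nonempty (N ≃* DihedralGroup n)) (hK : HasDihedral K n) (h1 : 2 * n < Nat.card K)
    (h3 : Nat.card K < Nat.card (PSL2 F)) : ¬ IsCoatom N := fun hM => by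
  obtain ⟨K', hle, hc⟩ := dihedral_le_conj h2 hn hnF hN hK
  obtain ⟨e⟩ := hN
  exact false_of_le hM hle (by rw [hc, Nat.card_congr e.toEquiv, DihedralGroup.nat_card]; exact h1)
    (hc ▸ h3)

theorem exists_root {T : Subfield F} (h : 5 ∣ Nat.card T * (Nat.card T ^ 2 - 1)) :
    ∃ r ∈ T, r ^ 2 = r + 1 := by
  haveI : Fintype T := Fintype.ofFinite T
  rw [Nat.card_eq_fintype_card] at h
  obtain ⟨H, hH⟩ := exists_A5_of_dvd h
  obtain ⟨a, b, -, -, -, hb, -, -⟩ := gen_A5 H hH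
  obtain ⟨A, -, hA⟩ := lift_five hb
  exact ⟨(str A : T), (str A : T).2, by exact_mod_cast congrArg Subtype.val hA⟩

theorem exists_subfield_dvd {p n r : ℕ} [Fact p.Prime] (hF : Fintype.card F = p ^ n) (hr : r ∣ n)
    (hr0 : 1 ≤ r) : ∃ T : Subfield F, Nat.card T = p ^ r := by
  obtain ⟨m, rfl⟩ := hr
  obtain ⟨T, hT⟩ := exists_subfield_card (F := F) (p := p) (a := 1) le_rfl
    (r := r) (m := m) (by rw [pow_one, hF]) hr0
  exact ⟨T, by rw [hT, pow_one]⟩

theorem card_le_of_le_pullBack {M : Subgroup (PSL2 F)} {D : ProjGenLinGroup (Fin 2) F}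
    {T : Subfield F} (hle : M ≤ pullBack D (pglImage T)) :
    Nat.card M ≤ Nat.card T * (Nat.card T ^ 2 - 1) :=
  card_pglImage T ▸ (Subgroup.card_le_of_le hle).trans (card_pullBack_le _ _)

/-- A subgroup inside `PGL₂(T)` is not maximal if there is a field strictly between. -/
theorem false_of_composite {M : Subgroup (PSL2 F)} (hM : IsCoatom M)
    {D : ProjGenLinGroup (Fin 2) F} {T : Subfield F} {m r : ℕ}
    (hle : M ≤ pullBack D (pglImage T)) (h : Nat.card T ^ m = Fintype.card F) (hr : r ∣ m)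
    (h2r : 2 ≤ r) (hlt : r < m) : False := by
  obtain ⟨T', hTT', hT'⟩ := exists_intermediate h hr (by omega)
  obtain ⟨c, rfl⟩ := hr
  have hc : 2 ≤ c := by
    by_contra hc
    interval_cases c <;> omega
  have ht : 2 ≤ Nat.card T := Finite.one_lt_card
  refine false_of_le_subfield hM (hle.trans (pullBack_mono (pglImage_mono hTT'))) ?_ ?_
  · rw [hT', ← h, ← pow_mul]
    exact Nat.pow_le_pow_right (by omega) (Nat.mul_le_mul_left r hc)
  · have h1 := card_le_of_le_pullBack hle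
    have h2 : Nat.card T ^ 2 ≤ Nat.card T' := hT' ▸ Nat.pow_le_pow_right (by omega) h2r
    have h4 : 2 * Nat.card T ≤ Nat.card T ^ 2 := by rw [pow_two]; exact Nat.mul_le_mul_right _ ht
    have h5 : Nat.card T < Nat.card T' := by omega
    have h6 : Nat.card T ^ 2 < Nat.card T' ^ 2 := Nat.pow_lt_pow_left h5 two_ne_zero
    have h7 : 1 ≤ Nat.card T ^ 2 := Nat.one_le_pow _ _ (by omega)
    calc 2 * Nat.card M ≤ 2 * (Nat.card T * (Nat.card T ^ 2 - 1)) := Nat.mul_le_mul_left _ h1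
      _ = 2 * Nat.card T * (Nat.card T ^ 2 - 1) := (mul_assoc _ _ _).symm
      _ ≤ Nat.card T' * (Nat.card T ^ 2 - 1) := Nat.mul_le_mul_right _ (h4.trans h2)
      _ < Nat.card T' * (Nat.card T' ^ 2 - 1) :=
          Nat.mul_lt_mul_of_pos_left (by omega) (by omega)

/-- For an even degree only all of `PGL₂(T)` can be maximal. -/
theorem eq_of_even {M : Subgroup (PSL2 F)} (hM : IsCoatom M) {D : ProjGenLinGroup (Fin 2) F}
    {T : Subfield F} {m : ℕ} (hle : M ≤ pullBack D (pglImage T))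
    (h : Nat.card T ^ m = Fintype.card F) (hm : Even m) (hm0 : 1 ≤ m) :
    Nonempty (M ≃* ProjGenLinGroup (Fin 2) T) ∧
      Nat.card M = Nat.card T * (Nat.card T ^ 2 - 1) := by
  have ht : 2 ≤ Nat.card T := Finite.one_lt_card
  have hm2 : 2 ≤ m := by obtain ⟨j, rfl⟩ := hm; omega
  have hc : Nat.card (pullBack D (pglImage T)) = Nat.card T * (Nat.card T ^ 2 - 1) := by
    refine le_antisymm (card_pglImage T ▸ card_pullBack_le _ _) ?_
    exact card_pglImage T ▸ card_le_pullBack D le_rfl (pglImage_le_range (isSquare_subfield h hm))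
  have heq : M = pullBack D (pglImage T) := by
    rcases hle.eq_or_lt with e | e
    · exact e
    · exfalso
      have h1 := hM.2 _ e
      rw [h1, Subgroup.card_top] at hc
      exact (pgl_card_lt ht (h ▸ Nat.pow_le_pow_right (by omega) hm2)).ne hc.symm
  exact ⟨heq ▸ pullBack_pgl_equiv D h hm, heq ▸ hc⟩

theorem le_pullBack_of_big {M : Subgroup (PSL2 F)} {T : Subfield F} (h : Big M T) :
    ∃ D, M ≤ pullBack D (pglImage T) := by
  obtain ⟨D, hD⟩ := h.2.2.2.2
  exact ⟨D, fun g hg => mem_pullBack.mpr (hD g hg)⟩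

end Cfsg.Agent.Dickson
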