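import Cfsg.Agent.Lib.Dickson.PGLMaximal

/-!
The types of maximal subgroups of `PGL₂(q)`, `q` odd, not containing `PSL₂(q)`.
-/

set_option autoImplicit false
set_option linter.unusedSectionVars false

namespace Cfsg.Agent.Dickson

open Matrix MulAction OnePoint
open scoped MatrixGroups

attribute [local instance] Cfsg.Agent.PLocalB.lineAction pslLine pslBar finite_pgl pglBar

variable {F : Type*} [Field F] [Fintype F] {M : Subgroup (ProjGenLinGroup (Fin 2) F)}

/-- `M ∩ L ≅ A₄` when `M ≅ S₄`. -/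
theorem PGLMax.comap_A4 (hM : PGLMax M) (h : Nonempty (M ≃* Equiv.Perm (Fin 4))) :
    Nonempty (M.comap (toP F) ≃* alternatingGroup (Fin 4)) := by
  obtain ⟨e⟩ := h
  let φ : M.comap (toP F) →* Equiv.Perm (Fin 4) :=
    e.toMonoidHom.comp (((toP F).comp (M.comap (toP F)).subtype).codRestrict M fun x => x.2)
  have hφ : Function.Injective φ := fun a b hab =>
    Subtype.ext (toP_injective (congrArg Subtype.val (e.injective hab)))
  have hc : φ.range.index = 2 := by
    have h1 := Subgroup.card_mul_index φ.range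
    rw [← Nat.card_congr (MonoidHom.ofInjective hφ).toEquiv, ← Nat.card_congr e.toEquiv, hM.card_eq,
      mul_comm 2] at h1
    exact Nat.eq_of_mul_eq_mul_left Nat.card_pos h1
  exact ⟨(MonoidHom.ofInjective hφ).trans
    (MulEquiv.subgroupCongr (Equiv.Perm.eq_alternatingGroup_of_index_eq_two hc))⟩

/-- For `q ≡ ±1 (mod 8)` prime the `A₄` of `M` would have a larger normaliser. -/
theorem PGLMax.not_A4_of_S4 (hM : PGLMax M)
    (hA : Nonempty (M.comap (toP F) ≃* alternatingGroup (Fin 4)))
    (hq : Fintype.card F ^ 2 % 16 = 1) : False := by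
  obtain ⟨K, hK⟩ := exists_S4_of hq
  obtain ⟨X, hXK, hX⟩ := exists_A4_in (Or.inl hK)
  obtain ⟨K', hle, hc⟩ := A4_le_conj (two_ne_zero_of_odd hM.odd) _ X K hA hX hXK
  have hcA : Nat.card (M.comap (toP F)) = 12 := by rw [Nat.card_congr hA.some.toEquiv, card_A4]
  have hcK : Nat.card K' = 24 := by rw [hc, Nat.card_congr hK.some.toEquiv, card_S4]
  have hidx : ((M.comap (toP F)).subgroupOf K').index = 2 := by
    have := Subgroup.card_mul_index ((M.comap (toP F)).subgroupOf K')
    rw [Nat.card_congr (Subgroup.subgroupOfEquivOfLe hle).toEquiv, hcK, hcA] at this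
    omega
  have hn := Subgroup.normal_of_index_eq_two hidx
  have hN := hM.mem_of_normalises (fun e => by rw [e, Subgroup.card_bot] at hcA; omega) le_rfl
    hM.le_normalizer
  have hle' : K'.map (toP F) ≤ M := by
    rw [← hN]
    rintro _ ⟨k, hk, rfl⟩
    refine mem_normalizer_of_conj ?_
    rintro _ ⟨x, hx, rfl⟩
    exact ⟨k * x * k⁻¹, hn.conj_mem ⟨x, hle hx⟩ hx ⟨k, hk⟩, by simp⟩
  have := Subgroup.card_le_of_le (Subgroup.map_le_iff_le_comap.mp hle')
  omega

/-- The types. -/
def PGLType (M : Subgroup (ProjGenLinGroup (Fin 2) F)) : Prop :=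
  (∃ w : OnePoint F, M.comap (toP F) = stabilizer (PSL2 F) w ∧
      Nat.card M = Fintype.card F * (Fintype.card F - 1)) ∨
  (∃ n, (n = Fintype.card F - 1 ∨ n = Fintype.card F + 1) ∧ Nonempty (M ≃* DihedralGroup n)) ∨
  ((Fintype.card F).Prime ∧ (Fintype.card F % 8 = 3 ∨ Fintype.card F % 8 = 5) ∧
      Nonempty (M ≃* Equiv.Perm (Fin 4)) ∧
      Nonempty (M.comap (toP F) ≃* alternatingGroup (Fin 4))) ∨
  (∃ (D : ProjGenLinGroup (Fin 2) F) (T : Subfield F) (m : ℕ), m.Prime ∧ Odd m ∧
      Nat.card T ^ m = Fintype.card F ∧ M = pglConj D T)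

theorem PGLMax.type_of_le (hM : PGLMax M) {D : ProjGenLinGroup (Fin 2) F} {T : Subfield F}
    (hle : M ≤ pglConj D T) (hT : Nat.card T < Fintype.card F) : PGLType M := by
  obtain ⟨heq, m, h1, h2, h3⟩ := hM.subfield_conclude hle hT
  exact Or.inr (Or.inr (Or.inr ⟨D, T, m, h1, h2, h3, heq⟩))

theorem PGLMax.type_of_comap_le (hM : PGLMax M) {D : ProjGenLinGroup (Fin 2) F} {T : Subfield F}
    (hle : M.comap (toP F) ≤ pullBack D (pglImage T))
    (hcard : Nat.card M = Nat.card T * (Nat.card T ^ 2 - 1)) : PGLType M := by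
  obtain ⟨h1, h2⟩ := hM.le_pglConj hle hcard
  exact hM.type_of_le h1 h2

theorem PGLMax.classify (hM : PGLMax M) : PGLType M := by
  classical
  obtain ⟨p, hp⟩ := CharP.exists F
  obtain ⟨⟨n, hn0⟩, hpp, hqn⟩ := FiniteField.card F p
  replace hqn : Fintype.card F = p ^ n := hqn
  haveI := Fact.mk hpp
  have h2 := two_ne_zero_of_odd hM.odd
  have hp2 : p ≠ 2 := fun e => h2 (by
    have := CharP.cast_eq_zero F p
    rw [e] at this
    exact_mod_cast this)
  have hq2 := Nat.odd_iff.mp hM.odd
  have hq4 := hM.four_le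
  have hP := ovoid_pgl hM.odd
  have hcG := card_pgl (F := F)
  have hA : Sharp M (OnePoint (AlgebraicClosure F)) :=
    sharp_of_injective ((pglHom F).comp M.subtype) (pglHom_injective.comp Subtype.val_injective)
  have hu : ∀ (v : OnePoint (AlgebraicClosure F)) (x : M),
      IsUni v x ↔ IsUni v (x : ProjGenLinGroup (Fin 2) F) := fun v x =>
    or_congr Subtype.ext_iff Iff.rfl
  have semis : ∀ x : M, x ≠ 1 → (¬ ∃ v : OnePoint (AlgebraicClosure F), IsUni v x) →
      (∀ m : M, m * x * m⁻¹ ∈ Subgroup.zpowers x) → PGLType M := by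
    intro x hx hns hnorm
    obtain ⟨N, k, hk, ⟨e⟩, -, hN, -, -, hkind⟩ :=
      hP.exists_torus (g := (x : ProjGenLinGroup (Fin 2) F)) (fun h => hx (Subtype.ext h))
        (fun ⟨v, hv⟩ => hns ⟨v, (hu v x).mpr hv⟩)
    have hle : M ≤ N := fun m hm => hN m (by
      obtain ⟨i, hi⟩ := hnorm ⟨m, hm⟩
      exact ⟨i, by simpa using congrArg Subtype.val hi⟩)
    have hk' : k = Fintype.card F - 1 ∨ k = Fintype.card F + 1 := by
      rcases hkind with ⟨h, -⟩ | ⟨h, -⟩ <;> omega
    have hNtop : N ≠ ⊤ := fun htop => by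
      have h1 : Nat.card N = 2 * k := by rw [Nat.card_congr e.toEquiv, DihedralGroup.nat_card]
      rw [htop, Subgroup.card_top, hcG] at h1
      have h2' : 5 * 3 ≤ Fintype.card F * (Fintype.card F - 1) := Nat.mul_le_mul (by omega) (by omega)
      have : (Fintype.card F + 1) * 3 ≤
          (Fintype.card F + 1) * (Fintype.card F * (Fintype.card F - 1)) :=
        Nat.mul_le_mul_left _ (by omega)
      omega
    obtain rfl : M = N := by
      rcases hle.eq_or_lt with e' | e'
      · exact e'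
      · exact absurd (hM.coatom.2 _ e') hNtop
    exact Or.inr (Or.inl ⟨k, hk', ⟨e⟩⟩)
  have odd_in : ∀ x : ProjGenLinGroup (Fin 2) F, ∀ k, Odd k → orderOf x = k → x ∈ (toP F).range :=
    fun x k hk ho => mem_range_of_pow_odd hM.odd hk (by
      rw [orderOf_dvd_iff_pow_eq_one.mp (dvd_of_eq ho)]; exact one_mem _)
  rcases Dickson.classify hA with ⟨hcyc, hns⟩ | ⟨w, hfix, hu1⟩ | ⟨k, hk, ⟨e⟩, t, ht, hns⟩ | h | h | h |
      ⟨w, hw3, horb, hst⟩
  · obtain ⟨x, hx⟩ := hcyc.exists_generator
    refine semis x (fun e => hM.not_le fun m hm => ?_) (hns x ?_) (fun m => hx _)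
    · obtain ⟨i, hi⟩ := hx ⟨m, hm⟩
      simp only [e, _root_.one_zpow] at hi
      rw [show m = 1 from (congrArg Subtype.val hi).symm]
      exact one_mem _
    · intro e
      refine hM.not_le fun m hm => ?_
      obtain ⟨i, hi⟩ := hx ⟨m, hm⟩
      simp only [e, _root_.one_zpow] at hi
      rw [show m = 1 from (congrArg Subtype.val hi).symm]
      exact one_mem _
  · left
    obtain ⟨u, hu'⟩ : ∃ u : uni hA w, u ≠ 1 := by
      haveI : Nontrivial (uni hA w) := Finite.one_lt_card_iff_nontrivial.mp hu1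
      exact exists_ne 1
    have huu := (hu w u).mp u.2
    obtain ⟨w₀, rfl⟩ : ∃ w₀, pointMap (algebraMap F (AlgebraicClosure F)) w₀ = w := by
      by_contra hno
      have h1 : uc (sharp_pgl (F := F)) w = 1 := hP.uni_out w hno
      have := Subgroup.card_eq_one.mp h1
      have h0 : ((u : M) : ProjGenLinGroup (Fin 2) F) = 1 :=
        Subgroup.mem_bot.mp (this ▸ (huu : _ ∈ uni sharp_pgl w))
      exact hu' (Subtype.ext (Subtype.ext h0))
    have hle : M ≤ stabilizer (ProjGenLinGroup (Fin 2) F)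
        (pointMap (algebraMap F (AlgebraicClosure F)) w₀) := fun m hm => hfix ⟨m, hm⟩
    have hst := hP.d_mul_st (a := pointMap (algebraMap F (AlgebraicClosure F)) w₀) ⟨w₀, rfl⟩
    rw [one_mul, st] at hst
    have heq : M = stabilizer (ProjGenLinGroup (Fin 2) F)
        (pointMap (algebraMap F (AlgebraicClosure F)) w₀) := by
      rcases hle.eq_or_lt with e | e
      · exact e
      · exfalso
        rw [hM.coatom.2 _ e, Subgroup.card_top, hcG] at hst
        have : 0 < Fintype.card F * (Fintype.card F - 1) := Nat.mul_pos (by omega) (by omega)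
        nlinarith
    refine ⟨w₀, ?_, by rw [heq]; exact hst⟩
    have hH0 : M.comap (toP F) ≤ stabilizer (PSL2 F) w₀ := by
      intro g hg
      have h1 : toP F g • pointMap (algebraMap F (AlgebraicClosure F)) w₀ = _ := hle hg
      apply pointMap_injective (algebraMap F (AlgebraicClosure F))
      rw [← extend_smul, ← pglHom_toP]
      exact h1
    refine Subgroup.eq_of_le_of_card_ge hH0 ?_
    have h3 := d_mul_card_stabilizer (F := F) w₀
    have h4 := hM.card_eq
    rw [d_eq_two hM.odd] at h3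
    rw [← heq] at hst
    omega
  · refine semis t (fun e => by rw [e, orderOf_one] at ht; omega) hns fun m => ?_
    have hidx : (Subgroup.zpowers t).index = 2 := by
      have := Subgroup.card_mul_index (Subgroup.zpowers t)
      rw [Nat.card_zpowers, ht, Nat.card_congr e.toEquiv, DihedralGroup.nat_card, mul_comm 2] at this
      exact Nat.eq_of_mul_eq_mul_left (by omega) this
    exact (Subgroup.normal_of_index_eq_two hidx).conj_mem _ (Subgroup.mem_zpowers t) m
  · exfalso
    obtain ⟨a, b, -, -, -, hb, hab, hgen⟩ := gen_A4 M h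
    have h1 := odd_in b 3 (by decide) hb
    exact hM.not_le (hgen _
      ((Subgroup.mul_mem_cancel_right _ h1).mp (odd_in _ 3 (by decide) hab)) h1)
  · obtain ⟨T, hT⟩ := exists_subfield_dvd (F := F) hqn (one_dvd n) le_rfl
    rcases (show n = 1 ∨ 1 < n by omega) with rfl | hn1
    · rw [pow_one] at hqn
      refine Or.inr (Or.inr (Or.inl ⟨hqn ▸ hpp, ?_, h, hM.comap_A4 h⟩))
      by_contra h38
      refine hM.not_A4_of_S4 (hM.comap_A4 h) ?_
      rw [Nat.pow_mod]
      rcases (show Fintype.card F % 16 = 1 ∨ Fintype.card F % 16 = 7 ∨ Fintype.card F % 16 = 9 ∨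
        Fintype.card F % 16 = 15 by omega) with e | e | e | e <;> rw [e]
    · obtain ⟨D, hle⟩ := pgl_S4_le hM.odd M h T
      refine hM.type_of_le hle ?_
      rw [hT, pow_one, hqn]
      exact lt_self_pow₀ hpp.one_lt hn1
  · exfalso
    obtain ⟨a, b, -, -, -, hb, hab, hgen⟩ := gen_A5 M h
    have h1 := odd_in b 5 (by decide) hb
    exact hM.not_le (hgen _
      ((Subgroup.mul_mem_cancel_right _ h1).mp (odd_in _ 3 (by decide) hab)) h1)
  · -- the subfield configuration
    have hwP : ∀ v : OnePoint (AlgebraicClosure F), ∀ x : M, x ≠ 1 → IsUni v x →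
        ∃ g : PSL2 F, g ∈ M.comap (toP F) ∧ g ≠ 1 ∧ IsUni v g := by
      intro v x hx hxu
      have hxu' := (hu v x).mp hxu
      obtain ⟨g, hg⟩ := isUni_mem_range hM.odd hxu'
      refine ⟨g, show toP F g ∈ M from hg ▸ x.2, fun e => hx (Subtype.ext ?_), ?_⟩
      · rw [← hg, e, map_one]; rfl
      · exact (toP_isUni_iff v g).mp (hg ▸ hxu')
    obtain ⟨v, hv, hvw⟩ : ∃ v ∈ orbit M w, v ≠ w := by
      by_contra hcon
      push Not at hcon
      have hsub : orbit M w ⊆ ({w} : Set _) := hcon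
      have := Set.ncard_le_ncard hsub (Set.finite_singleton w)
      rw [Set.ncard_singleton, ← Nat.card_coe_set_eq] at this
      change orb M w ≤ 1 at this
      omega
    obtain ⟨m₀, rfl⟩ := hv
    obtain ⟨u, hu'⟩ : ∃ u : uni hA w, u ≠ 1 := by
      haveI : Nontrivial (uni hA w) := Finite.one_lt_card_iff_nontrivial.mp (show 1 < uc hA w by omega)
      exact exists_ne 1
    obtain ⟨g₁, hg₁, hg₁1, hg₁u⟩ := hwP w (u : M) (fun e => hu' (Subtype.ext e)) u.2
    obtain ⟨g₂, hg₂, hg₂1, hg₂u⟩ := hwP (m₀ • w) (m₀ * (u : M) * m₀⁻¹)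
      (fun e => hu' (Subtype.ext (conj_eq_one_iff.mp e))) (isUni_conj u.2)
    have hord : orderOf g₁ = p := orderOf_eq_prime (isUni_bar_pow p hg₁u) hg₁1
    -- the count
    have hcardM : Nat.card M ≤ (uc hA w + 1) * (uc hA w * (uc hA w - 1)) := by
      rw [← orb_mul_st (G := M) w, horb]
      exact Nat.mul_le_mul_left _ (by rcases hst with h | h <;> omega)
    obtain ⟨hudvd, huq⟩ : uc hA w ∣ Nat.card (M.comap (toP F)) ∧ uc hA w ∣ Fintype.card F := by
      let U : Subgroup (PSL2 F) := ((uni hA w).map M.subtype).comap (toP F)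
      have hrange : (uni hA w).map M.subtype ≤ (toP F).range := by
        rintro _ ⟨x, hx, rfl⟩
        exact isUni_mem_range hM.odd ((hu w x).mp hx)
      have hcU : Nat.card U = uc hA w := by
        rw [card_comap_toP, inf_eq_left.mpr hrange, Subgroup.card_map_of_injective M.subtype_injective]
        rfl
      have hUH : U ≤ M.comap (toP F) := by
        intro g hg
        obtain ⟨x, -, hx⟩ := hg
        show toP F g ∈ M
        rw [← hx]; exact x.2
      have hUu : U ≤ uni (sharp_bar (F := F)) w := by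
        intro g hg
        obtain ⟨x, hx, hxg⟩ := hg
        refine (toP_isUni_iff w g).mp ?_
        rw [← hxg]
        exact (hu w x).mp hx
      refine ⟨hcU ▸ Subgroup.card_dvd_of_le hUH, ?_⟩
      have h1 := hcU ▸ Subgroup.card_dvd_of_le hUu
      have hwr : w ∈ Set.range (pointMap (algebraMap F (AlgebraicClosure F))) := by
        by_contra hno
        have hw1 : Nat.card (uni (sharp_bar (F := F)) w) = 1 := ovoid_psl.uni_out w hno
        rw [hw1] at h1
        have := Nat.le_of_dvd one_pos h1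
        omega
      exact h1.trans (dvd_of_eq (ovoid_psl.uc_eq w hwr))
    rw [hqn] at huq
    obtain ⟨a, -, hua⟩ := (Nat.dvd_prime_pow hpp).mp huq
    have hpu : p ∣ uc hA w := by
      rcases Nat.eq_zero_or_pos a with rfl | ha
      · rw [pow_zero] at hua; omega
      · exact hua ▸ dvd_pow_self p ha.ne'
    have hcH := hM.card_eq
    rcases subgroup_cases p (M.comap (toP F)) with
      ⟨w₀, hw⟩ | ⟨N, k, hN, hle⟩ | hA4 | hS4 | hA5 | ⟨T, hT⟩
    · exfalso
      have key : ∀ v : OnePoint (AlgebraicClosure F), ∀ g : PSL2 F, g ∈ M.comap (toP F) → g ≠ 1 →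
          IsUni v g → pointMap (algebraMap F (AlgebraicClosure F)) w₀ = v := fun v g hg hg1 hgu =>
        (hgu.resolve_left hg1 _).mp (by rw [bar_smul, show g • w₀ = w₀ from hw hg])
      exact hvw ((key _ g₂ hg₂ hg₂1 hg₂u).symm.trans (key w g₁ hg₁ hg₁1 hg₁u))
    · exfalso
      obtain ⟨hk2, ⟨e⟩, -, hk⟩ := hN
      rw [d_eq_two hM.odd] at hk
      have hpk : p ∣ k := by
        have ho : orderOf (e ⟨g₁, hle hg₁⟩) = p := by
          rw [MulEquiv.orderOf_eq, Subgroup.orderOf_mk, hord]
        haveI : NeZero k := ⟨by omega⟩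
        rcases hx : e ⟨g₁, hle hg₁⟩ with i | i <;> rw [hx] at ho
        · rw [← ho, DihedralGroup.orderOf_r]; exact Nat.div_dvd_of_dvd (Nat.gcd_dvd_left _ _)
        · rw [DihedralGroup.orderOf_sr] at ho; exact absurd ho.symm hp2
      have hpq : p ∣ Fintype.card F := hqn ▸ dvd_pow_self p hn0.ne'
      have h1 : p ∣ 1 := by
        rcases hk with hk | hk
        · have := Nat.dvd_sub hpq (hpk.trans (Dvd.intro_left 2 hk))
          rwa [Nat.sub_sub_self (by omega : 1 ≤ Fintype.card F)] at this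
        · exact (Nat.dvd_add_right hpq).mp (hpk.trans (Dvd.intro_left 2 hk))
      exact hpp.not_dvd_one h1
    · rw [Nat.card_congr hA4.some.toEquiv, card_A4] at hcH hudvd
      have hp3 : p = 3 := by
        have h12 : p ∣ 2 ^ 2 * 3 := hpu.trans hudvd
        rcases hpp.dvd_mul.mp h12 with h | h
        · exact absurd ((Nat.prime_dvd_prime_iff_eq hpp Nat.prime_two).mp (hpp.dvd_of_dvd_pow h)) hp2
        · exact (Nat.prime_dvd_prime_iff_eq hpp Nat.prime_three).mp h
      obtain ⟨T, hT⟩ := exists_subfield_dvd (F := F) hqn (one_dvd n) le_rfl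
      rw [pow_one, hp3] at hT
      obtain ⟨D, hle⟩ := A4_conj_into h2 _ hA4 T
      exact hM.type_of_comap_le hle (by rw [hcH, hT]; norm_num)
    · exfalso
      rw [Nat.card_congr hS4.some.toEquiv, card_S4] at hcH hudvd
      have hu3 : uc hA w = 3 := by
        have h24 : uc hA w ∣ 3 * 2 ^ 3 := hudvd
        have hc : Nat.Coprime (uc hA w) (2 ^ 3) := by
          rw [hua]
          exact Nat.Coprime.pow _ _ ((Nat.coprime_primes hpp Nat.prime_two).mpr hp2)
        exact (Nat.prime_three.eq_one_or_self_of_dvd _ (hc.dvd_of_dvd_mul_right h24)).resolve_left (by omega)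
      rw [hu3, hcH] at hcardM
      norm_num at hcardM
    · rw [Nat.card_congr hA5.some.toEquiv, card_A5] at hcH hudvd
      have hp35 : p = 3 ∨ p = 5 := by
        have h60 : p ∣ 2 ^ 2 * (3 * 5) := hpu.trans hudvd
        rcases hpp.dvd_mul.mp h60 with h | h
        · exact absurd ((Nat.prime_dvd_prime_iff_eq hpp Nat.prime_two).mp (hpp.dvd_of_dvd_pow h)) hp2
        · exact (hpp.dvd_mul.mp h).imp (Nat.prime_dvd_prime_iff_eq hpp Nat.prime_three).mp
            (Nat.prime_dvd_prime_iff_eq hpp Nat.prime_five).mp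
      rcases hp35 with rfl | rfl
      · exfalso
        have hc : Nat.Coprime (uc hA w) 20 := by
          rw [hua]; exact Nat.Coprime.pow_left _ (by norm_num)
        have hu3 := (Nat.prime_three.eq_one_or_self_of_dvd _
          (hc.dvd_of_dvd_mul_right (show uc hA w ∣ 3 * 20 from hudvd))).resolve_left (by omega)
        rw [hu3, hcH] at hcardM
        norm_num at hcardM
      · obtain ⟨T, hT⟩ := exists_subfield_dvd (F := F) hqn (one_dvd n) le_rfl
        rw [pow_one] at hT
        obtain ⟨s, hs, hs2⟩ := exists_root (T := T) (by rw [hT]; norm_num)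
        obtain ⟨D, hle⟩ := A5_conj_into h2 _ hA5 T hs hs2
        exact hM.type_of_comap_le hle (by rw [hcH, hT]; norm_num)
    · obtain ⟨D, hle⟩ := le_pullBack_of_big hT
      refine hM.type_of_comap_le hle ?_
      obtain ⟨m, hm1, hTm⟩ := exists_pow_card T
      rw [hqn] at hTm
      obtain ⟨b, -, hb⟩ := (Nat.dvd_prime_pow hpp).mp
        ((dvd_pow_self (Nat.card T) (show m ≠ 0 by omega)).trans (dvd_of_eq hTm))
      have hb0 : 1 ≤ b := by
        rcases Nat.eq_zero_or_pos b with rfl | h
        · have := hT.1; rw [pow_zero] at hb; omega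
        · exact h
      have ht1 : 1 ≤ Nat.card T ^ 2 := Nat.one_le_pow _ _ Nat.card_pos
      have hcop : Nat.Coprime (uc hA w) (Nat.card T ^ 2 - 1) := by
        rw [hua]
        refine Nat.Coprime.pow_left a ?_
        rw [hpp.coprime_iff_not_dvd]
        intro h
        have h' : p ∣ Nat.card T ^ 2 := hb ▸ dvd_pow (dvd_pow_self p (by omega)) two_ne_zero
        have := Nat.dvd_sub h' h
        rw [Nat.sub_sub_self ht1] at this
        exact hpp.not_dvd_one this
      have hle_card : Nat.card (M.comap (toP F)) ≤ Nat.card T * (Nat.card T ^ 2 - 1) :=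
        card_le_of_le_pullBack hle
      have hu_le : uc hA w ≤ Nat.card T := by
        refine Nat.le_of_dvd Nat.card_pos (hcop.dvd_of_dvd_mul_right (hudvd.trans ?_))
        rcases card_big hT with ⟨hc, -⟩ | ⟨hc, -⟩
        · exact hc ▸ dvd_mul_left _ _
        · exact dvd_of_eq hc
      have hge : Nat.card T * (Nat.card T ^ 2 - 1) ≤ Nat.card M := by
        rcases card_big hT with ⟨hc, -⟩ | ⟨hc, -⟩
        · rw [hcH, ← hc]
          exact Nat.mul_le_mul_right _ (Nat.le_of_dvd two_pos (Nat.gcd_dvd_left _ _))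
        · omega
      refine le_antisymm (hcardM.trans ?_) hge
      calc (uc hA w + 1) * (uc hA w * (uc hA w - 1))
          ≤ (Nat.card T + 1) * (Nat.card T * (Nat.card T - 1)) :=
            Nat.mul_le_mul (by omega) (Nat.mul_le_mul hu_le (by omega))
        _ = Nat.card T * (Nat.card T ^ 2 - 1) := by
            rw [show Nat.card T ^ 2 - 1 = (Nat.card T + 1) * (Nat.card T - 1) by
              rw [← Nat.sq_sub_sq, one_pow]]
            ring

end Cfsg.Agent.Dickson

namespace Cfsg.Agent.Dickson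

open Matrix MulAction

attribute [local instance] finite_pgl

variable {F : Type*} [Field F] [Fintype F] {M : Subgroup (ProjGenLinGroup (Fin 2) F)}

theorem A4_pow_four : Fintype.card {g : alternatingGroup (Fin 4) // g ^ 4 = 1} = 4 := by decide +kernel

/-- In `PGL₂(5)` the dihedral groups of order `8` are not maximal. -/
theorem PGLMax.ne_five_of_dihedral_four (hM : PGLMax M) (h : Nonempty (M ≃* DihedralGroup 4)) :
    Fintype.card F ≠ 5 := by
  intro hq
  haveI : Fact (Nat.Prime 2) := ⟨Nat.prime_two⟩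
  haveI : Fact (Nat.Prime 5) := ⟨Nat.prime_five⟩
  have hG : Nat.card (PSL2 F) = 60 := by
    have := card_psl_eq (F := F)
    rw [d_eq_two hM.odd, hq] at this
    omega
  have hc : Nat.card (M.comap (toP F)) = 4 := by
    have := hM.card_eq
    rw [Nat.card_congr h.some.toEquiv, DihedralGroup.nat_card] at this
    omega
  obtain ⟨p, hp⟩ := CharP.exists F
  obtain ⟨k, hpp, hk⟩ := FiniteField.card F p
  haveI := Fact.mk hpp
  obtain ⟨X, hX⟩ := exists_A4_of (F := F) p k hk (fun h => by
    obtain ⟨rfl, -⟩ := h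
    have := Nat.odd_iff.mp hM.odd
    rw [hk, Nat.pow_mod] at this
    simp [zero_pow k.pos.ne'] at this)
  have hXc : Nat.card X = 12 := by rw [Nat.card_congr hX.some.toEquiv, card_A4]
  have hfac : (Nat.card (PSL2 F)).factorization 2 = 2 := by
    rw [hG, Nat.factorization_def _ Nat.prime_two, show (60 : ℕ) = 2 ^ 2 * 15 by norm_num,
      padicValNat.mul (by norm_num) (by norm_num), padicValNat.prime_pow,
      padicValNat.eq_zero_of_not_dvd (show ¬ 2 ∣ 15 by norm_num)]
  have hfac' : (Nat.card X).factorization 2 = 2 := by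
    rw [hXc, Nat.factorization_def _ Nat.prime_two, show (12 : ℕ) = 2 ^ 2 * 3 by norm_num,
      padicValNat.mul (by norm_num) (by norm_num), padicValNat.prime_pow,
      padicValNat.eq_zero_of_not_dvd (show ¬ 2 ∣ 3 by norm_num)]
  let Q : Sylow 2 X := default
  have hQ : Nat.card ((Q : Subgroup X).map X.subtype) = 2 ^ (Nat.card (PSL2 F)).factorization 2 := by
    rw [Subgroup.card_map_of_injective X.subtype_injective, Sylow.card_eq_multiplicity, hfac, hfac']
  let P₁ : Sylow 2 (PSL2 F) := Sylow.ofCard _ hQ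
  let P₂ : Sylow 2 (PSL2 F) := Sylow.ofCard (M.comap (toP F)) (by rw [hc, hfac]; norm_num)
  obtain ⟨g, hg⟩ := MulAction.exists_smul_eq (PSL2 F) P₁ P₂
  obtain ⟨K, hKdef⟩ : ∃ K : Subgroup (PSL2 F), K = X.map (MulAut.conj g).toMonoidHom := ⟨_, rfl⟩
  have hle : M.comap (toP F) ≤ K := by
    have h1 : (P₂ : Subgroup (PSL2 F)) = (P₁ : Subgroup (PSL2 F)).map (MulAut.conj g).toMonoidHom := by
      rw [← hg, Sylow.coe_subgroup_smul]; rfl
    have h2 : (P₂ : Subgroup (PSL2 F)) = M.comap (toP F) := rfl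
    rw [← h2, h1, hKdef]
    exact Subgroup.map_mono (Subgroup.map_subtype_le _)
  let e : K ≃* alternatingGroup (Fin 4) :=
    (MulEquiv.subgroupCongr hKdef).trans
      ((X.equivMapOfInjective _ (MulAut.conj g).injective).symm.trans hX.some)
  have hfour : ∀ x : K, (x : PSL2 F) ∈ M.comap (toP F) ↔ x ^ 4 = 1 := by
    have hsub : ∀ x : K, (x : PSL2 F) ∈ M.comap (toP F) → x ^ 4 = 1 := fun x hx => by
      apply Subtype.ext
      rw [Subgroup.coe_pow, ← hc]
      exact congrArg Subtype.val (pow_card_eq_one' (x := (⟨x, hx⟩ : M.comap (toP F))))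
    let f : M.comap (toP F) → {x : K // x ^ 4 = 1} := fun x => ⟨⟨x, hle x.2⟩, hsub _ x.2⟩
    have hf : Function.Bijective f := (Nat.bijective_iff_injective_and_card f).mpr
      ⟨fun a b hab => Subtype.ext (congrArg (fun y => ((y : {x : K // x ^ 4 = 1}).1 : PSL2 F)) hab), by
        refine hc.trans (((Nat.card_congr (e.toEquiv.subtypeEquiv (q := fun y => y ^ 4 = 1) fun x => by
          show x ^ 4 = 1 ↔ e x ^ 4 = 1
          rw [← map_pow, MulEquiv.map_eq_one_iff])).trans ?_).symm)
        rw [Nat.card_eq_fintype_card]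
        convert A4_pow_four⟩
    refine fun x => ⟨hsub x, fun hx => ?_⟩
    obtain ⟨y, hy⟩ := hf.2 ⟨x, hx⟩
    rw [← show (y : PSL2 F) = (x : PSL2 F) from
      congrArg (fun z => ((z : {x : K // x ^ 4 = 1}).1 : PSL2 F)) hy]
    exact y.2
  have hne : M.comap (toP F) ≠ ⊥ := fun e0 => by rw [e0, Subgroup.card_bot] at hc; omega
  have hN := hM.mem_of_normalises hne le_rfl hM.le_normalizer
  have hKM : K.map (toP F) ≤ M := by
    rw [← hN]
    rintro _ ⟨a, ha, rfl⟩
    refine mem_normalizer_of_conj ?_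
    rintro _ ⟨x, hx, rfl⟩
    refine ⟨a * x * a⁻¹, ?_, by simp⟩
    have h4 := (hfour ⟨x, hle hx⟩).mp hx
    refine (hfour ⟨a * x * a⁻¹, mul_mem (mul_mem ha (hle hx)) (inv_mem ha)⟩).mpr ?_
    rw [show (⟨a * x * a⁻¹, _⟩ : K) = ⟨a, ha⟩ * ⟨x, hle hx⟩ * ⟨a, ha⟩⁻¹ from rfl, conj_pow, h4, mul_one,
      mul_inv_cancel]
  have h12 := Subgroup.card_le_of_le (Subgroup.map_le_iff_le_comap.mp hKM)
  rw [hc, Nat.card_congr e.toEquiv, card_A4] at h12
  omega

theorem toP_range_eq : (toP F).range =
    (Matrix.ProjGenLinGroup.mk.comp Matrix.SpecialLinearGroup.toGL :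
      Matrix.SpecialLinearGroup (Fin 2) F →* ProjGenLinGroup (Fin 2) F).range := by
  ext g
  constructor
  · rintro ⟨x, rfl⟩
    obtain ⟨A, rfl⟩ := QuotientGroup.mk_surjective x
    exact ⟨A, rfl⟩
  · rintro ⟨A, rfl⟩
    exact ⟨QuotientGroup.mk A, rfl⟩

end Cfsg.Agent.Dickson
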