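import Cfsg.Agent.Lib.Dickson.PGLOvoid

/-!
Maximal subgroups of `PGL₂(q)`, `q` odd, not containing `PSL₂(q)`.
-/

set_option autoImplicit false
set_option linter.unusedSectionVars false

namespace Cfsg.Agent.Dickson

open Matrix MulAction OnePoint
open scoped MatrixGroups

attribute [local instance] Cfsg.Agent.PLocalB.lineAction pslLine pslBar finite_pgl pglBar

variable {F : Type*} [Field F] [Fintype F]

/-- A maximal subgroup not containing `PSL₂(q)`. -/
structure PGLMax (M : Subgroup (ProjGenLinGroup (Fin 2) F)) : Prop where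
  odd : Odd (Fintype.card F)
  four_le : 4 ≤ Fintype.card F
  coatom : IsCoatom M
  not_ge : ¬ (toP F).range ≤ M

variable {M : Subgroup (ProjGenLinGroup (Fin 2) F)}

theorem PGLMax.not_le (hM : PGLMax M) : ¬ M ≤ (toP F).range := fun h => by
  rcases h.eq_or_lt with e | e
  · exact hM.not_ge e.ge
  · have := hM.coatom.2 _ e
    have h2 := index_toP hM.odd
    rw [this, Subgroup.index_top] at h2
    omega

theorem card_comap_toP (H : Subgroup (ProjGenLinGroup (Fin 2) F)) :
    Nat.card (H.comap (toP F)) = Nat.card (H ⊓ (toP F).range : Subgroup _) := by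
  rw [← Subgroup.card_map_of_injective (K := H.comap (toP F)) (f := toP F) toP_injective, Subgroup.map_comap_eq,
    inf_comm]

theorem card_inf_range (hodd : Odd (Fintype.card F)) (H : Subgroup (ProjGenLinGroup (Fin 2) F))
    (hH : ¬ H ≤ (toP F).range) : Nat.card H = 2 * Nat.card (H.comap (toP F)) := by
  haveI := toP_range_normal (F := F)
  have h1 := Subgroup.card_mul_index ((toP F).range.subgroupOf H)
  have h2 : ((toP F).range.subgroupOf H).index = 2 := by
    rcases (Nat.dvd_prime Nat.prime_two).mp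
      (index_toP hodd ▸ Subgroup.relIndex_dvd_index_of_normal (toP F).range H) with h | h
    · exact absurd (Subgroup.subgroupOf_eq_top.mp (Subgroup.index_eq_one.mp h)) hH
    · exact h
  rw [h2] at h1
  rw [card_comap_toP]
  have e : (H ⊓ (toP F).range).subgroupOf H = (toP F).range.subgroupOf H :=
    Subgroup.inf_subgroupOf_left _ _
  rw [← e, Nat.card_congr (Subgroup.subgroupOfEquivOfLe (inf_le_left : H ⊓ (toP F).range ≤ H)).toEquiv] at h1
  omega

theorem PGLMax.card_eq (hM : PGLMax M) : Nat.card M = 2 * Nat.card (M.comap (toP F)) :=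
  card_inf_range hM.odd M hM.not_le

theorem PGLMax.comap_ne_top (hM : PGLMax M) : M.comap (toP F) ≠ ⊤ := fun h =>
  hM.not_ge (by
    rintro _ ⟨x, rfl⟩
    exact (h ▸ Subgroup.mem_top x : x ∈ M.comap (toP F)))

/-- An element normalising a non-trivial normal subgroup of `M ∩ L` lies in `M`. -/
theorem PGLMax.mem_of_normalises (hM : PGLMax M) {A : Subgroup (PSL2 F)} (hA : A ≠ ⊥)
    (hAM : A ≤ M.comap (toP F))
    (hMA : M ≤ Subgroup.normalizer ((A.map (toP F) : Subgroup _) : Set (ProjGenLinGroup (Fin 2) F))) :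
    Subgroup.normalizer ((A.map (toP F) : Subgroup _) : Set (ProjGenLinGroup (Fin 2) F)) = M := by
  rcases hMA.eq_or_lt with e | e
  · exact e.symm
  · exfalso
    have htop := hM.coatom.2 _ e
    haveI hn : (A.map (toP F)).Normal := Subgroup.normalizer_eq_top_iff.mp htop
    have hn' : A.Normal := by
      rw [← Subgroup.comap_map_eq_self_of_injective (toP_injective (F := F)) A]
      infer_instance
    haveI := Matrix.ProjectiveSpecialLinearGroup.rank_two_simple (F := F)
      (by rw [Nat.card_eq_fintype_card]; exact hM.four_le)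
    rcases hn'.eq_bot_or_eq_top with h | h
    · exact hA h
    · exact hM.comap_ne_top (top_le_iff.mp (h ▸ hAM))

theorem mem_normalizer_of_conj {G : Type*} [Group G] [Finite G] {A : Subgroup G} {g : G}
    (h : ∀ a ∈ A, g * a * g⁻¹ ∈ A) : g ∈ Subgroup.normalizer (A : Set G) := by
  have hle : A.map (MulAut.conj g).toMonoidHom ≤ A := by
    rintro _ ⟨a, ha, rfl⟩
    exact h a ha
  have heq := Subgroup.eq_of_le_of_card_ge hle
    (Subgroup.card_map_of_injective (MulAut.conj g).injective).ge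
  rw [Subgroup.mem_normalizer_iff]
  refine fun a => ⟨h a, fun ha => ?_⟩
  rw [← heq] at ha
  obtain ⟨b, hb, e⟩ := ha
  have : b = a := mul_left_cancel (mul_right_cancel (e : g * b * g⁻¹ = g * a * g⁻¹))
  exact this ▸ hb

theorem PGLMax.le_normalizer (hM : PGLMax M) :
    M ≤ Subgroup.normalizer (((M.comap (toP F)).map (toP F) : Subgroup _) : Set _) := by
  intro g hg
  refine mem_normalizer_of_conj ?_
  rintro _ ⟨x, hx, rfl⟩
  obtain ⟨y, hy⟩ := (toP_range_normal (F := F)).conj_mem _ ⟨x, rfl⟩ g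
  refine ⟨y, ?_, hy⟩
  show toP F y ∈ M
  rw [hy]
  exact mul_mem (mul_mem hg hx) (inv_mem hg)

/-- A conjugate of `PGL₂(T)`. -/
noncomputable abbrev pglConj (D : ProjGenLinGroup (Fin 2) F) (T : Subfield F) :
    Subgroup (ProjGenLinGroup (Fin 2) F) :=
  (pglImage T).map (MulAut.conj D).toMonoidHom

theorem comap_pglConj (D : ProjGenLinGroup (Fin 2) F) (T : Subfield F) :
    (pglConj D T).comap (toP F) = pullBack D (pglImage T) := by
  ext g
  rw [Subgroup.mem_comap, mem_pullBack, Subgroup.mem_map_equiv, MulAut.conj_symm_apply]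

theorem card_pglConj (D : ProjGenLinGroup (Fin 2) F) (T : Subfield F) :
    Nat.card (pglConj D T) = Nat.card T * (Nat.card T ^ 2 - 1) := by
  rw [Subgroup.card_map_of_injective (MulAut.conj D).injective, card_pglImage]

theorem pglConj_equiv (D : ProjGenLinGroup (Fin 2) F) (T : Subfield F) :
    Nonempty (pglConj D T ≃* ProjGenLinGroup (Fin 2) T) :=
  ⟨((pglImage T).equivMapOfInjective _ (MulAut.conj D).injective).symm.trans
    (MonoidHom.ofInjective (map_pgl_injective (T := T))).symm⟩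

theorem pglConj_ne_top (D : ProjGenLinGroup (Fin 2) F) {T : Subfield F}
    (hT : Nat.card T < Fintype.card F) : pglConj D T ≠ ⊤ := fun h => by
  have h1 := card_pglConj D T
  rw [h, Subgroup.card_top, card_pgl] at h1
  have h2 : Nat.card T ^ 2 - 1 < (Fintype.card F + 1) * (Fintype.card F - 1) := by
    rw [← Nat.sq_sub_sq, one_pow]
    have := Nat.pow_lt_pow_left hT two_ne_zero
    have := Nat.one_le_pow 2 (Nat.card T) Nat.card_pos
    omega
  have h3 := Nat.mul_lt_mul_of_lt_of_lt hT h2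
  rw [← h1] at h3
  nlinarith [h3]

/-- Inside a subfield group: `M` is that group and the degree is an odd prime. -/
theorem PGLMax.subfield_conclude (hM : PGLMax M) {D : ProjGenLinGroup (Fin 2) F} {T : Subfield F}
    (hle : M ≤ pglConj D T) (hT : Nat.card T < Fintype.card F) :
    M = pglConj D T ∧ ∃ m, m.Prime ∧ Odd m ∧ Nat.card T ^ m = Fintype.card F := by
  have heq : M = pglConj D T := by
    rcases hle.eq_or_lt with e | e
    · exact e
    · exact absurd (hM.coatom.2 _ e) (pglConj_ne_top D hT)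
  refine ⟨heq, ?_⟩
  obtain ⟨m, hm1, hTm⟩ := exists_pow_card T
  have hm : 1 < m := by
    by_contra h
    obtain rfl : m = 1 := by omega
    rw [pow_one] at hTm
    omega
  rcases Nat.even_or_odd m with hev | hom
  · exfalso
    refine hM.not_le (hle.trans ?_)
    rintro _ ⟨x, hx, rfl⟩
    exact (toP_range_normal (F := F)).conj_mem _
      (pglImage_le_range (isSquare_subfield hTm hev) hx) D
  by_cases hmp : m.Prime
  · exact ⟨m, hmp, hom, hTm⟩
  · exfalso
    obtain ⟨r, hr, h2r, hlt⟩ := Nat.exists_dvd_of_not_prime2 hm hmp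
    obtain ⟨T', hTT', hT'⟩ := exists_intermediate hTm hr (by omega)
    have ht : 2 ≤ Nat.card T := Finite.one_lt_card
    have hT'q : Nat.card T' < Fintype.card F := by
      rw [hT', ← hTm]; exact Nat.pow_lt_pow_right (by omega) hlt
    have hle' : M ≤ pglConj D T' := hle.trans (Subgroup.map_mono (pglImage_mono hTT'))
    have heq' : M = pglConj D T' := by
      rcases hle'.eq_or_lt with e | e
      · exact e
      · exact absurd (hM.coatom.2 _ e) (pglConj_ne_top D hT'q)
    have h1 := congrArg (fun H : Subgroup (ProjGenLinGroup (Fin 2) F) => Nat.card H) (heq.symm.trans heq')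
    simp only [card_pglConj] at h1
    have h2 : Nat.card T < Nat.card T' := by
      rw [hT']; exact lt_self_pow₀ (by omega) (by omega)
    have h3 : Nat.card T ^ 2 - 1 < Nat.card T' ^ 2 - 1 := by
      have := Nat.pow_lt_pow_left h2 two_ne_zero
      have := Nat.one_le_pow 2 (Nat.card T) (by omega)
      omega
    exact (Nat.mul_lt_mul_of_lt_of_lt h2 h3).ne h1

/-- If `M ∩ L` is the index two part of a subfield group, `M` is that group. -/
theorem PGLMax.le_pglConj (hM : PGLMax M) {D : ProjGenLinGroup (Fin 2) F} {T : Subfield F}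
    (hle : M.comap (toP F) ≤ pullBack D (pglImage T))
    (hcard : Nat.card M = Nat.card T * (Nat.card T ^ 2 - 1)) :
    M ≤ pglConj D T ∧ Nat.card T < Fintype.card F := by
  have ht : 2 ≤ Nat.card T := Finite.one_lt_card
  have hq : Nat.card T < Fintype.card F := by
    obtain ⟨m, hm, h⟩ := exists_pow_card T
    rcases (show m = 1 ∨ 2 ≤ m by omega) with rfl | h2
    · exfalso
      rw [pow_one] at h
      refine hM.coatom.1 (Subgroup.eq_top_of_card_eq M ?_)
      rw [hcard, h, card_pgl, show Fintype.card F ^ 2 - 1 = (Fintype.card F + 1) * (Fintype.card F - 1) by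
        rw [← Nat.sq_sub_sq, one_pow]]
      ring
    · rw [← h]; exact lt_self_pow₀ (by omega) (by omega)
  refine ⟨?_, hq⟩
  have hH := hM.card_eq
  have hR := card_pglConj D T
  have h6 : 2 * 3 ≤ Nat.card T * (Nat.card T ^ 2 - 1) :=
    Nat.mul_le_mul ht (by have := Nat.pow_le_pow_left ht 2; omega)
  have hne : M.comap (toP F) ≠ ⊥ := fun e => by
    rw [e, Subgroup.card_bot] at hH; omega
  have hN := hM.mem_of_normalises hne le_rfl hM.le_normalizer
  have hRnorm : pglConj D T ≤ Subgroup.normalizer (((M.comap (toP F)).map (toP F) : Subgroup _) : Set _) := by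
    intro g hg
    refine mem_normalizer_of_conj ?_
    rintro _ ⟨x, hx, rfl⟩
    obtain ⟨y, hy⟩ := (toP_range_normal (F := F)).conj_mem _ ⟨x, rfl⟩ g
    refine ⟨y, ?_, hy⟩
    have hxR : toP F x ∈ pglConj D T := Subgroup.mem_comap.mp (comap_pglConj D T ▸ hle hx)
    by_cases hRL : pglConj D T ≤ (toP F).range
    · -- `M ∩ L` has index two in `R`
      have hc : Nat.card (pullBack D (pglImage T)) = Nat.card (pglConj D T) := by
        rw [← comap_pglConj, card_comap_toP, inf_eq_left.mpr hRL]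
      obtain ⟨z, rfl⟩ := hRL hg
      have hz : z ∈ pullBack D (pglImage T) := comap_pglConj D T ▸ (hg : z ∈ (pglConj D T).comap (toP F))
      have hidx : ((M.comap (toP F)).subgroupOf (pullBack D (pglImage T))).index = 2 := by
        have := Subgroup.card_mul_index ((M.comap (toP F)).subgroupOf (pullBack D (pglImage T)))
        rw [Nat.card_congr (Subgroup.subgroupOfEquivOfLe hle).toEquiv, hc, hR, ← hcard, hH,
          mul_comm 2] at this
        exact Nat.eq_of_mul_eq_mul_left Nat.card_pos this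
      have hn := Subgroup.normal_of_index_eq_two hidx
      have h := hn.conj_mem ⟨x, hle hx⟩ hx ⟨z, hz⟩
      rw [← map_inv, ← map_mul, ← map_mul] at hy
      rw [toP_injective hy]
      exact h
    · have hc := card_inf_range hM.odd _ hRL
      rw [comap_pglConj, hR, ← hcard, hH] at hc
      have e := Subgroup.eq_of_le_of_card_ge hle (by omega)
      rw [e, ← comap_pglConj]
      show toP F y ∈ pglConj D T
      rw [hy]
      exact mul_mem (mul_mem hg hxR) (inv_mem hg)
  rw [hN] at hRnorm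
  exact (Subgroup.eq_of_le_of_card_ge hRnorm (hcard.trans hR.symm).le).ge

theorem trace_eq_zero_of_sq_scalar {X : Matrix (Fin 2) (Fin 2) F} (hX : ¬ SL2Tor.IsScalar X)
    (h : SL2Tor.IsScalar (X * X)) : X.trace = 0 := by
  obtain ⟨h01, h10, h11⟩ := h
  by_contra hs
  rw [trace_fin_two] at hs
  simp [Matrix.mul_apply, Fin.sum_univ_two] at h01 h10 h11
  apply hX
  refine ⟨?_, ?_, ?_⟩
  · exact mul_left_cancel₀ hs (by rw [mul_zero]; linear_combination h01)
  · exact mul_left_cancel₀ hs (by rw [mul_zero]; linear_combination h10)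
  · exact mul_left_cancel₀ hs (by linear_combination h11)

theorem mk_eq_one_iff_isScalar (X : GL (Fin 2) F) :
    ProjGenLinGroup.mk X = 1 ↔ SL2Tor.IsScalar (X : Matrix (Fin 2) (Fin 2) F) := by
  rw [ProjGenLinGroup.mk_eq_one, GeneralLinearGroup.center_eq_range_scalar]
  constructor
  · rintro ⟨u, rfl⟩
    refine ⟨?_, ?_, ?_⟩ <;> simp [GeneralLinearGroup.coe_scalar]
  · rintro ⟨h1, h2, h3⟩
    have h0 : (X : Matrix (Fin 2) (Fin 2) F) 0 0 ≠ 0 := fun h => by
      have := ((Matrix.isUnit_iff_isUnit_det _).mp X.isUnit).ne_zero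
      rw [det_fin_two, h, h1] at this
      simp at this
    refine ⟨Units.mk0 _ h0, Units.ext (Matrix.ext fun i j => ?_)⟩
    fin_cases i <;> fin_cases j <;> simp [GeneralLinearGroup.coe_scalar, h1, h2, h3]

/-- An `S₄` of `PGL₂(q)` lies in a conjugate of any `PGL₂(T)`. -/
theorem pgl_S4_le (hodd : Odd (Fintype.card F)) (M : Subgroup (ProjGenLinGroup (Fin 2) F))
    (h : Nonempty (M ≃* Equiv.Perm (Fin 4))) (T : Subfield F) :
    ∃ D, M ≤ pglConj D T := by
  have h2 := two_ne_zero_of_odd hodd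
  obtain ⟨a, b, -, -, ha, hb, hab, hgen⟩ := gen_S4 M h
  obtain ⟨b₀, rfl⟩ := mem_range_of_pow_odd hodd (g := b) (m := 3) (by decide)
    (by rw [orderOf_dvd_iff_pow_eq_one.mp (dvd_of_eq hb)]; exact one_mem _)
  obtain ⟨y, hy, hy1⟩ := lift_three (g := b₀) (by rwa [orderOf_injective _ toP_injective] at hb)
  subst hy
  obtain ⟨X, rfl⟩ := ProjGenLinGroup.mk_surjective a
  obtain ⟨Y, hYdef⟩ : ∃ Y : GL (Fin 2) F, Y = Matrix.SpecialLinearGroup.toGL y := ⟨_, rfl⟩
  have hyY : toP F (QuotientGroup.mk y) = ProjGenLinGroup.mk Y := by rw [hYdef]; rfl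
  rw [hyY] at hb hab hgen
  have hYv : (Y : Matrix (Fin 2) (Fin 2) F) = (y : Matrix (Fin 2) (Fin 2) F) := by rw [hYdef]; rfl
  have hX1 : ¬ SL2Tor.IsScalar (X : Matrix (Fin 2) (Fin 2) F) := fun e => by
    rw [(mk_eq_one_iff_isScalar X).mpr e, orderOf_one] at ha; omega
  have hX2 : SL2Tor.IsScalar ((X : Matrix (Fin 2) (Fin 2) F) * (X : Matrix (Fin 2) (Fin 2) F)) := by
    rw [← Units.val_mul, ← mk_eq_one_iff_isScalar, map_mul, ← pow_two]
    exact orderOf_dvd_iff_pow_eq_one.mp (dvd_of_eq ha)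
  have hs := trace_eq_zero_of_sq_scalar hX1 hX2
  obtain ⟨Z, hZ⟩ : ∃ Z : GL (Fin 2) F, Z = X * Y := ⟨_, rfl⟩
  rw [← map_mul, ← hZ] at hab
  obtain ⟨W, hW⟩ : ∃ W : GL (Fin 2) F, W = Z * Z := ⟨_, rfl⟩
  have hW1 : ¬ SL2Tor.IsScalar (W : Matrix (Fin 2) (Fin 2) F) := fun e => by
    have h1 := (mk_eq_one_iff_isScalar W).mpr e
    rw [hW, map_mul, ← pow_two] at h1
    have := orderOf_dvd_of_pow_eq_one h1
    rw [hab] at this
    omega
  have hW2 : SL2Tor.IsScalar ((W : Matrix (Fin 2) (Fin 2) F) * (W : Matrix (Fin 2) (Fin 2) F)) := by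
    rw [← Units.val_mul, ← mk_eq_one_iff_isScalar, hW, map_mul, map_mul]
    have := pow_orderOf_eq_one (ProjGenLinGroup.mk Z)
    rw [hab, pow_succ, pow_succ, pow_two, mul_assoc] at this
    exact this
  have hw := trace_eq_zero_of_sq_scalar hW1 hW2
  obtain ⟨δ, hδ⟩ : ∃ δ, δ = (X : Matrix (Fin 2) (Fin 2) F).det := ⟨_, rfl⟩
  obtain ⟨u, hu⟩ : ∃ u, u = ((X : Matrix (Fin 2) (Fin 2) F) * (Y : Matrix (Fin 2) (Fin 2) F)).trace :=
    ⟨_, rfl⟩
  have hδ0 : δ ≠ 0 := hδ ▸ ((Matrix.isUnit_iff_isUnit_det _).mp X.isUnit).ne_zero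
  have hu2 : u ^ 2 = 2 * δ := by
    rw [hW, Units.val_mul, SL2Tor.two_sq, trace_sub, trace_smul, trace_smul, trace_one, Fintype.card_fin,
      hZ, Units.val_mul, det_mul, ← hδ, ← hu, hYv, y.2, smul_eq_mul, smul_eq_mul] at hw
    push_cast at hw
    linear_combination hw
  have hu0 : u ≠ 0 := fun e => by
    rw [e, zero_pow two_ne_zero] at hu2
    exact mul_ne_zero h2 hδ0 hu2.symm
  obtain ⟨c, hc⟩ : ∃ c : F, c = 2 / u := ⟨_, rfl⟩
  have hc0 : c ≠ 0 := hc ▸ div_ne_zero h2 hu0
  have hcd : c ^ 2 * δ = 2 := by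
    rw [hc]; field_simp
    linear_combination -hu2
  have hcu : c * u = 2 := by rw [hc, div_mul_cancel₀ _ hu0]
  obtain ⟨X', Y', e1, e2, e3, e4, e5⟩ := exists_pair (k := T)
    (fun e => h2 (by simpa [map_ofNat] using congrArg T.subtype e))
    (dX := (2 : T)) (fun e => h2 (by simpa [map_ofNat] using congrArg T.subtype e)) (-1) 1 (2 : T)
  have hX' : X'.det ≠ 0 := by
    rw [e2]; exact fun e => h2 (by simpa [map_ofNat] using congrArg T.subtype e)
  have hY' : Y'.det ≠ 0 := by rw [e4]; exact one_ne_zero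
  have mtr : ∀ Z : Matrix (Fin 2) (Fin 2) T, (T.subtype.mapMatrix Z).trace = (Z.trace : F) := fun Z => by
    simp [trace_fin_two]
  have mdt : ∀ Z : Matrix (Fin 2) (Fin 2) T, (T.subtype.mapMatrix Z).det = (Z.det : F) := fun Z =>
    (T.subtype.map_det Z).symm
  obtain ⟨G, hGX, hGY⟩ := rigid (c • (X : Matrix (Fin 2) (Fin 2) F)) (Y : Matrix (Fin 2) (Fin 2) F)
    (T.subtype.mapMatrix X') (T.subtype.mapMatrix Y')
    (by
      rw [det_comm_eq, Matrix.smul_mul, trace_smul, trace_smul, det_smul, ← hu, hs, ← hδ, hYv, y.2,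
        show (y : Matrix (Fin 2) (Fin 2) F).trace = -1 from hy1, Fintype.card_fin, smul_eq_mul, smul_eq_mul,
        hcd, hcu]
      intro e
      apply h2
      linear_combination e)
    (by rw [trace_smul, hs, smul_zero, mtr, e1]; rfl)
    (by rw [det_smul, ← hδ, Fintype.card_fin, hcd, mdt, e2]; exact (map_ofNat T.subtype 2).symm)
    (by
      rw [hYv, show (y : Matrix (Fin 2) (Fin 2) F).trace = -1 from hy1, mtr, e3]
      simp)
    (by rw [hYv, y.2, mdt, e4]; rfl)
    (by
      rw [Matrix.smul_mul, trace_smul, ← hu, smul_eq_mul, hc, div_mul_cancel₀ _ hu0, ← map_mul, mtr,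
        e5]
      exact (map_ofNat T.subtype 2).symm)
  refine ⟨(ProjGenLinGroup.mk G)⁻¹, hgen _ ?_ ?_⟩
  · rw [Subgroup.mem_map_equiv, MulAut.conj_symm_apply, inv_inv]
    refine ⟨ProjGenLinGroup.mk (GeneralLinearGroup.mkOfDetNeZero X' hX'), ?_⟩
    rw [ProjGenLinGroup.map_mk, eq_mul_inv_iff_mul_eq, ← map_mul, ← map_mul, ProjGenLinGroup.mk_eq_mk_iff]
    refine ⟨Units.mk0 c⁻¹ (inv_ne_zero hc0), Units.ext ?_⟩
    rw [Units.val_mul, Units.val_mul, Units.val_mul]
    show T.subtype.mapMatrix X' * (G : Matrix (Fin 2) (Fin 2) F) * _ = _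
    rw [← hGX, GeneralLinearGroup.coe_scalar]
    ext i j
    fin_cases i <;> fin_cases j <;>
      simp [Matrix.mul_apply, Fin.sum_univ_two] <;> field_simp
  · rw [Subgroup.mem_map_equiv, MulAut.conj_symm_apply, inv_inv]
    refine ⟨ProjGenLinGroup.mk (GeneralLinearGroup.mkOfDetNeZero Y' hY'), ?_⟩
    rw [ProjGenLinGroup.map_mk, eq_mul_inv_iff_mul_eq, ← map_mul, ← map_mul]
    congr 1
    exact Units.ext hGY.symm

end Cfsg.Agent.Dickson
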