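import Cfsg.Agent.Lib.Dickson.PGLCases
import Cfsg.Agent.Lib.Dickson.Transvections
import Cfsg.Agent.S0805

/-!
Maximality in `PSL₂(q)` of the intersections with maximal subgroups of `PGL₂(q)`.
-/

set_option autoImplicit false
set_option linter.unusedSectionVars false

namespace Cfsg.Agent.Dickson

open Matrix MulAction OnePoint
open scoped MatrixGroups

attribute [local instance] Cfsg.Agent.PLocalB.lineAction pslLine pslBar finite_pgl

variable {F : Type*} [Field F] [Fintype F] {M : Subgroup (ProjGenLinGroup (Fin 2) F)}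

theorem isCoatom_stabilizer_point (w : OnePoint F) : IsCoatom (stabilizer (PSL2 F) w) := by
  refine ⟨stabilizer_point_ne_top w, fun K hK => ?_⟩
  obtain ⟨k, hkK, hkw⟩ := SetLike.exists_of_lt hK
  rw [Subgroup.eq_top_iff']
  intro g
  by_cases hg : g • w = w
  · exact hK.le hg
  · set f := algebraMap F (AlgebraicClosure F)
    obtain ⟨u, hu, huv⟩ := (ovoid_psl (F := F)).exists_uni_smul (a := pointMap f w)
      (x := pointMap f (k • w)) (y := pointMap f (g • w)) ⟨_, rfl⟩ ⟨_, rfl⟩ ⟨_, rfl⟩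
      (fun e => hkw (pointMap_injective f e)) (fun e => hg (pointMap_injective f e))
    rw [bar_smul] at huv
    have huv' := pointMap_injective f huv
    have hus : u ∈ stabilizer (PSL2 F) w := pointMap_injective f ((bar_smul u w).symm.trans hu.smul_eq)
    have h1 : g⁻¹ * (u * k) ∈ stabilizer (PSL2 F) w := by
      rw [mem_stabilizer_iff, mul_smul, mul_smul, huv', inv_smul_smul]
    have := mul_mem (mul_mem (hK.le hus) hkK) (inv_mem (hK.le h1))
    simpa [mul_assoc] using this

theorem PGLMax.isCoatom_of_dihedral (hM : PGLMax M) {n : ℕ}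
    (hn : n = Fintype.card F - 1 ∨ n = Fintype.card F + 1) (h : Nonempty (M ≃* DihedralGroup n))
    (h7 : Fintype.card F ≠ 7) (h9 : Fintype.card F ≠ 9) (h11 : Fintype.card F ≠ 11) :
    IsCoatom (M.comap (toP F)) := by
  obtain ⟨p, hp⟩ := CharP.exists F
  obtain ⟨f, hpp, -⟩ := FiniteField.card F p
  haveI := Fact.mk hpp
  have hq2 := Nat.odd_iff.mp hM.odd
  have hq4 := hM.four_le
  have hd := d_eq_two hM.odd
  obtain ⟨e⟩ := h
  obtain ⟨j, rfl⟩ : ∃ j, n = 2 * j := ⟨n / 2, by omega⟩
  have hj : 2 ≤ j := by omega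
  haveI : NeZero (2 * j) := ⟨by omega⟩
  obtain ⟨x, hx⟩ : ∃ x : M, x = e.symm (DihedralGroup.r 1) := ⟨_, rfl⟩
  have hox : orderOf (x : ProjGenLinGroup (Fin 2) F) = 2 * j := by
    rw [hx, Subgroup.orderOf_coe, MulEquiv.orderOf_eq, DihedralGroup.orderOf_r_one]
  obtain ⟨g, hg⟩ : ∃ g, toP F g = (x : ProjGenLinGroup (Fin 2) F) ^ 2 :=
    MonoidHom.mem_range.mp (Subgroup.sq_mem_of_index_two (index_toP hM.odd) _)
  have hog : orderOf g = j := by
    rw [← orderOf_injective (toP F) toP_injective, hg, orderOf_pow' _ two_ne_zero, hox,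
      Nat.gcd_eq_right (dvd_mul_right 2 j), Nat.mul_div_cancel_left _ two_pos]
  have hkdvd : orderOf g ∣ (Fintype.card F + 1) / Nat.gcd 2 (Fintype.card F - 1) ∨
      orderOf g ∣ (Fintype.card F - 1) / Nat.gcd 2 (Fintype.card F - 1) := by
    rw [hog, hd]
    rcases hn with h | h
    · exact Or.inr (dvd_of_eq (by omega))
    · exact Or.inl (dvd_of_eq (by omega))
  obtain ⟨N, k, hN, hgN, hdvd, hnorm, -⟩ := torus_of p (g := g)
    (fun e' => by rw [e', orderOf_one] at hog; omega) (coprime_char p hkdvd)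
  rw [hog] at hdvd
  have hle : M.comap (toP F) ≤ N := by
    intro h hh
    refine hnorm h ?_
    have key : ∀ c : DihedralGroup (2 * j),
        c * DihedralGroup.r 1 ^ 2 * c⁻¹ ∈ Subgroup.zpowers (DihedralGroup.r (1 : ZMod (2 * j)) ^ 2) := by
      intro c
      rcases c with i | i
      · refine ⟨1, ?_⟩
        show (DihedralGroup.r (1 : ZMod (2 * j)) ^ 2) ^ (1 : ℤ) = _
        rw [zpow_one, pow_two, DihedralGroup.r_mul_r, DihedralGroup.inv_r, DihedralGroup.r_mul_r,
          DihedralGroup.r_mul_r]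
        congr 1; ring
      · refine ⟨-1, ?_⟩
        show (DihedralGroup.r (1 : ZMod (2 * j)) ^ 2) ^ (-1 : ℤ) = _
        rw [_root_.zpow_neg, zpow_one, pow_two, DihedralGroup.r_mul_r, DihedralGroup.inv_r, DihedralGroup.inv_sr,
          DihedralGroup.sr_mul_r, DihedralGroup.sr_mul_sr]
        congr 1; ring
    obtain ⟨i, hi⟩ := key (e ⟨toP F h, hh⟩)
    refine ⟨i, toP_injective ?_⟩
    have h1 := congrArg (fun z => ((e.symm z : M) : ProjGenLinGroup (Fin 2) F)) hi
    simp only [map_mul, map_inv, map_pow, map_zpow, MulEquiv.symm_apply_apply, Subgroup.coe_mul,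
      Subgroup.coe_inv, Subgroup.coe_pow, Subgroup.coe_zpow, ← hx] at h1
    rw [map_zpow, map_mul, map_mul, map_inv, hg]
    exact h1
  obtain ⟨hk2, ⟨eN⟩, -, hk⟩ := id hN
  rw [hd] at hk
  have hkj : k = j := by
    obtain ⟨c, rfl⟩ := hdvd
    rcases Nat.lt_or_ge c 2 with hc | hc
    · interval_cases c <;> omega
    · exfalso
      have := Nat.mul_le_mul_left j hc
      omega
  subst hkj
  have heq : M.comap (toP F) = N := by
    refine Subgroup.eq_of_le_of_card_ge hle ?_
    have := hM.card_eq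
    rw [Nat.card_congr e.toEquiv, DihedralGroup.nat_card] at this
    rw [Nat.card_congr eN.toEquiv, DihedralGroup.nat_card]
    omega
  rw [heq]
  rcases hn with h | h
  · have h5 : Fintype.card F ≠ 5 := fun h5 =>
      hM.ne_five_of_dihedral_four (by rw [show 4 = 2 * k by omega]; exact ⟨e⟩) h5
    refine isCoatom_torus_minus ?_ hN (by rw [hd]; exact h)
    simp only [Finset.mem_insert, Finset.mem_singleton, not_or]
    exact ⟨by omega, by omega, h5, h7, h9, h11⟩
  · exact isCoatom_torus_plus (by omega) h7 h9 hN (by rw [hd]; exact h)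

theorem not_A4_le_stabilizer (p : ℕ) [Fact p.Prime] [CharP F p] (hp2 : p ≠ 2) {A : Subgroup (PSL2 F)}
    (hA : Nonempty (A ≃* alternatingGroup (Fin 4))) (w : OnePoint F) :
    ¬ A ≤ stabilizer (PSL2 F) w := by
  intro hle
  obtain ⟨e⟩ := hA
  obtain ⟨a, b, hab, hab2⟩ : ∃ a b : alternatingGroup (Fin 4),
      a * b * a⁻¹ * b⁻¹ ≠ 1 ∧ (a * b * a⁻¹ * b⁻¹) ^ 2 = 1 := by decide +kernel
  obtain ⟨f, hf⟩ := exists_lam (k := F)
  obtain ⟨t, ht⟩ := exists_smul_infty w
  have hmem : ∀ z : A, t * (z : PSL2 F) * t⁻¹ ∈ stabilizer (PSL2 F) (∞ : OnePoint F) := fun z => by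
    rw [mem_stabilizer_iff, ← ht, mul_smul, mul_smul, inv_smul_smul,
      show (z : PSL2 F) • w = w from hle z.2]
  let φ : A →* Fˣ := f.comp
    (((MulAut.conj t).toMonoidHom.comp A.subtype).codRestrict _ hmem)
  obtain ⟨c, hc⟩ : ∃ c : A, c = e.symm (a * b * a⁻¹ * b⁻¹) := ⟨_, rfl⟩
  have hφ : φ c = 1 := by
    rw [hc, map_mul, map_mul, map_mul, map_inv, map_inv, map_mul, map_mul, map_mul, map_inv, map_inv,
      mul_inv_cancel_comm, mul_inv_cancel]
  have hu := (hf ⟨_, hmem c⟩).mp hφ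
  have h1 := psl_isUni_pow p hu
  rw [conj_pow, conj_eq_one_iff] at h1
  have h2 : ((c : PSL2 F)) ^ 2 = 1 := by
    rw [← Subgroup.coe_pow, hc, ← map_pow, hab2, map_one]; rfl
  have hd : orderOf (c : PSL2 F) ∣ 1 := by
    have := Nat.dvd_gcd (orderOf_dvd_of_pow_eq_one h1) (orderOf_dvd_of_pow_eq_one h2)
    rwa [(Nat.coprime_primes (Fact.out : p.Prime) Nat.prime_two).mpr hp2] at this
  have hc1 : (c : PSL2 F) = 1 := orderOf_eq_one_iff.mp (Nat.dvd_one.mp hd)
  apply hab
  have : c = 1 := Subtype.ext hc1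
  rw [hc] at this
  simpa using congrArg e this

theorem not_A4_le_dihedral {A N : Subgroup (PSL2 F)} (hA : Nonempty (A ≃* alternatingGroup (Fin 4)))
    {k : ℕ} (hN : Nonempty (N ≃* DihedralGroup k)) : ¬ A ≤ N := by
  intro hle
  obtain ⟨e⟩ := hA
  obtain ⟨e'⟩ := hN
  obtain ⟨a, b, hb, hb1, h1, h2⟩ : ∃ a b : alternatingGroup (Fin 4),
      b ^ 3 = 1 ∧ b ≠ 1 ∧ a * b * a⁻¹ ≠ b ∧ a * b * a⁻¹ ≠ b⁻¹ := by decide +kernel
  let ψ : alternatingGroup (Fin 4) →* DihedralGroup k :=
    e'.toMonoidHom.comp ((Subgroup.inclusion hle).comp e.symm.toMonoidHom)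
  have hψ : Function.Injective ψ :=
    e'.injective.comp ((Subgroup.inclusion_injective hle).comp e.symm.injective)
  haveI : Fact (Nat.Prime 3) := ⟨Nat.prime_three⟩
  have ho : orderOf (ψ b) = 3 := by rw [orderOf_injective ψ hψ]; exact orderOf_eq_prime hb hb1
  rcases hb' : ψ b with i | i
  · rcases ha' : ψ a with l | l
    · refine h1 (hψ ?_)
      rw [map_mul, map_mul, map_inv, ha', hb', DihedralGroup.inv_r, DihedralGroup.r_mul_r,
        DihedralGroup.r_mul_r]
      congr 1; ring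
    · refine h2 (hψ ?_)
      rw [map_mul, map_mul, map_inv, map_inv, ha', hb', DihedralGroup.inv_r, DihedralGroup.inv_sr,
        DihedralGroup.sr_mul_r, DihedralGroup.sr_mul_sr]
      congr 1; ring
  · rw [hb', DihedralGroup.orderOf_sr] at ho; omega

theorem isCoatom_A4 {A : Subgroup (PSL2 F)} (hA : Nonempty (A ≃* alternatingGroup (Fin 4)))
    (hprime : (Fintype.card F).Prime) (h8 : Fintype.card F % 8 = 3 ∨ Fintype.card F % 8 = 5)
    (h10 : ¬ (Fintype.card F % 10 = 1 ∨ Fintype.card F % 10 = 9)) (h4 : 4 ≤ Fintype.card F) :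
    IsCoatom A := by
  obtain ⟨p, hp⟩ := CharP.exists F
  obtain ⟨n, hpp, hn⟩ := FiniteField.card F p
  haveI := Fact.mk hpp
  have hqp : Fintype.card F = p := by
    rw [hn] at hprime ⊢
    rw [hprime.eq_one_of_pow, pow_one]
  have hp2 : p ≠ 2 := by omega
  have hcA : Nat.card A = 12 := by rw [Nat.card_congr hA.some.toEquiv, card_A4]
  have hG := card_psl_eq (F := F)
  rw [show Nat.gcd 2 (Fintype.card F - 1) = 2 from
    Nat.gcd_eq_left (Nat.dvd_of_mod_eq_zero (by omega))] at hG
  have h56 : 6 * (5 * 4) ≤ (Fintype.card F + 1) * (Fintype.card F * (Fintype.card F - 1)) :=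
    Nat.mul_le_mul (by omega) (Nat.mul_le_mul (by omega) (by omega))
  refine ⟨fun h => ?_, fun K hK => ?_⟩
  · rw [h, Subgroup.card_top] at hcA
    omega
  by_contra hKtop
  have hlt : 12 < Nat.card K := by
    rw [← hcA]
    by_contra hle
    exact hK.ne (Subgroup.eq_of_le_of_card_ge hK.le (by omega))
  rcases subgroup_cases p K with ⟨w, hw⟩ | ⟨N, k, hN, hle⟩ | h | h | h | ⟨T, hT⟩
  · exact not_A4_le_stabilizer p hp2 hA w (hK.le.trans hw)
  · exact not_A4_le_dihedral hA hN.2.1 (hK.le.trans hle)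
  · rw [Nat.card_congr h.some.toEquiv, card_A4] at hlt; omega
  · have := sq_mod_of_S4 K h
    rw [Nat.pow_mod] at this
    rcases (show Fintype.card F % 16 = 3 ∨ Fintype.card F % 16 = 5 ∨ Fintype.card F % 16 = 11 ∨
      Fintype.card F % 16 = 13 by omega) with e | e | e | e <;> rw [e] at this <;> omega
  · have h5 := five_dvd_of_A5 K h
    rw [hqp] at h5 h10 hG h4
    by_cases hp5 : p = 5
    · refine hKtop (Subgroup.eq_top_of_card_eq K (show Nat.card K = Nat.card (PSL2 F) from ?_))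
      rw [Nat.card_congr h.some.toEquiv, card_A5]
      rw [hp5] at hG
      omega
    · rcases Nat.prime_five.dvd_mul.mp h5 with h' | h'
      · exact hp5 ((Nat.prime_dvd_prime_iff_eq Nat.prime_five hpp).mp h').symm
      · have hm5 : p % 5 = 2 ∨ p % 5 = 3 := by
          have : p % 5 ≠ 0 := fun h0 => hp5
            ((Nat.prime_dvd_prime_iff_eq Nat.prime_five hpp).mp (Nat.dvd_of_mod_eq_zero h0)).symm
          have := hpp.eq_two_or_odd.resolve_left hp2
          omega
        have h1 : p ^ 2 % 5 = 4 := by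
          rw [Nat.pow_mod]; rcases hm5 with e | e <;> rw [e]
        omega
  · obtain ⟨m, hm2, hTm, -⟩ := big_proper hT hKtop
    rw [hTm.symm] at hprime
    exact absurd hprime.eq_one_of_pow (by omega)

theorem pullBack_equiv_psl {D : ProjGenLinGroup (Fin 2) F} {T : Subfield F}
    (h : Nat.card (pullBack D (pglImage T)) ≤ Nat.card (PSL2 T)) :
    Nonempty (pullBack D (pglImage T) ≃* PSL2 T) := by
  let φ : PSL2 T →* ProjGenLinGroup (Fin 2) F := (toP F).comp (extend T.subtype)
  have hφ : Function.Injective φ := toP_injective.comp (extend_injective _)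
  have hS : φ.range ≤ pglImage T := by
    rintro _ ⟨g, rfl⟩
    obtain ⟨A, rfl⟩ := QuotientGroup.mk_surjective g
    refine ⟨ProjGenLinGroup.mk (Matrix.SpecialLinearGroup.toGL A), ?_⟩
    rw [ProjGenLinGroup.map_mk]
    show _ = ProjGenLinGroup.mk (Matrix.SpecialLinearGroup.toGL (Matrix.SpecialLinearGroup.map T.subtype A))
    congr 1
    ext i j
    rfl
  obtain ⟨e⟩ := exists_pullBack_equiv D (S := φ.range) (by rintro _ ⟨g, rfl⟩; exact ⟨_, rfl⟩)
  have heq : pullBack D φ.range = pullBack D (pglImage T) :=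
    Subgroup.eq_of_le_of_card_ge (pullBack_mono hS) (by
      rw [Nat.card_congr (e.trans (MonoidHom.ofInjective hφ).symm).toEquiv]; exact h)
  exact ⟨(MulEquiv.subgroupCongr heq.symm).trans (e.trans (MonoidHom.ofInjective hφ).symm)⟩

/-- Every squared trace of the subfield occurs. -/
theorem exists_mem_pullBack_trace (D : ProjGenLinGroup (Fin 2) F) {T : Subfield F} (s : T) :
    ∃ A : SL(2, F), (QuotientGroup.mk A : PSL2 F) ∈ pullBack D (pglImage T) ∧ str A ^ 2 = (s : F) ^ 2 := by
  obtain ⟨x, hx⟩ := exists_str_eq s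
  obtain ⟨y, hy⟩ : ∃ y : SL(2, F), y = Matrix.SpecialLinearGroup.map T.subtype x := ⟨_, rfl⟩
  obtain ⟨P, rfl⟩ := ProjGenLinGroup.mk_surjective D
  obtain ⟨g, hg⟩ := (toP_range_normal (F := F)).conj_mem _ ⟨QuotientGroup.mk y, rfl⟩ (ProjGenLinGroup.mk P)
  obtain ⟨A, rfl⟩ := QuotientGroup.mk_surjective g
  refine ⟨A, ?_, ?_⟩
  · rw [mem_pullBack, hg]
    refine ⟨ProjGenLinGroup.mk (Matrix.SpecialLinearGroup.toGL x), ?_⟩
    rw [ProjGenLinGroup.map_mk]
    simp only [mul_assoc, inv_mul_cancel_left, inv_mul_cancel, mul_one]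
    show _ = ProjGenLinGroup.mk (Matrix.SpecialLinearGroup.toGL y)
    congr 1
    ext i j
    rw [hy]
    rfl
  · have hg' : ProjGenLinGroup.mk (Matrix.SpecialLinearGroup.toGL A) =
        ProjGenLinGroup.mk (P * Matrix.SpecialLinearGroup.toGL y * P⁻¹) := by
      rw [map_mul, map_mul, map_inv]; exact hg
    obtain ⟨u, hu⟩ := ProjGenLinGroup.mk_eq_mk_iff.mp hg'
    have hv := congrArg (fun X : GL (Fin 2) F => (X : Matrix (Fin 2) (Fin 2) F)) hu
    simp only [Units.val_mul] at hv
    have htr := congrArg Matrix.trace hv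
    have hdt := congrArg Matrix.det hv
    rw [trace_mul_cycle, Units.inv_mul, Matrix.one_mul] at htr
    have hdP : (P : Matrix (Fin 2) (Fin 2) F).det * ((P⁻¹ : GL (Fin 2) F) : Matrix (Fin 2) (Fin 2) F).det = 1 := by
      rw [← det_mul, Units.mul_inv, det_one]
    rw [det_mul, det_mul, det_mul] at hdt
    have h1 : ((Matrix.SpecialLinearGroup.toGL y : GL (Fin 2) F) : Matrix (Fin 2) (Fin 2) F).det = 1 := y.2
    have h2 : ((Matrix.SpecialLinearGroup.toGL A : GL (Fin 2) F) : Matrix (Fin 2) (Fin 2) F).det = 1 := A.2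
    rw [h1, h2, mul_one, hdP, one_mul] at hdt
    have hu2 : (u : F) ^ 2 = 1 := by
      rw [← hdt]; simp [GeneralLinearGroup.coe_scalar, det_fin_two, pow_two]
    have hsy : str y = (s : F) := by
      rw [← hx, hy]; simp [str, trace_fin_two]
    have htr' : str A * (u : F) = str y := by
      refine Eq.trans ?_ htr
      simp [str, trace_fin_two, GeneralLinearGroup.coe_scalar, Matrix.mul_apply, Fin.sum_univ_two]
      ring
    rw [← hsy, ← htr']
    linear_combination -(str A ^ 2) * hu2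

theorem PGLMax.isCoatom_subfield (hM : PGLMax M) {D : ProjGenLinGroup (Fin 2) F} {T : Subfield F}
    {m : ℕ} (hm : m.Prime) (hmo : Odd m) (hTm : Nat.card T ^ m = Fintype.card F)
    (heq : M = pglConj D T) : IsCoatom (M.comap (toP F)) := by
  classical
  haveI : Fintype T := Fintype.ofFinite T
  obtain ⟨p, hp⟩ := CharP.exists F
  obtain ⟨⟨n, hn0⟩, hpp, hqn⟩ := FiniteField.card F p
  haveI := Fact.mk hpp
  have h2F := two_ne_zero_of_odd hM.odd
  have hp2 : p ≠ 2 := fun e => h2F (by
    have := CharP.cast_eq_zero F p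
    rw [e] at this
    exact_mod_cast this)
  have hto : Nat.card T % 2 = 1 := Nat.odd_iff.mp
    ((hTm.symm ▸ hM.odd).of_dvd_nat (dvd_pow_self _ hm.ne_zero))
  have hdT : Nat.gcd 2 (Nat.card T - 1) = 2 :=
    Nat.gcd_eq_left (Nat.dvd_of_mod_eq_zero (by have := Finite.one_lt_card (α := T); omega))
  have hcT := LinearGroup.gcd_mul_card_PSL_two (F := T)
  rw [hdT] at hcT
  obtain ⟨H, hH⟩ : ∃ H, H = M.comap (toP F) := ⟨_, rfl⟩
  rw [← hH]
  have hcH : 2 * Nat.card H = Nat.card T * (Nat.card T ^ 2 - 1) := by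
    have := hM.card_eq
    rw [← hH, heq, card_pglConj] at this
    omega
  have hHe : H = pullBack D (pglImage T) := by rw [hH, heq, comap_pglConj]
  have hcH' : Nat.card (pullBack D (pglImage T)) = Nat.card (PSL2 T) := by
    rw [← hHe]
    exact Nat.eq_of_mul_eq_mul_left two_pos (hcH.trans hcT.symm)
  obtain ⟨eH⟩ := pullBack_equiv_psl hcH'.le
  let eH' : H ≃* PSL2 T := (MulEquiv.subgroupCongr hHe).trans eH
  have ht3 : 3 ≤ Nat.card T := by
    have := Finite.one_lt_card (α := T)
    omega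
  refine ⟨hH ▸ hM.comap_ne_top, fun K hK => ?_⟩
  by_contra hKtop
  have hdvd := Subgroup.card_dvd_of_le hK.le
  have hlt : Nat.card H < Nat.card K := by
    by_contra hle
    exact hK.ne (Subgroup.eq_of_le_of_card_ge hK.le (by omega))
  have hsmall : ¬ Group.IsSolvable K ∨ Nonempty (H ≃* alternatingGroup (Fin 4)) := by
    rcases (show Nat.card T = 3 ∨ 4 ≤ Nat.card T by omega) with h | h
    · right
      obtain ⟨e⟩ := LinearGroup.psl_two_small (F := T) (Or.inl h)
      rw [h] at e
      exact ⟨eH'.trans e⟩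
    · left
      intro hs
      haveI : Group.IsSolvable H :=
        Group.isSolvable_of_isSolvable_injective (f := Subgroup.inclusion hK.le)
          (Subgroup.inclusion_injective hK.le)
      exact simple_not_solvable T h
        (Group.isSolvable_of_isSolvable_injective (f := eH'.symm.toMonoidHom) eH'.symm.injective)
  have hq3 : Nat.card T = 3 → Fintype.card F % 8 = 3 ∧ Fintype.card F % 5 ≠ 0 ∧
      ¬ 5 ∣ Fintype.card F ^ 2 - 1 := fun h => by
    obtain ⟨j, rfl⟩ := hmo
    rw [← hTm, h]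
    refine ⟨?_, ?_, ?_⟩
    · rw [pow_succ, pow_mul, Nat.mul_mod, Nat.pow_mod]; norm_num
    · intro h0
      exact absurd (Nat.prime_five.dvd_of_dvd_pow (Nat.dvd_of_mod_eq_zero h0)) (by norm_num)
    · have h1 : 3 ^ ((2 * j + 1) * 2) % 5 = 4 := by
        rw [show (2 * j + 1) * 2 = 4 * j + 2 by ring, pow_add, pow_mul, Nat.mul_mod, Nat.pow_mod]
        norm_num
      rw [← pow_mul]
      have := Nat.one_le_pow ((2 * j + 1) * 2) 3 (by norm_num)
      omega
  rcases subgroup_cases p K with ⟨w, hw⟩ | ⟨N, k, hN, hle⟩ | h | h | h | ⟨T', hT'⟩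
  · rcases hsmall with h | h
    · haveI := isSolvable_stabilizer w
      exact h (Group.isSolvable_of_isSolvable_injective (Subgroup.inclusion_injective hw))
    · exact not_A4_le_stabilizer p hp2 h w (hK.le.trans hw)
  · rcases hsmall with h | h
    · obtain ⟨e⟩ := hN.2.1
      haveI := isSolvable_dihedral k
      exact h (Group.isSolvable_of_isSolvable_injective (f := e.toMonoidHom.comp (Subgroup.inclusion hle))
        (e.injective.comp (Subgroup.inclusion_injective hle)))
    · exact not_A4_le_dihedral h hN.2.1 (hK.le.trans hle)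
  · rw [Nat.card_congr h.some.toEquiv, card_A4] at hlt
    have : 3 * 8 ≤ Nat.card T * (Nat.card T ^ 2 - 1) :=
      Nat.mul_le_mul ht3 (by have := Nat.pow_le_pow_left ht3 2; omega)
    omega
  · have h16 := sq_mod_of_S4 K h
    rw [Nat.card_congr h.some.toEquiv, card_S4] at hlt
    rcases (show Nat.card T = 3 ∨ 5 ≤ Nat.card T by omega) with ht | ht
    · have h8 := (hq3 ht).1
      rw [Nat.pow_mod] at h16
      rcases (show Fintype.card F % 16 = 3 ∨ Fintype.card F % 16 = 11 by omega) with e | e <;>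
        rw [e] at h16 <;> omega
    · have : 5 * 24 ≤ Nat.card T * (Nat.card T ^ 2 - 1) :=
        Nat.mul_le_mul ht (by have := Nat.pow_le_pow_left ht 2; omega)
      omega
  · have h5 := five_dvd_of_A5 K h
    rw [Nat.card_congr h.some.toEquiv, card_A5] at hlt
    rcases (show Nat.card T = 3 ∨ 5 ≤ Nat.card T by omega) with ht | ht
    · obtain ⟨-, h1, h2⟩ := hq3 ht
      rcases Nat.prime_five.dvd_mul.mp h5 with h' | h'
      · omega
      · exact h2 h'
    · have : 5 * 24 ≤ Nat.card T * (Nat.card T ^ 2 - 1) :=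
        Nat.mul_le_mul ht (by have := Nat.pow_le_pow_left ht 2; omega)
      omega
  · obtain ⟨m', hm', hT'm, -⟩ := big_proper hT' hKtop
    obtain ⟨D', hle⟩ := le_pullBack_of_big hT'
    have hTT' : T ≤ T' := by
      intro s hs
      have hsq : ∀ z : F, z ∈ T → z ^ 2 ∈ T' := fun z hz => by
        obtain ⟨A, hA, hA2⟩ := exists_mem_pullBack_trace D ⟨z, hz⟩
        have := sq_trace_mem (hle (hK.le (hHe.symm ▸ hA)))
        rwa [hA2] at this
      have h2T : (2 : F) ∈ T' := by rw [← one_add_one_eq_two]; exact add_mem (one_mem _) (one_mem _)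
      have h := mul_mem (inv_mem h2T)
        (sub_mem (sub_mem (hsq (s + 1) (add_mem hs (one_mem _))) (hsq s hs)) (one_mem _))
      rwa [show (s + 1) ^ 2 - s ^ 2 - 1 = 2 * s by ring, inv_mul_cancel_left₀ h2F] at h
    haveI : Fintype T' := Fintype.ofFinite T'
    obtain ⟨j, hj1, hjc⟩ := exists_pow_card (F := T') (T.comap T'.subtype)
    have hcc : Nat.card (T.comap T'.subtype) = Nat.card T := Nat.card_congr
      { toFun := fun x => ⟨x.1.1, x.2⟩
        invFun := fun x => ⟨⟨x.1, hTT' x.2⟩, x.2⟩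
        left_inv := fun _ => rfl
        right_inv := fun _ => rfl }
    rw [hcc, ← Nat.card_eq_fintype_card] at hjc
    have hmul : j * m' = m := by
      refine Nat.pow_right_injective (show 2 ≤ Nat.card T by omega) ?_
      show Nat.card T ^ (j * m') = Nat.card T ^ m
      rw [pow_mul, hjc, hT'm, hTm]
    obtain rfl : j = 1 := by
      rcases hm.eq_one_or_self_of_dvd j ⟨m', hmul.symm⟩ with h | h
      · exact h
      · exfalso
        rw [h] at hmul
        have := Nat.eq_of_mul_eq_mul_left hm.pos (hmul.trans (mul_one m).symm)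
        omega
    rw [pow_one] at hjc
    rcases card_big hT' with ⟨hc, -⟩ | ⟨hc, hiso⟩
    · rw [← hjc, hdT] at hc
      omega
    · rw [one_mul] at hmul
      rw [Nat.card_eq_fintype_card] at hT'm
      exact Nat.not_even_iff_odd.mpr hmo (hmul ▸
        (Cfsg.Agent.S0805.result rfl hM.odd m' (by omega) hT'm).2.mp ⟨K, hiso⟩)

theorem PGLMax.isCoatom_comap (hM : PGLMax M) (h7 : Fintype.card F ≠ 7) (h9 : Fintype.card F ≠ 9)
    (h11 : Fintype.card F ≠ 11)
    (h40 : (Fintype.card F).Prime → Fintype.card F % 40 ∉ ({11, 19, 21, 29} : Finset ℕ)) :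
    IsCoatom (M.comap (toP F)) := by
  rcases hM.classify with ⟨w, hw, -⟩ | ⟨n, hn, hiso⟩ | ⟨h1, h2, -, hA⟩ | ⟨D, T, m, hm, hmo, hTm, heq⟩
  · rw [hw]; exact isCoatom_stabilizer_point w
  · exact hM.isCoatom_of_dihedral hn hiso h7 h9 h11
  · refine isCoatom_A4 hA h1 h2 (fun h => ?_) hM.four_le
    have := h40 h1
    simp only [Finset.mem_insert, Finset.mem_singleton, not_or] at this
    omega
  · exact hM.isCoatom_subfield hm hmo hTm heq

end Cfsg.Agent.Dickson
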