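import Cfsg.Agent.Lib.Dickson.Action
import Cfsg.Agent.S0206
import Cfsg.Agent.S0494

/-!
The polyhedral and dihedral cases of the orbit equation.
-/

set_option autoImplicit false
set_option linter.unusedSectionVars false

namespace Cfsg.Agent.Dickson

open MulAction

variable {G X : Type*} [Group G] [MulAction G X] [Finite G]

theorem eq_one_of_fix (hA : Sharp G X) {g : G} (s : Set X) (hs : 2 < s.ncard)
    (h : ∀ v ∈ s, g • v = v) : g = 1 := by
  by_contra hg
  obtain ⟨a, b, hab⟩ := hA.fix_two g hg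
  have hsub : s ⊆ {a, b} := fun v hv => (hab v).mp (h v hv)
  have h1 := Set.ncard_le_ncard hsub ((Set.finite_singleton b).insert a)
  have h2 : ({a, b} : Set X).ncard ≤ 2 :=
    (Set.ncard_insert_le a {b}).trans (by rw [Set.ncard_singleton])
  omega

theorem exists_generator_of_uc_one (hA : Sharp G X) {w : X} (hu : uc hA w = 1) :
    ∃ t : G, stabilizer G w = Subgroup.zpowers t := by
  obtain ⟨t, ht, h⟩ := hA.cyc w
  refine ⟨t, le_antisymm (fun g hg => ?_) (Subgroup.zpowers_le.mpr ht)⟩
  obtain ⟨i, hi⟩ := h g hg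
  have : (t ^ i)⁻¹ * g = 1 := by
    have hb : uni hA w = ⊥ := Subgroup.card_eq_one.mp hu
    have : (t ^ i)⁻¹ * g ∈ uni hA w := hi
    rwa [hb, Subgroup.mem_bot] at this
  rw [← inv_mul_eq_one.mp this]
  exact Subgroup.npow_mem_zpowers t i

theorem not_isUni_of_uc_one (hA : Sharp G X) {w : X} (hu : uc hA w = 1) {g : G} (hg : g ≠ 1)
    (hgw : g • w = w) : ¬ ∃ v : X, IsUni v g := by
  rintro ⟨v, hv⟩
  have hvw : w = v := ((hv.resolve_left hg) w).mp hgw
  subst hvw
  have hb : uni hA w = ⊥ := Subgroup.card_eq_one.mp hu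
  have : g ∈ uni hA w := hv
  rw [hb, Subgroup.mem_bot] at this
  exact hg this

/-- The cyclic case. -/
theorem cyclic_of_fixed (hA : Sharp G X) {w : X} (hu : uc hA w = 1) (hfix : ∀ g : G, g • w = w) :
    IsCyclic G ∧ ∀ g : G, g ≠ 1 → ¬ ∃ v : X, IsUni v g := by
  refine ⟨?_, fun g hg => not_isUni_of_uc_one hA hu hg (hfix g)⟩
  obtain ⟨t, ht⟩ := exists_generator_of_uc_one hA hu
  exact ⟨t, fun g => show g ∈ Subgroup.zpowers t from ht ▸ hfix g⟩

/-- The dihedral case. -/
theorem dihedral_of (hA : Sharp G X) {w : X} (h2 : orb G w = 2) (hu : uc hA w = 1)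
    (hn : 2 ≤ st G w) (hout : ∀ v ∈ special G X, v ∉ orbit G w → st G v = 2) :
    ∃ n, 2 ≤ n ∧ Nonempty (G ≃* DihedralGroup n) ∧
      ∃ t : G, orderOf t = n ∧ ¬ ∃ v : X, IsUni v t := by
  obtain ⟨t, ht⟩ := exists_generator_of_uc_one hA hu
  have htn : orderOf t = st G w := by rw [st, ht, Nat.card_zpowers]
  have ht1 : t ≠ 1 := fun h => by rw [h, orderOf_one] at htn; omega
  have hidx : (stabilizer G w).index = 2 := by
    rw [index_stabilizer, ← Nat.card_coe_set_eq]; exact h2
  haveI := Subgroup.normal_of_index_eq_two hidx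
  have hstab : ∀ a ∈ orbit G w, stabilizer G a = stabilizer G w := by
    rintro _ ⟨g, rfl⟩
    rw [stabilizer_smul_eq_map]
    ext x
    rw [Subgroup.mem_map_equiv, MulAut.conj_symm_apply]
    exact ⟨fun h => by simpa [mul_assoc] using Subgroup.Normal.conj_mem inferInstance _ h g,
      fun h => by simpa using Subgroup.Normal.conj_mem inferInstance _ h g⁻¹⟩
  have hsq : ∀ g : G, g ∉ stabilizer G w → orderOf g = 2 := by
    intro g hg
    have hg1 : g ≠ 1 := fun h => hg (h ▸ one_mem _)
    obtain ⟨a, b, hab⟩ := hA.fix_two g hg1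
    have hga : g • a = a := (hab a).mpr (Or.inl rfl)
    have ha : a ∉ orbit G w := fun h => hg ((hstab a h) ▸ hga)
    have h2' := hout a ⟨g, hg1, hga⟩ ha
    have hdvd : orderOf g ∣ 2 := by
      rw [← h2']
      exact Subgroup.orderOf_dvd_natCard _ hga
    rcases (Nat.dvd_prime Nat.prime_two).mp hdvd with h | h
    · exact absurd (orderOf_eq_one_iff.mp h) hg1
    · exact h
  obtain ⟨s, hs⟩ : ∃ s, s ∉ stabilizer G w := by
    by_contra h
    push Not at h
    rw [(Subgroup.eq_top_iff' _).mpr h, Subgroup.index_top] at hidx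
    omega
  have htC : t ∈ stabilizer G w := ht ▸ Subgroup.mem_zpowers t
  have hst : s * t ∉ stabilizer G w := fun h => hs ((mul_mem_cancel_right htC).mp h)
  have hss : s * s = 1 := by rw [← pow_two, ← hsq s hs]; exact pow_orderOf_eq_one s
  have hne : s ≠ s * t := fun h => ht1 (mul_eq_left.mp h.symm)
  obtain ⟨e⟩ := S0206.result s (s * t) (hsq s hs) (hsq _ hst) hne
  have htop : Subgroup.closure ({s, s * t} : Set G) = ⊤ := by
    have hsc : s ∈ Subgroup.closure ({s, s * t} : Set G) := Subgroup.subset_closure (by simp)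
    have htc : t ∈ Subgroup.closure ({s, s * t} : Set G) := by
      have h1 : s * t ∈ Subgroup.closure ({s, s * t} : Set G) := Subgroup.subset_closure (by simp)
      have h2 := mul_mem (inv_mem hsc) h1
      rwa [inv_mul_cancel_left] at h2
    rw [eq_top_iff]
    intro g _
    have hle : stabilizer G w ≤ Subgroup.closure ({s, s * t} : Set G) :=
      ht ▸ Subgroup.zpowers_le.mpr htc
    by_cases hg : g ∈ stabilizer G w
    · exact hle hg
    · have := hle ((Subgroup.mul_mem_iff_of_index_two hidx).mpr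
        (iff_of_false hs hg) : s * g ∈ stabilizer G w)
      exact (Subgroup.mul_mem_cancel_left _ hsc).mp this
  have horder : orderOf (s * (s * t)) = st G w := by rw [← mul_assoc, hss, one_mul, htn]
  rw [htop, horder] at e
  exact ⟨st G w, hn, ⟨Subgroup.topEquiv.symm.trans e⟩, t, htn,
    not_isUni_of_uc_one hA hu ht1 htC⟩

/-- The tetrahedral case. -/
theorem tetrahedral_of (hA : Sharp G X) {w : X} (hn : orb G w = 4) (hg : Nat.card G = 12) :
    Nonempty (G ≃* alternatingGroup (Fin 4)) := by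
  classical
  haveI : Finite (orbit G w) := Set.Finite.to_subtype (Set.finite_range fun g : G => g • w)
  have e : orbit G w ≃ Fin 4 := Finite.equivFinOfCardEq hn
  let f : G →* Equiv.Perm (Fin 4) :=
    (Equiv.permCongrHom e).toMonoidHom.comp (toPermHom G (orbit G w))
  have hf : Function.Injective f := by
    rw [injective_iff_map_eq_one]
    intro g hgf
    have hgf' : toPermHom G (orbit G w) g = 1 := by
      apply (Equiv.permCongrHom e).injective
      rw [map_one]; exact hgf
    refine eq_one_of_fix hA (orbit G w) (by rw [← Nat.card_coe_set_eq]; change 2 < orb G w; omega) ?_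
    intro v hv
    exact congrArg Subtype.val (Equiv.ext_iff.mp hgf' ⟨v, hv⟩)
  have hidx : f.range.index = 2 := by
    have h := Subgroup.card_mul_index f.range
    rw [← Nat.card_congr (MonoidHom.ofInjective hf).toEquiv, hg, Nat.card_perm, Nat.card_fin,
      show Nat.factorial 4 = 24 from rfl] at h
    omega
  rw [← Equiv.Perm.eq_alternatingGroup_of_index_eq_two hidx]
  exact ⟨MonoidHom.ofInjective hf⟩

/-- The octahedral case. -/
theorem octahedral_of (hA : Sharp G X) {w : X} (hn : orb G w = 8) (he : st G w = 3)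
    (hu : uc hA w = 1) (hg : Nat.card G = 24)
    (hout : ∀ v ∈ special G X, v ∉ orbit G w → ¬ 3 ∣ st G v) :
    Nonempty (G ≃* Equiv.Perm (Fin 4)) := by
  classical
  haveI := Fintype.ofFinite G
  haveI : Finite (orbit G w) := Set.Finite.to_subtype (Set.finite_range fun g : G => g • w)
  haveI : Fintype (orbit G w) := Fintype.ofFinite _
  set Y : Finset (Subgroup G) := Finset.univ.image fun g : G => stabilizer G (g • w) with hY
  have h3 : ∀ v ∈ orbit G w, st G v = 3 := by
    rintro _ ⟨g, rfl⟩; rw [st_smul, he]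
  have hgen : ∀ v ∈ orbit G w, ∃ t : G, t ≠ 1 ∧ stabilizer G v = Subgroup.zpowers t ∧
      orderOf t = 3 ∧ ¬ ∃ u : X, IsUni u t := by
    rintro _ ⟨g, rfl⟩
    obtain ⟨t, ht⟩ := exists_generator_of_uc_one hA (w := g • w) (by rw [uc_smul, hu])
    have h : orderOf t = 3 := by
      rw [← Nat.card_zpowers, ← ht]
      exact h3 _ (mem_orbit w g)
    have ht1 : t ≠ 1 := fun e => by rw [e, orderOf_one] at h; omega
    exact ⟨t, ht1, ht, h, not_isUni_of_uc_one hA (by rw [uc_smul, hu]) ht1
      (ht ▸ Subgroup.mem_zpowers t : t ∈ stabilizer G (g • w))⟩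
  have hfib : ∀ v ∈ orbit G w, ∃ v', v' ≠ v ∧ v' ∈ orbit G w ∧
      ∀ u ∈ orbit G w, stabilizer G u = stabilizer G v ↔ u = v ∨ u = v' := by
    intro v hv
    obtain ⟨t, ht1, ht, ht3, hnu⟩ := hgen v hv
    obtain ⟨a, b, hab⟩ := hA.fix_two t ht1
    have hab' : a ≠ b := fun e => hnu ⟨a, Or.inr fun u => by rw [hab, e, or_self]⟩
    have htv : t • v = v := (ht ▸ Subgroup.mem_zpowers t : t ∈ stabilizer G v)
    obtain ⟨v', hv'v, hfix⟩ : ∃ v', v' ≠ v ∧ ∀ u, t • u = u ↔ u = v ∨ u = v' := by
      rcases (hab v).mp htv with h | h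
      · exact ⟨b, fun e => hab' (h ▸ e.symm), fun u => by rw [hab u, h]⟩
      · exact ⟨a, fun e => hab' (h ▸ e), fun u => by rw [hab u, h, or_comm]⟩
    have hstab : stabilizer G v ≤ stabilizer G v' := by
      rw [ht]; exact Subgroup.zpowers_le.mpr ((hfix v').mpr (Or.inr rfl))
    have hmem : v' ∈ orbit G w := by
      by_contra hc
      refine hout v' ⟨t, ht1, (hfix v').mpr (Or.inr rfl)⟩ hc ?_
      rw [← h3 v hv]
      exact Subgroup.card_dvd_of_le hstab
    refine ⟨v', hv'v, hmem, fun u hu' => ⟨fun e => (hfix u).mp ?_, ?_⟩⟩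
    · exact (e ▸ ht ▸ Subgroup.mem_zpowers t : t ∈ stabilizer G u)
    · rintro (rfl | rfl)
      · rfl
      · refine (Subgroup.eq_of_le_of_card_ge hstab ?_).symm
        exact ((h3 u hu').trans (h3 v hv).symm).le
  have hYmem : ∀ S : Subgroup G, S ∈ Y ↔ ∃ v ∈ orbit G w, stabilizer G v = S := by
    intro S
    simp [hY, orbit]
  have hY4 : Y.card = 4 := by
    have h1 : (Finset.univ : Finset (orbit G w)).card = ∑ S ∈ Y,
        ((Finset.univ : Finset (orbit G w)).filter fun v : orbit G w => stabilizer G (v : X) = S).card :=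
      Finset.card_eq_sum_card_fiberwise (f := fun v : orbit G w => stabilizer G (v : X))
        fun v _ => (hYmem _).mpr ⟨v.1, v.2, rfl⟩
    have h2 : ∀ S ∈ Y,
        ((Finset.univ : Finset (orbit G w)).filter fun v : orbit G w => stabilizer G (v : X) = S).card = 2 := by
      intro S hS
      obtain ⟨v, hv, rfl⟩ := (hYmem S).mp hS
      obtain ⟨v', hne, hv', hiff⟩ := hfib v hv
      rw [Finset.card_eq_two]
      refine ⟨⟨v, hv⟩, ⟨v', hv'⟩, fun e => hne (congrArg Subtype.val e).symm, ?_⟩
      ext u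
      simp [hiff u.1 u.2, Subtype.ext_iff]
    rw [Finset.sum_congr rfl h2, Finset.sum_const, Finset.card_univ, ← Nat.card_eq_fintype_card,
      smul_eq_mul] at h1
    change orb G w = _ at h1
    omega
  have hmap : ∀ (g : G), ∀ S ∈ Y, S.map (MulAut.conj g).toMonoidHom ∈ Y := by
    intro g S hS
    obtain ⟨v, hv, rfl⟩ := (hYmem S).mp hS
    exact (hYmem _).mpr ⟨g • v, orbit_eq_iff.mp ((orbit_smul g v).trans (orbit_eq_iff.mpr hv)),
      stabilizer_smul_eq_map g v⟩
  have hcomp : ∀ (g h : G) (S : Subgroup G), (S.map (MulAut.conj h).toMonoidHom).map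
      (MulAut.conj g).toMonoidHom = S.map (MulAut.conj (g * h)).toMonoidHom := by
    intro g h S
    rw [Subgroup.map_map, map_mul]
    rfl
  have hone : ∀ S : Subgroup G, S.map (MulAut.conj (1 : G)).toMonoidHom = S := by
    intro S
    rw [map_one]
    exact Subgroup.map_id S
  let act : MulAction G Y :=
    { smul := fun g S => ⟨S.1.map (MulAut.conj g).toMonoidHom, hmap g S.1 S.2⟩
      one_smul := fun S => Subtype.ext (hone S.1)
      mul_smul := fun g h S => Subtype.ext (hcomp g h S.1).symm }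
  letI := act
  have hYcard : Nat.card Y = 4 := by
    rw [Nat.card_eq_fintype_card, Fintype.card_coe, hY4]
  have e : Y ≃ Fin 4 := Finite.equivFinOfCardEq hYcard
  let f : G →* Equiv.Perm (Fin 4) :=
    (Equiv.permCongrHom e).toMonoidHom.comp (toPermHom G Y)
  have hker : ∀ g : G, f g = 1 → ∀ v ∈ orbit G w, stabilizer G (g • v) = stabilizer G v := by
    intro g hgf v hv
    have hgf' : toPermHom G Y g = 1 := by
      apply (Equiv.permCongrHom e).injective
      rw [map_one]; exact hgf
    have h := congrArg Subtype.val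
      (Equiv.ext_iff.mp hgf' ⟨stabilizer G v, (hYmem _).mpr ⟨v, hv, rfl⟩⟩)
    rw [stabilizer_smul_eq_map]
    exact h
  have hswap : ∀ g : G, f g = 1 → ∀ v ∈ orbit G w, g • g • v = v := by
    intro g hgf v hv
    obtain ⟨v', hne, hv', hiff⟩ := hfib v hv
    have hgv : g • v ∈ orbit G w := orbit_eq_iff.mp ((orbit_smul g v).trans (orbit_eq_iff.mpr hv))
    rcases (hiff _ hgv).mp (hker g hgf v hv) with h | h
    · rw [h, h]
    · have hgv' : g • v' ∈ orbit G w :=
        orbit_eq_iff.mp ((orbit_smul g v').trans (orbit_eq_iff.mpr hv'))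
      have hs' : stabilizer G v' = stabilizer G v := (hiff v' hv').mpr (Or.inr rfl)
      rcases (hiff _ hgv').mp ((hker g hgf v' hv').trans hs') with h' | h'
      · rw [h, h']
      · exact absurd (MulAction.injective g (h'.trans h.symm)) hne
  have h8 : 2 < (orbit G w).ncard := by
    rw [← Nat.card_coe_set_eq]; change 2 < orb G w; omega
  have hinv : ∀ g : G, f g = 1 → g * g = 1 := fun g hgf =>
    eq_one_of_fix hA (orbit G w) h8 fun v hv => by rw [mul_smul]; exact hswap g hgf v hv
  have hnofix : ∀ g : G, f g = 1 → g ≠ 1 → ∀ v ∈ orbit G w, g • v ≠ v := by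
    intro g hgf hg1 v hv hgv
    apply hg1
    have h3' : orderOf g ∣ 3 := by
      rw [← h3 v hv]; exact Subgroup.orderOf_dvd_natCard _ hgv
    have h2' : orderOf g ∣ 2 := orderOf_dvd_of_pow_eq_one (by rw [pow_two]; exact hinv g hgf)
    exact orderOf_eq_one_iff.mp (Nat.eq_one_of_dvd_coprimes (by norm_num) h3' h2')
  have hother : ∀ g : G, f g = 1 → g ≠ 1 → ∀ v ∈ orbit G w, ∀ v', v' ≠ v →
      (∀ u ∈ orbit G w, stabilizer G u = stabilizer G v ↔ u = v ∨ u = v') → g • v = v' := by
    intro g hgf hg1 v hv v' _ hiff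
    have hgv : g • v ∈ orbit G w := orbit_eq_iff.mp ((orbit_smul g v).trans (orbit_eq_iff.mpr hv))
    exact ((hiff _ hgv).mp (hker g hgf v hv)).resolve_left (hnofix g hgf hg1 v hv)
  have hinj : Function.Injective f := by
    rw [injective_iff_map_eq_one]
    intro g hgf
    by_contra hg1
    have huniq : ∀ h : G, f h = 1 → h ≠ 1 → h = g := by
      intro h hhf hh1
      have : g⁻¹ * h = 1 := eq_one_of_fix hA (orbit G w) h8 fun v hv => by
        obtain ⟨v', hne, -, hiff⟩ := hfib v hv
        rw [mul_smul, hother h hhf hh1 v hv v' hne hiff,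
          ← hother g hgf hg1 v hv v' hne hiff, inv_smul_smul]
      exact (inv_mul_eq_one.mp this).symm
    have hcent : ∀ t : G, t * g = g * t := by
      intro t
      have h := huniq (t * g * t⁻¹) (by simp [hgf]) (fun e => hg1 (conj_eq_one_iff.mp e))
      exact mul_inv_eq_iff_eq_mul.mp h
    obtain ⟨t, ht1, ht, ht3, hnu⟩ := hgen w (mem_orbit_self w)
    obtain ⟨w', hne, hw', hiff⟩ := hfib w (mem_orbit_self w)
    have hy1 : g * t ≠ 1 := by
      intro e
      have hgt : g = t⁻¹ := eq_inv_of_mul_eq_one_left e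
      refine hnofix g hgf hg1 w (mem_orbit_self w) ?_
      rw [hgt]
      exact (ht ▸ inv_mem (Subgroup.mem_zpowers t) : t⁻¹ ∈ stabilizer G w)
    obtain ⟨a, b, hab⟩ := hA.fix_two (g * t) hy1
    have hya : (g * t) • a = a := (hab a).mpr (Or.inl rfl)
    have ht2a : (t * t) • a = a := by
      have : (g * t) * (g * t) = t * t := by
        rw [mul_assoc, ← mul_assoc t g, hcent t, mul_assoc g t t, ← mul_assoc g g, hinv g hgf,
          one_mul]
      rw [← this, mul_smul, hya, hya]
    have hta : t • a = a := by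
      have h3p : t ^ 3 = 1 := by rw [← ht3]; exact pow_orderOf_eq_one t
      have : t = (t * t) * (t * t) := by
        calc t = t ^ 3 * t := by rw [h3p, one_mul]
          _ = (t * t) * (t * t) := by simp [pow_succ, mul_assoc]
      rw [this, mul_smul, ht2a, ht2a]
    have hga : g • a = a := by rw [mul_smul, hta] at hya; exact hya
    have hastab : stabilizer G w ≤ stabilizer G a := by
      rw [ht]; exact Subgroup.zpowers_le.mpr hta
    have haO : a ∈ orbit G w := by
      by_contra hc
      refine hout a ⟨t, ht1, hta⟩ hc ?_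
      rw [← he]
      exact Subgroup.card_dvd_of_le hastab
    exact hnofix g hgf hg1 a haO hga
  refine ⟨MulEquiv.ofBijective f ((Nat.bijective_iff_injective_and_card f).mpr ⟨hinj, ?_⟩)⟩
  rw [hg, Nat.card_perm, Nat.card_fin]
  rfl

theorem alternating_five_of {G : Type*} [Group G] [Finite G] (h60 : Nat.card G = 60)
    (hK : ∀ K : Subgroup G, K.Normal → Nat.card K = 1 ∨ Nat.card K = 60) :
    Nonempty (G ≃* alternatingGroup (Fin 5)) := by
  haveI : Nontrivial G := Finite.one_lt_card_iff_nontrivial.mp (by omega)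
  haveI : IsSimpleGroup G := ⟨fun K hn => by
    rcases hK K hn with h | h
    · exact Or.inl (Subgroup.card_eq_one.mp h)
    · exact Or.inr (Subgroup.eq_top_of_card_eq K (h.trans h60.symm))⟩
  exact S0494.result h60

end Cfsg.Agent.Dickson
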