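import Cfsg.Agent.Lib.Dickson.Line
import Cfsg.Agent.Lib.LinearGroup.Card

/-!
Subgroups of `PSL₂(F)` on the line over an algebraic closure: rational points, the Borel subgroup.
-/

set_option autoImplicit false
set_option linter.unusedSectionVars false

namespace Cfsg.Agent.Dickson

open Matrix MulAction OnePoint
open scoped MatrixGroups Classical

attribute [local instance] Cfsg.Agent.PLocalB.lineAction pslLine

variable {F : Type*} [Field F] {k : Type*} [Field k]

/-- `PSL₂(F) → PSL₂(k)` along a field homomorphism. -/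
noncomputable def extend (f : F →+* k) : PSL2 F →* PSL2 k :=
  QuotientGroup.lift _ ((QuotientGroup.mk' _).comp (Matrix.SpecialLinearGroup.map f)) (by
    intro A hA
    rcases eq_or_eq_neg_of_isScalar ((SL2Tor.psl_mk_eq_one_iff A).mp
      ((QuotientGroup.eq_one_iff A).mpr hA)) with rfl | rfl
    · exact one_mem _
    · rw [MonoidHom.mem_ker, MonoidHom.comp_apply, QuotientGroup.mk'_apply]
      have : Matrix.SpecialLinearGroup.map f (-1 : SL(2, F)) = -1 := by
        ext i j; fin_cases i <;> fin_cases j <;> simp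
      rw [this, SL2Tor.psl_mk_neg]
      rfl)

theorem extend_mk (f : F →+* k) (A : SL(2, F)) :
    extend f (QuotientGroup.mk A) = QuotientGroup.mk (Matrix.SpecialLinearGroup.map f A) := rfl

theorem extend_injective (f : F →+* k) : Function.Injective (extend f) := by
  rw [injective_iff_map_eq_one]
  intro g hg
  obtain ⟨A, rfl⟩ := QuotientGroup.mk_surjective g
  rw [extend_mk, SL2Tor.psl_mk_eq_one_iff] at hg
  obtain ⟨h01, h10, hd⟩ := hg
  rw [SL2Tor.psl_mk_eq_one_iff]
  simp at h01 h10 hd
  exact ⟨h01, h10, f.injective hd⟩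

/-- A point of the line over `F`, seen over `k`. -/
def pointMap (f : F →+* k) (w : OnePoint F) : OnePoint k := OnePoint.map f w

theorem pointMap_injective (f : F →+* k) : Function.Injective (pointMap f) := by
  exact Option.map_injective f.injective

theorem extend_smul (f : F →+* k) (g : PSL2 F) (w : OnePoint F) :
    extend f g • pointMap f w = pointMap f (g • w) := by
  obtain ⟨A, rfl⟩ := QuotientGroup.mk_surjective g
  rw [extend_mk, mk_smul, mk_smul]
  cases w with
  | infty =>
    show Matrix.SpecialLinearGroup.map f A • (∞ : OnePoint k) = _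
    by_cases hc : A 1 0 = 0
    · rw [(PLocalB.smul_infty_iff A).mpr hc, (PLocalB.smul_infty_iff _).mpr (by simp [hc])]
      rfl
    · rw [PLocalB.smul_infty_of_ne A hc, PLocalB.smul_infty_of_ne _ (by simp [hc])]
      show _ = ((f (A 0 0 / A 1 0) : k) : OnePoint k)
      simp
  | coe z =>
    show Matrix.SpecialLinearGroup.map f A • ((f z : k) : OnePoint k) = _
    rw [PLocalB.smul_coe_eq, PLocalB.smul_coe_eq]
    by_cases hz : A 1 0 * z + A 1 1 = 0
    · rw [if_pos hz, if_pos (by simp [← map_mul, ← map_add, hz])]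
      rfl
    · rw [if_neg hz, if_neg (by simp [← map_mul, ← map_add, hz])]
      show _ = ((f ((A 0 0 * z + A 0 1) / (A 1 0 * z + A 1 1)) : k) : OnePoint k)
      simp

theorem exists_rational_fixed (A : SL(2, F)) (ht : (A 0 0 + A 1 1) ^ 2 = 4) :
    ∃ w : OnePoint F, A • w = w := by
  by_cases hc : A 1 0 = 0
  · exact ⟨∞, (PLocalB.smul_infty_iff A).mpr hc⟩
  have hd := PLocalB.det_entries A
  obtain ⟨μ, hμ, hμ'⟩ : ∃ μ : F, μ * μ = 1 ∧ A 0 0 + A 1 1 = 2 * μ := by
    by_cases h2 : (2 : F) = 0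
    · have h4 : (4 : F) = 0 := by linear_combination 2 * h2
      rw [h4, pow_eq_zero_iff two_ne_zero] at ht
      exact ⟨1, one_mul 1, by rw [ht, h2, zero_mul]⟩
    · refine ⟨(A 0 0 + A 1 1) / 2, ?_, by field_simp⟩
      field_simp
      linear_combination ht
  refine ⟨(((μ - A 1 1) / A 1 0 : F) : OnePoint F), ?_⟩
  have he : A 1 0 * ((μ - A 1 1) / A 1 0) + A 1 1 = μ := by field_simp; ring
  have hμ0 : μ ≠ 0 := left_ne_zero_of_mul_eq_one hμ
  rw [PLocalB.smul_coe_eq, if_neg (by rw [he]; exact hμ0), OnePoint.coe_eq_coe, he]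
  field_simp
  linear_combination -hd + μ * hμ' + hμ

theorem trace_sq_of_isUni [IsAlgClosed k] {A : SL(2, k)} {w : OnePoint k}
    (h : IsUni w (QuotientGroup.mk A : PSL2 k)) : (A 0 0 + A 1 1) ^ 2 = 4 := by
  obtain ⟨t, ht⟩ := PLocalB.exists_smul_eq_infty w
  have h' := isUni_conj (g := (QuotientGroup.mk t : PSL2 k)) h
  rw [mk_smul, ht, ← QuotientGroup.mk_inv, ← QuotientGroup.mk_mul, ← QuotientGroup.mk_mul] at h'
  have h10 : (t * A * t⁻¹) 1 0 = 0 := (PLocalB.smul_infty_iff _).mp h'.smul_eq
  have h2 := (isUni_infty_iff h10).mp h'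
  have hd := upper_diag h10
  have htr : (t * A * t⁻¹) 0 0 + (t * A * t⁻¹) 1 1 = A 0 0 + A 1 1 := PLocalB.tr_conj A t
  rw [← htr]
  have heq : (t * A * t⁻¹) 1 1 = (t * A * t⁻¹) 0 0 := by
    apply mul_left_cancel₀ (left_ne_zero_of_mul_eq_one hd)
    rw [hd, ← pow_two, h2]
  rw [heq]
  linear_combination 4 * h2

theorem exists_rational_of_isUni [IsAlgClosed k] (f : F →+* k) {g : PSL2 F} (hg : g ≠ 1)
    {w : OnePoint k} (h : IsUni w (extend f g)) : ∃ w₀ : OnePoint F, pointMap f w₀ = w := by
  obtain ⟨A, rfl⟩ := QuotientGroup.mk_surjective g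
  have h1 : extend f (QuotientGroup.mk A) ≠ 1 := fun e =>
    hg (extend_injective f (by rw [e, map_one]))
  have ht := trace_sq_of_isUni (A := Matrix.SpecialLinearGroup.map f A) h
  have ht' : (A 0 0 + A 1 1) ^ 2 = 4 := f.injective (by simpa [map_ofNat] using ht)
  obtain ⟨w₀, hw₀⟩ := exists_rational_fixed A ht'
  refine ⟨w₀, ((h.resolve_left h1) _).mp ?_⟩
  rw [extend_smul, mk_smul, hw₀]

theorem isUni_extend_iff [IsAlgClosed k] (f : F →+* k) (g : PSL2 F) (w : OnePoint F) :
    IsUni (pointMap f w) (extend f g) ↔ IsUni w g := by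
  have inj : ∀ v, extend f g • pointMap f v = pointMap f v ↔ g • v = v := fun v => by
    rw [extend_smul]; exact ⟨fun e => pointMap_injective f e, fun e => by rw [e]⟩
  constructor
  · rintro (e | h)
    · exact Or.inl (extend_injective f (by rw [e, map_one]))
    · exact Or.inr fun v => by rw [← inj, h]; exact ⟨fun e => pointMap_injective f e, fun e => by rw [e]⟩
  · intro h
    obtain ⟨t, ht⟩ := exists_smul_infty w
    rw [← isUni_conj_iff (g := extend f t), extend_smul, ht, ← map_inv, ← map_mul, ← map_mul]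
    have h' := isUni_conj (g := t) h
    rw [ht] at h'
    generalize t * g * t⁻¹ = y at h' ⊢
    obtain ⟨A, rfl, h10⟩ := exists_upper_rep h'.smul_eq
    rw [isUni_infty_iff h10] at h'
    rw [extend_mk]
    exact (isUni_infty_iff (by simp [h10])).mpr (by simp [← map_pow, h'])

/-- The translations `x ↦ x + b` in `PSL₂(F)`. -/
noncomputable def uppHom (F : Type*) [Field F] : Multiplicative F →* PSL2 F :=
  MonoidHom.mk' (fun b => QuotientGroup.mk (PLocalB.upper b.toAdd)) fun a b => by
    rw [← QuotientGroup.mk_mul, PLocalB.upper_mul]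
    rfl

theorem uppHom_injective : Function.Injective (uppHom F) := by
  rw [injective_iff_map_eq_one]
  intro b hb
  have h := ((SL2Tor.psl_mk_eq_one_iff _).mp hb).1
  simpa [PLocalB.upper] using h

theorem isUni_infty_iff_upp {g : PSL2 F} :
    IsUni (∞ : OnePoint F) g ↔ ∃ b : F, g = uppHom F (Multiplicative.ofAdd b) := by
  constructor
  · intro h
    obtain ⟨A, rfl, h10⟩ := exists_upper_rep h.smul_eq
    have h2 := (isUni_infty_iff h10).mp h
    rw [pow_two] at h2
    rcases mul_self_eq_one_iff.mp h2 with e | e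
    · exact ⟨A 0 1, congrArg _ (PLocalB.eq_upper_of_entries A h10 e)⟩
    · have e10 : (-A) 1 0 = 0 := by simp [h10]
      have e00 : (-A) 0 0 = 1 := by simp [e]
      refine ⟨(-A) 0 1, ?_⟩
      rw [← SL2Tor.psl_mk_neg A]
      exact congrArg _ (PLocalB.eq_upper_of_entries (-A) e10 e00)
  · rintro ⟨b, rfl⟩
    show IsUni (∞ : OnePoint F) (QuotientGroup.mk (PLocalB.upper b))
    rw [isUni_infty_iff (by simp [PLocalB.upper])]
    simp [PLocalB.upper]

theorem le_normalizer_upp {g : PSL2 F} (hg : g • (∞ : OnePoint F) = ∞) :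
    g ∈ Subgroup.normalizer ((uppHom F).range : Set (PSL2 F)) := by
  rw [Subgroup.mem_normalizer_iff]
  intro x
  have key : ∀ y, y ∈ (uppHom F).range ↔ IsUni (∞ : OnePoint F) y := fun y => by
    rw [isUni_infty_iff_upp]
    exact ⟨fun ⟨b, hb⟩ => ⟨b.toAdd, hb.symm⟩, fun ⟨b, hb⟩ => ⟨_, hb.symm⟩⟩
  show x ∈ (uppHom F).range ↔ g * x * g⁻¹ ∈ (uppHom F).range
  rw [key, key]
  conv_rhs => rw [← hg, isUni_conj_iff]

variable [Fintype F]

theorem exists_sylow_upp (p : ℕ) [Fact p.Prime] [CharP F p] :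
    ∃ P : Sylow p (PSL2 F), (P : Subgroup (PSL2 F)) = (uppHom F).range := by
  obtain ⟨⟨n, hn⟩, hp, hcard⟩ := FiniteField.card F p
  have hc : Nat.card (uppHom F).range = p ^ n := by
    rw [← Nat.card_congr (MonoidHom.ofInjective uppHom_injective).toEquiv,
      Nat.card_congr Multiplicative.toAdd, Nat.card_eq_fintype_card, hcard]
    rfl
  have hG := LinearGroup.gcd_mul_card_PSL_two (F := F)
  have hq : 1 < p ^ n := Nat.one_lt_pow hn.ne' hp.one_lt
  rw [Nat.card_eq_fintype_card, hcard] at hG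
  simp only [PNat.mk_coe] at hG
  have hndvd : ¬ p ∣ (p ^ n) ^ 2 - 1 := by
    intro h
    have h1 : p ∣ (p ^ n) ^ 2 := dvd_pow (dvd_pow_self _ hn.ne') two_ne_zero
    have := Nat.dvd_sub h1 h
    rw [Nat.sub_sub_self (Nat.one_le_pow _ _ (by omega))] at this
    exact hp.not_dvd_one this
  have hfac : (Nat.card (PSL2 F)).factorization p = n := by
    have hd0 : Nat.gcd 2 (p ^ n - 1) ≠ 0 := by simp
    have h1 : (Nat.gcd 2 (p ^ n - 1)).factorization p = 0 := by
      apply Nat.factorization_eq_zero_of_not_dvd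
      intro h
      have h2 : p ∣ p ^ n - 1 := h.trans (Nat.gcd_dvd_right _ _)
      have := Nat.dvd_sub (dvd_pow_self p hn.ne') h2
      rw [Nat.sub_sub_self (by omega)] at this
      exact hp.not_dvd_one this
    have h3 := congrArg (fun m => m.factorization p) hG
    simp only [Nat.factorization_mul hd0 Nat.card_pos.ne', Finsupp.add_apply] at h3
    rw [h1, zero_add, Nat.factorization_mul (by omega) (fun h => hndvd (by rw [h]; exact dvd_zero p)),
      Finsupp.add_apply, Nat.factorization_eq_zero_of_not_dvd hndvd, add_zero,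
      Nat.factorization_pow, Finsupp.smul_apply, hp.factorization_self, smul_eq_mul, mul_one] at h3
    exact h3
  exact ⟨Sylow.ofCard (uppHom F).range (by rw [hc, hfac]), Sylow.coe_ofCard _ _⟩

end Cfsg.Agent.Dickson
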