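import Cfsg.Agent.Lib.Dickson.Solubilizer
import Cfsg.Agent.S0805

/-!
Solubilizers in `PSL₂(3^p)`, `p` an odd prime.
-/

set_option autoImplicit false
set_option linter.unusedSectionVars false

namespace Cfsg.Agent.Dickson

open Matrix MulAction OnePoint
open scoped MatrixGroups

attribute [local instance] Cfsg.Agent.PLocalB.lineAction pslLine

variable {F : Type*} [Field F] [Fintype F]

/-- The three kinds of proper subgroup. -/
def CaseThree (H : Subgroup (PSL2 F)) : Prop :=
  (∃ w : OnePoint F, H ≤ stabilizer (PSL2 F) w) ∨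
    (∃ (N : Subgroup (PSL2 F)) (n : ℕ), IsTorusNorm N n ∧ H ≤ N) ∨
    ∀ g ∈ H, g ^ 2 = 1 ∨ g ^ 3 = 1

theorem small_of_A4 {H : Subgroup (PSL2 F)} (h : Nonempty (H ≃* alternatingGroup (Fin 4))) :
    ∀ g ∈ H, g ^ 2 = 1 ∨ g ^ 3 = 1 := fun g hg => by
  obtain ⟨e⟩ := h
  rcases A4_pow (e ⟨g, hg⟩) with h | h <;> rw [← map_pow, MulEquiv.map_eq_one_iff] at h
  · exact Or.inl (congrArg Subtype.val h)
  · exact Or.inr (congrArg Subtype.val h)

theorem cases_three {p : ℕ} (hp : p.Prime) (hodd : Odd p) (hF : Fintype.card F = 3 ^ p) [CharP F 3]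
    (H : Subgroup (PSL2 F)) (hH : H ≠ ⊤) : CaseThree H := by
  haveI : Fact (Nat.Prime 3) := ⟨Nat.prime_three⟩
  rcases subgroup_cases 3 H with h | h | h | h | h | ⟨T, hT⟩
  · exact Or.inl h
  · exact Or.inr (Or.inl h)
  · exact Or.inr (Or.inr (small_of_A4 h))
  · exfalso
    have h16 := sq_mod_of_S4 H h
    obtain ⟨j, rfl⟩ := hodd
    rw [hF, ← pow_mul, show (2 * j + 1) * 2 = 4 * j + 2 by ring, pow_add, pow_mul, Nat.mul_mod,
      Nat.pow_mod] at h16
    norm_num at h16
  · exfalso
    have h5 := five_dvd_of_A5 H h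
    obtain ⟨j, rfl⟩ := hodd
    rw [hF, ← pow_mul] at h5
    rcases Nat.prime_five.dvd_mul.mp h5 with h' | h'
    · exact absurd (Nat.prime_five.dvd_of_dvd_pow h') (by norm_num)
    · have h1 : 3 ^ ((2 * j + 1) * 2) % 5 = 4 := by
        rw [show (2 * j + 1) * 2 = 4 * j + 2 by ring, pow_add, pow_mul, Nat.mul_mod, Nat.pow_mod]
        norm_num
      have := Nat.one_le_pow ((2 * j + 1) * 2) 3 (by norm_num)
      omega
  · obtain ⟨m, hm, hTm, -⟩ := big_proper hT hH
    have hTm' := hTm
    rw [hF] at hTm'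
    obtain ⟨a, -, ha⟩ := (Nat.dvd_prime_pow Nat.prime_three).mp
      ((dvd_pow_self (Nat.card T) (show m ≠ 0 by omega)).trans (dvd_of_eq hTm'))
    rw [ha, ← pow_mul] at hTm'
    have ham : a * m = p := Nat.pow_right_injective (by norm_num) hTm'
    rcases hp.eq_one_or_self_of_dvd a ⟨m, ham.symm⟩ with h | h
    · rw [h, one_mul] at ham
      rw [h, pow_one] at ha
      haveI : Fintype T := Fintype.ofFinite T
      rcases card_big hT with ⟨-, ⟨e⟩⟩ | ⟨-, hpgl⟩
      · obtain ⟨e'⟩ := LinearGroup.psl_two_small (F := T) (Or.inl ha)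
        rw [ha] at e'
        exact Or.inr (Or.inr (small_of_A4 ⟨e.trans e'⟩))
      · exfalso
        rw [Nat.card_eq_fintype_card] at hTm
        exact Nat.not_even_iff_odd.mpr hodd (ham ▸
          (Cfsg.Agent.S0805.result rfl (hF ▸ Odd.pow (by decide)) m (by omega) hTm).2.mp ⟨H, hpgl⟩)
    · exfalso
      rw [h] at ham
      have := Nat.eq_of_mul_eq_mul_left hp.pos (ham.trans (mul_one p).symm)
      omega

theorem str_small [CharP F 3] {B : SL(2, F)}
    (h : (QuotientGroup.mk B : PSL2 F) ^ 2 = 1 ∨ (QuotientGroup.mk B : PSL2 F) ^ 3 = 1) :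
    str B = 0 ∨ str B ^ 2 = 1 := by
  haveI : Fact (Nat.Prime 2) := ⟨Nat.prime_two⟩
  haveI : Fact (Nat.Prime 3) := ⟨Nat.prime_three⟩
  have h3 : (3 : F) = 0 := by exact_mod_cast CharP.cast_eq_zero F 3
  by_cases h1 : (QuotientGroup.mk B : PSL2 F) = 1
  · right
    rcases eq_or_eq_neg_of_isScalar ((SL2Tor.psl_mk_eq_one_iff B).mp h1) with e | e <;> rw [e] <;>
      simp [str] <;> first
        | (right; linear_combination h3)
        | linear_combination h3
        | (left; linear_combination h3)
  rcases h with h | h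
  · exact Or.inl (str_eq_zero_of_orderOf (orderOf_eq_prime h h1))
  · right
    obtain ⟨A, hA, hA1⟩ := lift_three (orderOf_eq_prime h h1)
    rcases mk_eq_mk_iff.mp hA.symm with e | e
    · rw [e, hA1, neg_one_sq]
    · rw [e, str_neg, hA1, neg_neg, one_pow]

theorem coprime_six {k : ℕ} (h : Nat.Coprime k 3) {G : Type*} [Group G] {g : G} (hg : orderOf g = k)
    (h' : g ^ 2 = 1 ∨ g ^ 3 = 1) : g ^ 2 = 1 := by
  rcases h' with h' | h3
  · exact h'
  have hd := Nat.dvd_gcd (dvd_refl k) (hg ▸ orderOf_dvd_of_pow_eq_one h3)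
  rw [h] at hd
  rw [orderOf_eq_one_iff.mp (hg.trans (Nat.dvd_one.mp hd)), one_pow]

theorem card_sol_unipotent_three [CharP F 3] (hG : MinSimple (PSL2 F))
    (hcases : ∀ H : Subgroup (PSL2 F), H ≠ ⊤ → CaseThree H) (hodd : Fintype.card F % 2 = 1)
    {T : Subfield F} (hT2 : Nat.card T ^ 2 ≤ Fintype.card F)
    {x : PSL2 F} (hx : orderOf x = 3) :
    2 * Nat.card {y : PSL2 F // SolPair x y} = Fintype.card F * (Fintype.card F + 5) := by
  classical
  haveI : Fact (Nat.Prime 3) := ⟨Nat.prime_three⟩
  have h3 : (3 : F) = 0 := by exact_mod_cast CharP.cast_eq_zero F 3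
  have h2F : (2 : F) ≠ 0 := fun e => one_ne_zero (α := F) (by linear_combination h3 - e)
  obtain ⟨c, b, hb, hc⟩ := exists_conj_upper 3 (orderOf_dvd_iff_pow_eq_one.mp (dvd_of_eq hx))
    (fun e => by rw [e, orderOf_one] at hx; omega)
  rw [← card_sol_conj x c, hc]
  set u : PSL2 F := QuotientGroup.mk (PLocalB.upper b) with hu
  have hord : orderOf u = 3 := by
    rw [← hc, show c * x * c⁻¹ = MulAut.conj c x from rfl, MulEquiv.orderOf_eq, hx]
  have hub : str (PLocalB.upper b) = 2 := by
    simp [str, trace_fin_two, PLocalB.upper]; ring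
  have hmul : ∀ A : SL(2, F), str (PLocalB.upper b * A) = str A + b * A 1 0 := fun A => by
    rw [str, Matrix.SpecialLinearGroup.coe_mul]
    simp [str, trace_fin_two, PLocalB.upper, Matrix.mul_apply, Matrix.vecMul, dotProduct, Fin.sum_univ_two]
    ring
  have hfix : ∀ w : OnePoint F, u • w = w → w = ∞ := fun w hw =>
    (((isUni_infty_iff (A := PLocalB.upper b) rfl).mpr (by simp [PLocalB.upper])).resolve_left
      (fun e => by rw [← hu] at e; rw [e, orderOf_one] at hord; omega) w).mp hw
  let V : Finset F := {0, 1, -1}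
  have hVmem : ∀ t : F, t ∈ V ↔ (t = 0 ∨ t ^ 2 = 1) := fun t => by
    simp [V]
  let S : Finset (F × F) := V.offDiag.image fun z => (z.1, (z.2 - z.1) / b)
  have hS : ∀ t c : F, (t, c) ∈ S ↔ t ∈ V ∧ t + b * c ∈ V ∧ c ≠ 0 := by
    intro t c
    simp only [S, Finset.mem_image, Finset.mem_offDiag, Prod.mk.injEq]
    constructor
    · rintro ⟨⟨z1, z2⟩, ⟨h1, h2, h12⟩, rfl, rfl⟩
      refine ⟨h1, ?_, div_ne_zero (sub_ne_zero.mpr (Ne.symm h12)) hb⟩
      convert h2 using 1
      field_simp; ring
    · rintro ⟨h1, h2, hc0⟩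
      refine ⟨(t, t + b * c), ⟨h1, h2, fun e => ?_⟩, rfl, by simp; field_simp⟩
      exact mul_ne_zero hb hc0 (by linear_combination -e)
  have hcS : S.card = 6 := by
    rw [Finset.card_image_of_injective _ (fun z z' h => by
      simp only [Prod.mk.injEq] at h
      obtain ⟨h1, h2⟩ := h
      rw [div_left_inj' hb, h1, sub_left_inj] at h2
      exact Prod.ext h1 h2), Finset.offDiag_card]
    have : V.card = 3 := by
      refine Finset.card_eq_three.mpr ⟨0, 1, -1, zero_ne_one, ?_, ?_, rfl⟩
      · exact (neg_ne_zero.mpr one_ne_zero).symm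
      · exact fun e => h2F (by linear_combination e)
    rw [this]
  have hTV : ∀ t ∈ V, t ∈ T := fun t ht => by
    rcases Finset.mem_insert.mp ht with rfl | ht
    · exact zero_mem _
    rcases Finset.mem_insert.mp ht with rfl | ht
    · exact one_mem _
    rw [Finset.mem_singleton.mp ht]; exact neg_mem (one_mem _)
  have key : ∀ A : SL(2, F), SolPair u (QuotientGroup.mk A) ↔ A 1 0 = 0 ∨ (str A, A 1 0) ∈ (S : Set (F × F)) := by
    intro A
    rw [Finset.mem_coe, hS]
    constructor
    · intro hy
      by_cases h10 : A 1 0 = 0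
      · exact Or.inl h10
      right
      have hxH : u ∈ Subgroup.closure ({u, QuotientGroup.mk A} : Set (PSL2 F)) := Subgroup.subset_closure (Or.inl rfl)
      have hyH : (QuotientGroup.mk A : PSL2 F) ∈ Subgroup.closure ({u, QuotientGroup.mk A} : Set (PSL2 F)) :=
        Subgroup.subset_closure (Or.inr rfl)
      rcases hcases _ (closure_ne_top hG hy) with ⟨w, hw⟩ | ⟨N, n, ⟨hn2, ⟨e⟩, -, hn⟩, hle⟩ | hsm
      · have hw' : (QuotientGroup.mk A : PSL2 F) • w = w := hw hyH
        rw [hfix w (hw hxH)] at hw'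
        exact absurd ((PLocalB.smul_infty_iff A).mp hw') h10
      · exfalso
        haveI : NeZero n := ⟨by omega⟩
        have hox : orderOf (e ⟨u, hle hxH⟩) = 3 := by rw [MulEquiv.orderOf_eq, Subgroup.orderOf_mk, hord]
        have h3n : 3 ∣ n := by
          rcases hi : e ⟨u, hle hxH⟩ with i | i <;> rw [hi] at hox
          · rw [← hox, DihedralGroup.orderOf_r]; exact Nat.div_dvd_of_dvd (Nat.gcd_dvd_left _ _)
          · rw [DihedralGroup.orderOf_sr] at hox; omega
        obtain ⟨k, -, hk⟩ := FiniteField.card F 3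
        have h3q : 3 ∣ Fintype.card F := hk ▸ dvd_pow_self 3 k.pos.ne'
        rcases hn with hn | hn <;>
          have h3' : 3 ∣ Nat.gcd 2 (Fintype.card F - 1) * n := dvd_mul_of_dvd_right h3n _ <;>
          rw [hn] at h3' <;> omega
      · refine ⟨(hVmem _).mpr (str_small (hsm _ hyH)), (hVmem _).mpr ?_, h10⟩
        rw [← hmul]
        exact str_small (hsm _ (mul_mem hxH hyH : (QuotientGroup.mk (PLocalB.upper b * A) : PSL2 F) ∈ _))
    · rintro (h | ⟨ht, htu, hc0⟩)
      · exact solPair_of_mem hG (stabilizer_point_ne_top (∞ : OnePoint F))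
          ((PLocalB.smul_infty_iff (PLocalB.upper b)).mpr rfl) ((PLocalB.smul_infty_iff A).mpr h)
      · obtain ⟨t, htd⟩ : ∃ t : T, (t : F) = str A := ⟨⟨_, hTV _ ht⟩, rfl⟩
        obtain ⟨v, hvd⟩ : ∃ v : T, (v : F) = b * A 1 0 :=
          ⟨⟨_, by have := sub_mem (hTV _ htu) (hTV _ ht); rwa [add_sub_cancel_left] at this⟩, rfl⟩
        have hv0 : v ≠ 0 := fun e => mul_ne_zero hb hc0 (by rw [← hvd, e]; rfl)
        have hX : (!![1, 1; 0, 1] : Matrix (Fin 2) (Fin 2) T).det = 1 := by simp [det_fin_two_of]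
        have hY : (!![0, -v⁻¹; v, t] : Matrix (Fin 2) (Fin 2) T).det = 1 := by simp [det_fin_two_of, hv0]
        let X' := GeneralLinearGroup.map (n := Fin 2) T.subtype
          (GeneralLinearGroup.mkOfDetNeZero _ (hX.trans_ne one_ne_zero))
        let Y' := GeneralLinearGroup.map (n := Fin 2) T.subtype
          (GeneralLinearGroup.mkOfDetNeZero _ (hY.trans_ne one_ne_zero))
        obtain ⟨D, h1, h1'⟩ := conj_into_gen (pglImage T) (PLocalB.upper b) A one_ne_zero X' Y'
          ⟨_, ProjGenLinGroup.map_mk _ _⟩ ⟨_, ProjGenLinGroup.map_mk _ _⟩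
          (by
            show _ = (1 : F) * str (PLocalB.upper b)
            rw [hub]
            simp [X', trace_fin_two, GeneralLinearGroup.mkOfDetNeZero, GeneralLinearGroup.map]
            ring)
          (by simp [X', det_fin_two, GeneralLinearGroup.mkOfDetNeZero, GeneralLinearGroup.map])
          (by
            show _ = str A
            simp [Y', trace_fin_two, GeneralLinearGroup.mkOfDetNeZero, GeneralLinearGroup.map, htd])
          (by
            have : (v : F) ≠ 0 := fun e => hv0 (Subtype.ext e)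
            simp [Y', det_fin_two, GeneralLinearGroup.mkOfDetNeZero, GeneralLinearGroup.map, this])
          (by
            show _ = (1 : F) * str (PLocalB.upper b * A)
            rw [hmul, ← hvd, ← htd]
            simp [X', Y', trace_fin_two, Matrix.mul_apply, Fin.sum_univ_two,
              GeneralLinearGroup.mkOfDetNeZero, GeneralLinearGroup.map]
            ring)
          (by
            show str (PLocalB.upper b * A) ^ 2 - str (PLocalB.upper b) * str A * str (PLocalB.upper b * A) +
              str (PLocalB.upper b) ^ 2 + str A ^ 2 ≠ 4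
            rw [hub, hmul]
            intro e
            have : (b * A 1 0) ^ 2 = 0 := by linear_combination e
            exact mul_ne_zero hb hc0 (pow_eq_zero_iff two_ne_zero |>.mp this))
        exact solPair_of_subfield hG hT2 h1 h1'
  have hd : Nat.gcd 2 (Fintype.card F - 1) = 2 :=
    Nat.gcd_eq_left (Nat.dvd_of_mod_eq_zero (by have := Fintype.one_lt_card (α := F); omega))
  have := card_preimage (fun y => SolPair u y)
  rw [hd, Nat.card_congr (Equiv.subtypeEquivRight key), card_upper_count _ (fun z hz => ((hS z.1 z.2).mp hz).2.2),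
    Nat.card_coe_set_eq, Set.ncard_coe_finset, hcS] at this
  rw [← this]
  have hq1 := Fintype.one_lt_card (α := F)
  obtain ⟨k, hk⟩ : ∃ k, Fintype.card F = k + 1 := ⟨Fintype.card F - 1, by omega⟩
  rw [hk, Nat.add_sub_cancel]; ring

theorem card_sol_involution_three [CharP F 3] (hG : MinSimple (PSL2 F))
    (hcases : ∀ H : Subgroup (PSL2 F), H ≠ ⊤ → CaseThree H) (hns : ¬ IsSquare (-1 : F))
    {T : Subfield F} (hT2 : Nat.card T ^ 2 ≤ Fintype.card F) {x : PSL2 F} (hx : orderOf x = 2) :
    Nat.card {y : PSL2 F // SolPair x y} = Fintype.card F * (Fintype.card F + 1) := by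
  classical
  have h3 : (3 : F) = 0 := by exact_mod_cast CharP.cast_eq_zero F 3
  have h2F : (2 : F) ≠ 0 := fun e => one_ne_zero (α := F) (by linear_combination h3 - e)
  obtain ⟨J, hJ⟩ : ∃ J : SL(2, F), (J : Matrix (Fin 2) (Fin 2) F) = !![0, -1; 1, 0] :=
    ⟨⟨_, by simp [det_fin_two_of]⟩, rfl⟩
  have hJ0 : str J = 0 := by simp [str, trace_fin_two, hJ]
  have hJord : orderOf (QuotientGroup.mk J : PSL2 F) = 2 := by
    haveI : Fact (Nat.Prime 2) := ⟨Nat.prime_two⟩
    refine orderOf_eq_prime (by rw [pow_two]; exact two_ne_one_iff hJ0) fun e => ?_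
    have := ((SL2Tor.psl_mk_eq_one_iff J).mp e).2.1
    simp [hJ] at this
  obtain ⟨c, hc⟩ := isConj_involutions h2F hx hJord
  rw [← card_sol_conj x c, hc]
  set j : PSL2 F := QuotientGroup.mk J with hj
  have hjj : j * j = 1 := two_ne_one_iff hJ0
  have hmul : ∀ A : SL(2, F), str (J * A) = A 0 1 - A 1 0 := fun A => by
    rw [str, Matrix.SpecialLinearGroup.coe_mul, hJ]
    simp [trace_fin_two, Matrix.mul_apply, Fin.sum_univ_two, Matrix.vecMul, dotProduct]
    ring
  have haniso : ∀ a b : F, a ^ 2 + b ^ 2 = 0 → a = 0 ∧ b = 0 := fun a b h => by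
    by_cases hb : b = 0
    · rw [hb, zero_pow two_ne_zero, add_zero, pow_eq_zero_iff two_ne_zero] at h
      exact ⟨h, hb⟩
    · exact absurd ⟨a / b, by field_simp; linear_combination -h⟩ hns
  have hnofix : ∀ w : OnePoint F, j • w ≠ w := by
    intro w hw
    induction w using OnePoint.rec with
    | infty =>
      have := (PLocalB.smul_infty_iff J).mp hw
      simp [hJ] at this
    | coe z =>
      rw [hj, mk_smul, PLocalB.smul_coe_eq, hJ] at hw
      simp at hw
      split at hw
      · exact OnePoint.infty_ne_coe _ hw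
      · next hz =>
        have h := OnePoint.coe_eq_coe.mp hw
        refine hns ⟨z, ?_⟩
        field_simp at h
        linear_combination h
  let R : F × F → Prop := fun z => z.1 ^ 2 + z.2 ^ 2 = 4
  let P : F × F → Prop := fun z => z.1 = 0 ∨ z.2 = 0 ∨ R z ∨ (z.1 ^ 2 = 1 ∧ z.2 ^ 2 = 1)
  have key : ∀ A : SL(2, F), SolPair j (QuotientGroup.mk A) ↔ P (str A, A 0 1 - A 1 0) := by
    intro A
    have hd := PLocalB.det_entries A
    constructor
    · intro hy
      have hxH : j ∈ Subgroup.closure ({j, QuotientGroup.mk A} : Set (PSL2 F)) := Subgroup.subset_closure (Or.inl rfl)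
      have hyH : (QuotientGroup.mk A : PSL2 F) ∈ Subgroup.closure ({j, QuotientGroup.mk A} : Set (PSL2 F)) :=
        Subgroup.subset_closure (Or.inr rfl)
      rcases hcases _ (closure_ne_top hG hy) with ⟨w, hw⟩ | ⟨N, n, ⟨hn2, ⟨e⟩, -, -⟩, hle⟩ | hsm
      · exact absurd (hw hxH) (hnofix w)
      · haveI : NeZero n := ⟨by omega⟩
        have hox : orderOf (e ⟨j, hle hxH⟩) = 2 := by rw [MulEquiv.orderOf_eq, Subgroup.orderOf_mk, hJord]
        have hmule : e ⟨j, hle hxH⟩ * e ⟨QuotientGroup.mk A, hle hyH⟩ =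
            e ⟨QuotientGroup.mk (J * A), mul_mem (hle hxH) (hle hyH)⟩ := by
          rw [← map_mul]; rfl
        rcases hj' : e ⟨QuotientGroup.mk A, hle hyH⟩ with l | l
        · rcases hi : e ⟨j, hle hxH⟩ with i | i
          · -- commuting
            have hcomm : e ⟨j, hle hxH⟩ * e ⟨QuotientGroup.mk A, hle hyH⟩ =
                e ⟨QuotientGroup.mk A, hle hyH⟩ * e ⟨j, hle hxH⟩ := by
              rw [hi, hj', DihedralGroup.r_mul_r, DihedralGroup.r_mul_r, add_comm i l]
            rw [← map_mul, ← map_mul] at hcomm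
            have h : (QuotientGroup.mk (J * A) : PSL2 F) = QuotientGroup.mk (A * J) :=
              congrArg Subtype.val (e.injective hcomm)
            rcases mk_eq_mk_iff.mp h with h | h <;>
              have h' := congrArg (fun M : SL(2, F) => ((M : Matrix (Fin 2) (Fin 2) F) 0 0, (M : Matrix (Fin 2) (Fin 2) F) 0 1)) h <;>
              simp [Matrix.mul_apply, Matrix.vecMul, dotProduct, Fin.sum_univ_two, hJ, Matrix.SpecialLinearGroup.coe_neg] at h' <;>
              obtain ⟨e1, e2⟩ := h'
            · refine Or.inr (Or.inr (Or.inl ?_))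
              show str A ^ 2 + (A 0 1 - A 1 0) ^ 2 = 4
              rw [str, trace_fin_two]
              have e1' : A 0 1 + A 1 0 = 0 := by first | linear_combination e1 | linear_combination -e1
              have e2' : A 0 0 - A 1 1 = 0 := by first | linear_combination e2 | linear_combination -e2
              linear_combination 4 * hd + (A 0 1 + A 1 0) * e1' + (A 0 0 - A 1 1) * e2'
            · left
              show str A = 0
              rw [str, trace_fin_two]
              first | linear_combination e2 | linear_combination -e2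
          · right; left
            show A 0 1 - A 1 0 = 0
            rw [← hmul]
            refine str_eq_zero_of_orderOf ?_
            have hJA : (QuotientGroup.mk (J * A) : PSL2 F) ∈ N := mul_mem (hle hxH) (hle hyH)
            rw [← Subgroup.orderOf_mk (QuotientGroup.mk (J * A) : PSL2 F) hJA,
              ← MulEquiv.orderOf_eq e, ← hmule, hi, hj', DihedralGroup.sr_mul_r, DihedralGroup.orderOf_sr]
        · left
          refine str_eq_zero_of_orderOf ?_
          rw [← Subgroup.orderOf_mk (H := N) _ (hle hyH), ← MulEquiv.orderOf_eq e, hj', DihedralGroup.orderOf_sr]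
      · rcases str_small (hsm _ hyH) with h1 | h1
        · exact Or.inl h1
        rcases str_small (hsm _ (mul_mem hxH hyH : (QuotientGroup.mk (J * A) : PSL2 F) ∈ _)) with h2 | h2 <;>
          rw [hmul] at h2
        · exact Or.inr (Or.inl h2)
        · exact Or.inr (Or.inr (Or.inr ⟨h1, h2⟩))
    · rintro (h | h | h | ⟨h1, h2⟩)
      · exact solPair_involutions hG hjj (two_ne_one_iff h)
      · refine solPair_mul (solPair_involutions hG hjj ?_)
        rw [hj, ← QuotientGroup.mk_mul]
        exact two_ne_one_iff ((hmul A).trans h)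
      · have h' : str A ^ 2 + (A 0 1 - A 1 0) ^ 2 = 4 := h
        rw [str, trace_fin_two] at h'
        obtain ⟨e1, e2⟩ := haniso (A 0 0 - A 1 1) (A 0 1 + A 1 0) (by linear_combination h' - 4 * hd)
        refine solPair_comm hG ?_
        rw [hj, ← QuotientGroup.mk_mul, ← QuotientGroup.mk_mul]
        congr 1
        apply Subtype.ext
        rw [Matrix.SpecialLinearGroup.coe_mul, Matrix.SpecialLinearGroup.coe_mul, hJ]
        ext i k
        fin_cases i <;> fin_cases k <;> simp [Matrix.mul_apply, Matrix.vecMul, dotProduct, Fin.sum_univ_two] <;>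
          first
            | linear_combination e1
            | linear_combination -e1
            | linear_combination e2
            | linear_combination -e2
      · have hmem : ∀ t : F, t ^ 2 = 1 → t ∈ T := fun t ht => by
          rcases sq_eq_one_iff.mp ht with e | e <;> rw [e]
          · exact one_mem _
          · exact neg_mem (one_mem _)
        obtain ⟨D, hD1, hD2⟩ := conj_into T h2F J A one_ne_zero hJ0 (by simp [one_mem]) (hmem _ h1)
          (by rw [one_mul]; exact hmem _ (by rw [show ((J * A : SL(2, F)) : Matrix (Fin 2) (Fin 2) F).trace = _ from hmul A]; exact h2))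
          (by
            rw [show ((J * A : SL(2, F)) : Matrix (Fin 2) (Fin 2) F).trace = _ from hmul A]
            intro e
            exact h2F (by linear_combination h1 + h2 - e))
        exact solPair_of_subfield hG hT2 hD1 hD2
  -- the count in `SL₂`
  have hcirc := fun d (hd : d ≠ 0) => card_circle hns (c := (d : F)) hd
  have e : {A : SL(2, F) // P (str A, A 0 1 - A 1 0)} ≃
      Σ z : {z : F × F // P z}, {w : F × F // w.1 ^ 2 + w.2 ^ 2 = z.1.1 ^ 2 + z.1.2 ^ 2 - 4} :=
    { toFun := fun A => ⟨⟨_, A.2⟩, (2 * A.1 0 0 - str A.1, 2 * A.1 0 1 - (A.1 0 1 - A.1 1 0)), by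
        have hd := PLocalB.det_entries A.1
        simp only [str, trace_fin_two]
        linear_combination -4 * hd⟩
      invFun := fun x => ⟨⟨!![(x.2.1.1 + x.1.1.1) / 2, (x.2.1.2 + x.1.1.2) / 2;
          (x.2.1.2 + x.1.1.2) / 2 - x.1.1.2, x.1.1.1 - (x.2.1.1 + x.1.1.1) / 2], by
            have := x.2.2
            rw [det_fin_two_of]; field_simp
            linear_combination -this⟩, by
          have := x.1.2
          show P _
          refine (congrArg P (Prod.ext ?_ ?_)).mpr this <;> simp [str, trace_fin_two]⟩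
      left_inv := by
        rintro ⟨A, hA⟩
        apply Subtype.ext; apply Subtype.ext
        ext i k
        fin_cases i <;> fin_cases k <;> simp [str, trace_fin_two] <;> field_simp <;> ring
      right_inv := by
        rintro ⟨⟨⟨t, v⟩, hz⟩, ⟨⟨w1, w2⟩, hw⟩⟩
        refine Sigma.subtype_ext (Subtype.ext (Prod.ext ?_ ?_)) (Prod.ext ?_ ?_) <;>
          simp [str, trace_fin_two] <;> field_simp <;> ring }
  have hPR : ∀ z, R z → P z := fun z h => Or.inr (Or.inr (Or.inl h))
  have hzero : ∀ z : F × F, R z → Nat.card {w : F × F // w.1 ^ 2 + w.2 ^ 2 = z.1 ^ 2 + z.2 ^ 2 - 4} = 1 := by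
    intro z hz
    refine Nat.card_eq_one_iff_unique.mpr ⟨⟨fun a b => ?_⟩, ⟨⟨0, by rw [show z.1 ^ 2 + z.2 ^ 2 = 4 from hz]; simp⟩⟩⟩
    have h4 : z.1 ^ 2 + z.2 ^ 2 = 4 := hz
    obtain ⟨a1, a2⟩ := haniso _ _ (a.2.trans (sub_eq_zero.mpr h4))
    obtain ⟨b1, b2⟩ := haniso _ _ (b.2.trans (sub_eq_zero.mpr h4))
    exact Subtype.ext (Prod.ext (a1.trans b1.symm) (a2.trans b2.symm))
  let Q : Finset (F × F) := Finset.univ.filter fun z => P z ∧ ¬ R z
  let R' : Finset (F × F) := Finset.univ.filter R
  have hR' : R'.card = Fintype.card F + 1 := by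
    rw [← hcirc 4 (by rw [show (4 : F) = 2 * 2 by norm_num]; exact mul_ne_zero h2F h2F),
      Nat.card_eq_fintype_card, Fintype.card_subtype]
  have hQ : Q.card = 2 * Fintype.card F - 1 := by
    have e1 : Q = (((Finset.univ : Finset F).erase 1).erase (-1)).image (fun u => ((0 : F), u)) ∪
        ((((Finset.univ : Finset F).erase 1).erase (-1)).erase 0).image (fun t => (t, (0 : F))) ∪
        (({1, -1} : Finset F) ×ˢ ({1, -1} : Finset F)) := by
      ext ⟨t, v⟩
      simp only [Q, P, R, Finset.mem_filter, Finset.mem_univ, true_and, Finset.mem_union, Finset.mem_image,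
        Finset.mem_erase, Finset.mem_product, Finset.mem_insert, Finset.mem_singleton, and_true,
        Prod.mk.injEq, ← sq_eq_one_iff]
      have h41 : (4 : F) = 1 := by linear_combination h3
      have hsq : ∀ s : F, (s ≠ -1 ∧ s ≠ 1) ↔ s ^ 2 ≠ 1 := fun s => by rw [ne_eq (s ^ 2), sq_eq_one_iff]; tauto
      constructor
      · rintro ⟨h | h | h | ⟨h1, h2⟩, hR⟩
        · refine Or.inl (Or.inl ⟨v, (hsq v).mpr fun e => hR ?_, h.symm, rfl⟩)
          rw [h, h41]; linear_combination e
        · by_cases ht : t = 0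
          · refine Or.inl (Or.inl ⟨v, (hsq v).mpr fun e => hR ?_, ht.symm, rfl⟩)
            rw [ht, h41]; linear_combination e
          refine Or.inl (Or.inr ⟨t, ⟨ht, (hsq t).mpr fun e => hR ?_⟩, rfl, h.symm⟩)
          rw [h, h41]; linear_combination e
        · exact absurd h hR
        · exact Or.inr ⟨h1, h2⟩
      · rintro ((⟨u, hu, rfl, rfl⟩ | ⟨s, ⟨hs0, hs⟩, rfl, rfl⟩) | ⟨h1, h2⟩)
        · refine ⟨Or.inl rfl, fun h => (hsq _).mp hu ?_⟩
          linear_combination h + h41
        · refine ⟨Or.inr (Or.inl rfl), fun h => (hsq _).mp hs ?_⟩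
          linear_combination h + h41
        · refine ⟨Or.inr (Or.inr (Or.inr ⟨h1, h2⟩)), fun h => h2F ?_⟩
          linear_combination h1 + h2 - h
    have h1 : ((1 : F)) ≠ -1 := fun e => h2F (by linear_combination e)
    have hc2 : ({1, -1} : Finset F).card = 2 := Finset.card_pair h1
    rw [e1, Finset.card_union_of_disjoint, Finset.card_union_of_disjoint,
      Finset.card_image_of_injective _ (fun a b h => (Prod.mk.injEq _ _ _ _ ▸ h).2),
      Finset.card_image_of_injective _ (fun a b h => (Prod.mk.injEq _ _ _ _ ▸ h).1),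
      Finset.card_product, hc2]
    · rw [Finset.card_erase_of_mem (show (0 : F) ∈ _ by simp), Finset.card_erase_of_mem (show (-1 : F) ∈ _ by simp [h1.symm]),
        Finset.card_erase_of_mem (Finset.mem_univ _), Finset.card_univ]
      have h4 : 3 ≤ Fintype.card F := by
        have := Finset.card_le_univ ({0, 1, -1} : Finset F)
        rwa [Finset.card_eq_three.mpr ⟨0, 1, -1, zero_ne_one, (neg_ne_zero.mpr one_ne_zero).symm, h1, rfl⟩] at this
      omega
    · rw [Finset.disjoint_left]; simp; grind
    · rw [Finset.disjoint_left]; simp; grind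
  have hcnt : Nat.card {A : SL(2, F) // P (str A, A 0 1 - A 1 0)} = 2 * Fintype.card F * (Fintype.card F + 1) := by
    rw [Nat.card_congr e, Nat.card_sigma, ← Finset.sum_subtype (Finset.univ.filter P) (by simp)
      (fun z : F × F => Nat.card {w : F × F // w.1 ^ 2 + w.2 ^ 2 = z.1 ^ 2 + z.2 ^ 2 - 4})]
    rw [show (Finset.univ.filter P) = R' ∪ Q from Finset.ext fun z => by
        simp [R', Q]; exact ⟨fun h => (em (R z)).imp_right fun hn => ⟨h, hn⟩, fun h => h.elim (hPR z) And.left⟩,
      Finset.sum_union (Finset.disjoint_left.mpr fun z h1 h2 => by simp [R', Q] at h1 h2; exact h2.2 h1),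
      Finset.sum_congr rfl (fun z hz => hzero z (Finset.mem_filter.mp hz).2),
      Finset.sum_congr rfl (fun z hz => hcirc _ (sub_ne_zero.mpr (Finset.mem_filter.mp hz).2.2)),
      Finset.sum_const, Finset.sum_const, smul_eq_mul, smul_eq_mul, hR', hQ]
    have hq1 := Fintype.one_lt_card (α := F)
    obtain ⟨k, hk⟩ : ∃ k, Fintype.card F = k + 1 := ⟨Fintype.card F - 1, by omega⟩
    rw [hk, show 2 * (k + 1) - 1 = 2 * k + 1 by omega]; ring
  have hd2 : Nat.gcd 2 (Fintype.card F - 1) = 2 := by
    rcases d_even_or_odd (F := F) with ⟨-, h⟩ | ⟨h, -⟩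
    · exfalso
      have : ringChar F = 2 := FiniteField.even_card_iff_char_two.mpr h
      exact h2F (by exact_mod_cast (ringChar.spec F 2).mpr (by rw [this]))
    · exact h
  have := card_preimage (fun y => SolPair j y)
  rw [hd2, Nat.card_congr (Equiv.subtypeEquivRight key), hcnt, mul_assoc] at this
  exact (Nat.eq_of_mul_eq_mul_left two_pos this).symm

end Cfsg.Agent.Dickson
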