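import Cfsg.Agent.Lib.Dickson.Solubilizer

/-!
Solubilizers in `PSL₂(2^p)`.
-/

set_option autoImplicit false
set_option linter.unusedSectionVars false

namespace Cfsg.Agent.Dickson

open Matrix MulAction OnePoint
open scoped MatrixGroups

attribute [local instance] Cfsg.Agent.PLocalB.lineAction pslLine

variable {F : Type*} [Field F] [Fintype F]

theorem cases_two {p : ℕ} (hp : p.Prime) (hF : Fintype.card F = 2 ^ p) [CharP F 2]
    (H : Subgroup (PSL2 F)) (hH : H ≠ ⊤) :
    (∃ w : OnePoint F, H ≤ stabilizer (PSL2 F) w) ∨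
      (∃ (N : Subgroup (PSL2 F)) (n : ℕ), IsTorusNorm N n ∧ H ≤ N) := by
  haveI : Fact (Nat.Prime 2) := ⟨Nat.prime_two⟩
  rcases subgroup_cases 2 H with h | h | h | h | h | ⟨T, hT⟩
  · exact Or.inl h
  · exact Or.inr h
  · left
    obtain ⟨e⟩ := h
    obtain ⟨a, b, haM, hbM, ha, -, -, hgen⟩ := gen_A4 H ⟨e⟩
    have ha2 : a ^ 2 = 1 := orderOf_dvd_iff_pow_eq_one.mp (dvd_of_eq ha)
    have ha1 : a ≠ 1 := fun e' => by rw [e', orderOf_one] at ha; omega
    obtain ⟨c, β, hβ, hc⟩ := exists_conj_upper 2 ha2 ha1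
    refine ⟨c⁻¹ • ∞, hgen _ ?_ ?_⟩
    all_goals
      have hu : IsUni (∞ : OnePoint F) (c * a * c⁻¹) :=
        hc ▸ (isUni_infty_iff rfl).mpr (by simp [PLocalB.upper])
      have ha' : IsUni (c⁻¹ • (∞ : OnePoint F)) a := by
        have := isUni_conj (g := c⁻¹) hu
        simpa [mul_assoc] using this
    · exact ha'.smul_eq
    · have hcomm : a * (b * a * b⁻¹) = b * a * b⁻¹ * a := by
        have key : ∀ u v : alternatingGroup (Fin 4), u ^ 2 = 1 →
            u * (v * u * v⁻¹) = v * u * v⁻¹ * u := by decide +kernel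
        have := key (e ⟨a, haM⟩) (e ⟨b, hbM⟩) (by
          rw [← map_pow, show (⟨a, haM⟩ : H) ^ 2 = 1 from Subtype.ext ha2, map_one])
        rw [← map_inv, ← map_mul, ← map_mul, ← map_mul, ← map_mul] at this
        exact congrArg Subtype.val (e.injective this)
      have hfix := ha'.resolve_left ha1
      have h1 : (b * a * b⁻¹) • (c⁻¹ • (∞ : OnePoint F)) = c⁻¹ • ∞ :=
        (hfix _).mp (by rw [← mul_smul a, hcomm, mul_smul, ha'.smul_eq])
      rw [mul_smul, mul_smul, smul_eq_iff_eq_inv_smul, hfix] at h1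
      exact (inv_smul_eq_iff.mp h1).symm
  · exfalso
    have h16 := sq_mod_of_S4 H h
    have h2 : Fintype.card F ^ 2 % 2 = 0 := by
      rw [hF, Nat.pow_mod, Nat.pow_mod 2 p]
      simp [zero_pow hp.ne_zero]
    omega
  · exfalso
    rcases hp.eq_two_or_odd' with rfl | ⟨j, rfl⟩
    · apply hH
      have hG := card_psl_eq (F := F)
      rw [hF] at hG
      norm_num at hG
      exact Subgroup.eq_top_of_card_eq H (show Nat.card H = Nat.card (PSL2 F) by
        rw [Nat.card_congr h.some.toEquiv, card_A5]; simpa using hG.symm)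
    · have h5 := five_dvd_of_A5 H h
      rw [hF, ← pow_mul] at h5
      rcases Nat.prime_five.dvd_mul.mp h5 with h' | h'
      · exact absurd (Nat.prime_five.dvd_of_dvd_pow h') (by norm_num)
      · have h1 : 2 ^ ((2 * j + 1) * 2) % 5 = 4 := by
          rw [show (2 * j + 1) * 2 = 4 * j + 2 by ring, pow_add, pow_mul, Nat.mul_mod, Nat.pow_mod]
          norm_num
        have := Nat.one_le_two_pow (n := (2 * j + 1) * 2)
        omega
  · exfalso
    obtain ⟨m, hm, hTm, -⟩ := big_proper hT hH
    rw [hF] at hTm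
    obtain ⟨a, -, ha⟩ := (Nat.dvd_prime_pow Nat.prime_two).mp
      ((dvd_pow_self (Nat.card T) (show m ≠ 0 by omega)).trans (dvd_of_eq hTm))
    rw [ha, ← pow_mul] at hTm
    have ham : a * m = p := Nat.pow_right_injective le_rfl hTm
    rcases hp.eq_one_or_self_of_dvd a ⟨m, ham.symm⟩ with h | h
    · have := hT.1; rw [ha, h] at this; omega
    · rw [h] at ham
      have := Nat.eq_of_mul_eq_mul_left hp.pos (ham.trans (mul_one p).symm)
      omega

theorem card_sol_involution_two [CharP F 2] (hG : MinSimple (PSL2 F))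
    (hcases : ∀ H : Subgroup (PSL2 F), H ≠ ⊤ → (∃ w : OnePoint F, H ≤ stabilizer (PSL2 F) w) ∨
      (∃ (N : Subgroup (PSL2 F)) (n : ℕ), IsTorusNorm N n ∧ H ≤ N))
    (heven : Fintype.card F % 2 = 0) {x : PSL2 F} (hx : orderOf x = 2) :
    Nat.card {y : PSL2 F // SolPair x y} = 3 * Fintype.card F * (Fintype.card F - 1) := by
  classical
  haveI : Fact (Nat.Prime 2) := ⟨Nat.prime_two⟩
  obtain ⟨c, b, hb, hc⟩ := exists_conj_upper 2 (orderOf_dvd_iff_pow_eq_one.mp (dvd_of_eq hx))
    (fun e => by rw [e, orderOf_one] at hx; omega)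
  rw [← card_sol_conj x c, hc]
  set u : PSL2 F := QuotientGroup.mk (PLocalB.upper b) with hu
  have h20 : (2 : F) = 0 := CharTwo.two_eq_zero
  have hu2 : str (PLocalB.upper b) = 0 := by
    simp [str, trace_fin_two, PLocalB.upper]; linear_combination h20
  have hord : orderOf u = 2 := by
    rw [← hc, show c * x * c⁻¹ = MulAut.conj c x from rfl, MulEquiv.orderOf_eq, hx]
  have huu : u * u = 1 := two_ne_one_iff hu2
  have hmul : ∀ A : SL(2, F), str (PLocalB.upper b * A) = str A + b * A 1 0 := fun A => by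
    rw [str, Matrix.SpecialLinearGroup.coe_mul]
    simp [str, trace_fin_two, PLocalB.upper, Matrix.mul_apply, Matrix.vecMul, dotProduct, Fin.sum_univ_two]
    ring
  have hfix : ∀ w : OnePoint F, u • w = w → w = ∞ := fun w hw =>
    (((isUni_infty_iff (A := PLocalB.upper b) rfl).mpr (by simp [PLocalB.upper])).resolve_left
      (fun e => by rw [← hu] at e; rw [e, orderOf_one] at hord; omega) w).mp hw
  let S : Set (F × F) := {z | z.2 ≠ 0 ∧ (z.1 = 0 ∨ z.1 + b * z.2 = 0)}
  have key : ∀ A : SL(2, F), SolPair u (QuotientGroup.mk A) ↔ A 1 0 = 0 ∨ (str A, A 1 0) ∈ S := by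
    intro A
    constructor
    · intro hy
      by_cases h10 : A 1 0 = 0
      · exact Or.inl h10
      right
      refine ⟨h10, ?_⟩
      have hxH : u ∈ Subgroup.closure ({u, QuotientGroup.mk A} : Set (PSL2 F)) := Subgroup.subset_closure (Or.inl rfl)
      have hyH : (QuotientGroup.mk A : PSL2 F) ∈ Subgroup.closure ({u, QuotientGroup.mk A} : Set (PSL2 F)) :=
        Subgroup.subset_closure (Or.inr rfl)
      rcases hcases _ (closure_ne_top hG hy) with ⟨w, hw⟩ | ⟨N, n, ⟨hn2, ⟨e⟩, -, hn⟩, hle⟩
      · have hw' : (QuotientGroup.mk A : PSL2 F) • w = w := hw hyH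
        rw [hfix w (hw hxH)] at hw'
        exact absurd ((PLocalB.smul_infty_iff A).mp hw') h10
      · haveI : NeZero n := ⟨by omega⟩
        have hnodd : n % 2 = 1 := by
          rcases d_even_or_odd (F := F) with ⟨hd, -⟩ | ⟨-, h⟩
          · rw [hd] at hn; omega
          · omega
        have hox : orderOf (e ⟨u, hle hxH⟩) = 2 := by rw [MulEquiv.orderOf_eq, Subgroup.orderOf_mk, hord]
        rcases hi : e ⟨u, hle hxH⟩ with i | i
        · rw [hi, DihedralGroup.orderOf_r] at hox
          have : 2 ∣ n := hox ▸ Nat.div_dvd_of_dvd (Nat.gcd_dvd_left _ _)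
          omega
        · rcases hj : e ⟨QuotientGroup.mk A, hle hyH⟩ with j | j
          · right
            rw [← hmul]
            refine str_eq_zero_of_orderOf ?_
            rw [QuotientGroup.mk_mul, ← hu, ← Subgroup.orderOf_mk (H := N) _ (mul_mem (hle hxH) (hle hyH)),
              ← MulEquiv.orderOf_eq e, show (⟨u * QuotientGroup.mk A, _⟩ : N) = ⟨u, hle hxH⟩ * ⟨_, hle hyH⟩ from rfl,
              map_mul, hi, hj, DihedralGroup.sr_mul_r, DihedralGroup.orderOf_sr]
          · left
            refine str_eq_zero_of_orderOf ?_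
            rw [← Subgroup.orderOf_mk (H := N) _ (hle hyH), ← MulEquiv.orderOf_eq e, hj, DihedralGroup.orderOf_sr]
    · rintro (h | ⟨-, h | h⟩)
      · exact solPair_of_mem hG (stabilizer_point_ne_top (∞ : OnePoint F))
          ((PLocalB.smul_infty_iff (PLocalB.upper b)).mpr rfl) ((PLocalB.smul_infty_iff A).mpr h)
      · exact solPair_involutions hG huu (two_ne_one_iff h)
      · refine solPair_mul (solPair_involutions hG huu ?_)
        rw [hu, ← QuotientGroup.mk_mul]
        exact two_ne_one_iff ((hmul A).trans h)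
  have hcS : Nat.card S = 2 * (Fintype.card F - 1) := by
    have e : S ≃ Fˣ ⊕ Fˣ :=
      { toFun := fun z => if z.1.1 = 0 then Sum.inl (Units.mk0 _ z.2.1) else Sum.inr (Units.mk0 _ z.2.1)
        invFun := fun z => match z with
          | Sum.inl c => ⟨((0 : F), (c : F)), c.ne_zero, Or.inl rfl⟩
          | Sum.inr c => ⟨(b * (c : F), (c : F)), c.ne_zero, Or.inr (by
              linear_combination (b * (c : F)) * h20)⟩
        left_inv := by
          rintro ⟨⟨t, c⟩, hc0, h⟩
          by_cases ht : t = 0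
          · simp [ht]
          · have h' : b * c = t := by
              have := h.resolve_left ht
              linear_combination this - t * h20
            simp [ht, h']
        right_inv := by
          rintro (c | c)
          · simp
          · simp [hb] }
    rw [Nat.card_congr e, Nat.card_sum, Nat.card_units, Nat.card_eq_fintype_card]
    ring
  have hd : Nat.gcd 2 (Fintype.card F - 1) = 1 := by
    rcases d_even_or_odd (F := F) with ⟨h, -⟩ | ⟨-, h⟩
    · exact h
    · omega
  have := card_preimage (fun y => SolPair u y)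
  rw [hd, one_mul, Nat.card_congr (Equiv.subtypeEquivRight key), card_upper_count S (fun z hz => hz.1), hcS] at this
  rw [← this]
  ring

end Cfsg.Agent.Dickson
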